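import Cfsg.Agent.Lib.JComponent.Situation
import Cfsg.Agent.Lib.Involution.StrongEmb
import Cfsg.Agent.S2947

/-!
# Every maximal straddling subgroup carries an edge

* `exists_maxStraddling`, `sit_of_outside`, `sit_of_local`
* `no_unique`: a Sylow subgroup with a component has two maximal 2-local overgroups
* `sylow_facts`, `sylow_edge`, `exists_edge`
-/

set_option autoImplicit false
set_option synthInstance.maxSize 512

namespace Cfsg.Agent.JComponent

open Subgroup LocalStructure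
open scoped commutatorElement

universe u

variable {G : Type u} [Group G] [Finite G]

theorem exists_maxStraddling {M : Subgroup G} (h : (straddlingTwoSubgroups M).Nonempty) :
    ∃ T, T ∈ maxStraddlingTwoSubgroups M := by
  obtain ⟨A, hA, hAmax⟩ := Set.exists_max_image _ (fun T : Subgroup G => maxElemAbelianOrder T)
    (Set.toFinite _) h
  obtain ⟨B, hB, hBmax⟩ := Set.exists_max_image
    {T ∈ straddlingTwoSubgroups M | maxElemAbelianOrder T = maxElemAbelianOrder A}
    (fun T : Subgroup G => Nat.card ↥(thompsonSubgroupOf 2 T)) (Set.toFinite _) ⟨A, hA, rfl⟩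
  obtain ⟨C, hC, hCmax⟩ := Set.exists_max_image
    {T ∈ straddlingTwoSubgroups M | maxElemAbelianOrder T = maxElemAbelianOrder A ∧
      Nat.card ↥(thompsonSubgroupOf 2 T) = Nat.card ↥(thompsonSubgroupOf 2 B)}
    (fun T : Subgroup G => Nat.card T) (Set.toFinite _) ⟨B, hB.1, hB.2, rfl⟩
  refine ⟨C, hC.1, fun T hT => ⟨hC.2.1.symm ▸ hAmax T hT, fun e => ?_⟩⟩
  have e' : maxElemAbelianOrder T = maxElemAbelianOrder A := e.trans hC.2.1
  refine ⟨hC.2.2.symm ▸ hBmax T ⟨hT, e'⟩, fun e2 => hCmax T ⟨hT, e', e2.trans hC.2.2⟩⟩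

variable (hG : ZN G)
include hG

theorem sit_of_outside {M T K : Subgroup G} (hT : T ∈ maxStraddlingTwoSubgroups M)
    (hMJT : normalizer (jOf T : Set G) ≤ M) (hK : K ∈ jComponentsOutside M T) :
    ∃ L, Sit M T L K := by
  obtain ⟨⟨hKc, -⟩, hKM, hQ⟩ := hK
  have hR := ref_of_max hG.char2 hT hMJT
  obtain ⟨L, hLmax, hle, huniq⟩ := unique_maximal hG.char2 hG.solv hG.zprop hR hKc hKM
  have hLM : ¬ L ≤ M := fun h => hKM ((le_sup_left.trans hle).trans h)
  have hX : IsTwoLocal (normalizer (pCoreOf 2 (K ⊔ T) : Set G)) :=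
    ⟨_, isPGroup_pCoreOf 2 _, hQ, rfl⟩
  have hKT : K ⊔ T ≤ normalizer (pCoreOf 2 (K ⊔ T) : Set G) := le_normalizer_pCoreOf 2 _
  have hTL : T ≤ L := (le_sup_right.trans hKT).trans (huniq _ hX
    (sup_le (le_sup_left.trans hKT) (((PGroup.thompsonSubgroupOf_le T).trans le_sup_right).trans hKT)))
  exact ⟨L, hR, hKc, hKM, (max_mem_jOvergroups hT hMJT hG.char2 hLmax.1 hLM hTL).1, hLmax, hle,
    huniq⟩

theorem sit_of_local (S : Sylow 2 G) {X : Subgroup G} (hX : IsTwoLocal X)
    (hSX : (S : Subgroup G) ≤ X) (hXJ : ¬ X ≤ normalizer (jOf (S : Subgroup G) : Set G)) :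
    ∃ L K, Sit (normalizer (jOf (S : Subgroup G) : Set G)) (S : Subgroup G) L K ∧ K ≤ X ∧
      X ≤ L := by
  have : Fact (Nat.Prime 2) := ⟨Nat.prime_two⟩
  have hR := ref_of_sylow hG.char2 S
  have hS : IsSylowTwoIn (S : Subgroup G) X := sylowTwoIn_iff.mpr (isSylowIn_of_sylow S hSX)
  obtain ⟨-, hmem⟩ := hR.sylow X hX hXJ _ hS (PGroup.thompsonSubgroupOf_le _)
  have hs := setting_of_mem hG.solv hG.zprop hmem
  obtain ⟨x, W, hx⟩ := hs.exists_planeIn
  obtain ⟨K, hK, hKX, -⟩ := hs.exists_component hx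
  have hKJ := comp_not_le hK S.2
  obtain ⟨L, hLmax, hle, huniq⟩ := unique_maximal hG.char2 hG.solv hG.zprop hR hK hKJ
  have hXL : X ≤ L :=
    huniq X hX (sup_le hKX ((PGroup.thompsonSubgroupOf_le _).trans hSX))
  exact ⟨L, K, ⟨hR, hK, hKJ, sylowTwoIn_iff.mpr (isSylowIn_of_sylow S (hSX.trans hXL)), hLmax,
    hle, huniq⟩, hKX, hXL⟩

theorem twoClosed_central (S : Sylow 2 G) {y : G} (hy : y ∈ omegaCenterOf (S : Subgroup G))
    (hgen : ∀ c : G, Commute c y → c ∈ centralizer (omegaCenterOf (S : Subgroup G) : Set G)) :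
    TwoClosed (centralizer ({y} : Set G)) :=
  twoClosed_of_sylow S
    (fun _ hs => mem_centralizer_singleton_iff.mpr ((omegaCenterOf_le _ hy).2 _ hs))
    (fun c hc => hG.zprop S (hgen c (mem_centralizer_singleton_iff.mp hc)))

omit hG in
theorem commute_of_two {Z : Subgroup G} (hZ : Nat.card Z = 2) {y c : G} (hy : y ∈ Z) (hy1 : y ≠ 1)
    (hc : Commute c y) : c ∈ centralizer (Z : Set G) := by
  intro x hx
  by_cases hx1 : x = 1
  · rw [hx1, one_mul, mul_one]
  · obtain ⟨z, -, huniq⟩ := (Nat.card_eq_two_iff' (1 : ↥Z)).mp hZ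
    have e : (⟨x, hx⟩ : ↥Z) = ⟨y, hy⟩ := (huniq _ fun e => hx1 (congrArg Subtype.val e)).trans
      (huniq _ fun e => hy1 (congrArg Subtype.val e)).symm
    rw [show x = y from congrArg Subtype.val e]
    exact hc.symm.eq

omit hG in
theorem exists_central_involution (S : Sylow 2 G) (hS : (S : Subgroup G) ≠ ⊥) :
    ∃ z ∈ omegaCenterOf (S : Subgroup G), z ≠ 1 := by
  have : Fact (Nat.Prime 2) := ⟨Nat.prime_two⟩
  obtain ⟨⟨z, hzS⟩, -, hzc, hz⟩ := PGroup.exists_orderOf_eq_mem_center S.2 ⊤ fun h0 => hS (by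
    refine (eq_bot_iff_forall _).mpr fun x hx => ?_
    have := h0.le (mem_top (⟨x, hx⟩ : ↥(S : Subgroup G)))
    exact congrArg Subtype.val (mem_bot.mp this))
  rw [orderOf_mk] at hz
  refine ⟨z, mem_omegaCenterOf hzS
    (fun t ht => congrArg Subtype.val (mem_center_iff.mp hzc ⟨t, ht⟩))
    (by rw [← hz]; exact pow_orderOf_eq_one z), fun he => ?_⟩
  rw [he, orderOf_one] at hz
  omega

theorem sylow_ne_bot {M L K : Subgroup G} {S : Sylow 2 G} (h : Sit M (S : Subgroup G) L K) :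
    (S : Subgroup G) ≠ ⊥ := fun h0 => (h.setting hG).notJ
  (((PGroup.thompsonSubgroupOf_le _).trans h0.le).trans bot_le)

/-- Unique maximal overgroup plus a component is impossible. -/
theorem no_unique (hO : pCore 2 G = ⊥) {S : Sylow 2 G} {L K : Subgroup G}
    (h : Sit (normalizer (jOf (S : Subgroup G) : Set G)) (S : Subgroup G) L K)
    (hNJ : normalizer (jOf (S : Subgroup G) : Set G) ≤ L)
    (huniq : ∀ X : Subgroup G, IsMaximalTwoLocal X → (S : Subgroup G) ≤ X → X = L) : False := by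
  have : Fact (Nat.Prime 2) := ⟨Nat.prime_two⟩
  have hSL : (S : Subgroup G) ≤ L := h.syl.1
  have hs := h.setting hG
  have hΩ : ∀ (S' : Sylow 2 G), (S' : Subgroup G) ≤ L →
      omegaCenterOf (S' : Subgroup G) ≤ vOf L := by
    intro S' hS' x hx
    have hQ : pCoreOf 2 L ≤ (S' : Subgroup G) :=
      (sylowTwoIn_iff.mp (sylowTwoIn_iff.mpr (isSylowIn_of_sylow S' hS'))).pCoreOf_le
    have hc : x ∈ centralizer (pCoreOf 2 L : Set G) := fun q hq =>
      (omegaCenterOf_le _ hx).2 q (hQ hq)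
    exact mem_omegaCenterOf (hs.cen hc) hc ((isElementaryAbelian_omegaCenterOf _).2 x hx)
  rcases (straddlingTwoSubgroups L).eq_empty_or_nonempty with hempty | hne
  · -- `L` is strongly embedded
    have hC : S2947.Closed L := by
      intro Q hQ hQL hQ1
      by_contra hle
      have hmem : Q ∈ straddlingTwoSubgroups L :=
        ⟨hQ, hQ1, hQL, normalizer (Q : Set G), ⟨Q, hQ, hQ1, rfl⟩, le_normalizer, hle⟩
      rw [hempty] at hmem
      exact hmem
    have hQ1 := (cen_of_twoLocal hG.char2 h.max.1).2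
    obtain ⟨z, hz, hz1⟩ := exists_central_involution S (sylow_ne_bot hG h)
    have hzo : orderOf z = 2 :=
      orderOf_eq_prime ((isElementaryAbelian_omegaCenterOf _).2 z hz) hz1
    have hzL : z ∈ L := hSL (omegaCenterOf_le _ hz).1
    have hSE : IsStronglyEmbedded L := by
      refine S2947.stronglyEmbedded_of_closed (fun htop => hQ1 ?_) ?_ hC
      · have hn : (pCoreOf 2 L).Normal := normalizer_eq_top_iff.mp
          (top_le_iff.mp (htop.ge.trans (le_normalizer_pCoreOf 2 L)))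
        rw [← le_bot_iff, ← hO]
        exact le_sSup ⟨hn, isPGroup_pCoreOf 2 L⟩
      · rw [even_iff_two_dvd, ← hzo, ← Nat.card_zpowers]
        exact card_dvd_of_le (zpowers_le.mpr hzL)
    refine hs.notJ (le_trans ?_ (vOf_le L))
    show thompsonSubgroupOf 2 (S : Subgroup G) ≤ vOf L
    rw [PGroup.thompsonSubgroupOf_eq]
    refine sSup_le fun A hA a ha => ?_
    by_cases ha1 : a = 1
    · rw [ha1]; exact one_mem _
    obtain ⟨c, hc⟩ := isConj_iff.mp (Involution.StrongEmb.isConj_involutions hSE hzo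
      (orderOf_eq_prime (hA.2.1.2 a ha) ha1))
    have hcL : c ∈ L := Involution.StrongEmb.mem_of_conj_eq hSE hzL hzo hc (hSL (hA.1 ha))
    rw [← hc]
    exact (mem_normalizer_iff.mp (le_normalizer_vOf L hcL) z).mp (hΩ S hSL hz)
  -- a maximal straddling subgroup
  obtain ⟨T, hT⟩ := exists_maxStraddling hne
  have hMJT := max_normalizer_le hT S hNJ
  obtain ⟨K', hK'⟩ := exists_component_outside hT hMJT hG.char2 hG.solv hG.zprop
  obtain ⟨L', h'⟩ := sit_of_outside hG hT hMJT hK'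
  obtain ⟨l, hl, hle⟩ := (isSylowIn_of_sylow S hSL).exists_conj_le hT.1.1 hT.1.2.2.1
  set S' : Sylow 2 G := MulAut.conj l⁻¹ • S with hS'
  have hS'map : (S' : Subgroup G) = (S : Subgroup G).map (MulAut.conj l⁻¹).toMonoidHom := rfl
  have hTS' : T ≤ (S' : Subgroup G) := by
    intro t ht
    rw [hS'map]
    exact ⟨l * t * l⁻¹, hle ⟨t, ht, rfl⟩, by simp [mul_assoc]⟩
  have hS'L : (S' : Subgroup G) ≤ L := by
    rw [hS'map]; exact map_conj_le hSL (inv_mem hl)
  have huniq' : ∀ X : Subgroup G, IsMaximalTwoLocal X → (S' : Subgroup G) ≤ X → X = L := by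
    intro X hX hSX
    have hinv : ∀ a : G, ∀ Y : Subgroup G,
        (Y.map (MulAut.conj a⁻¹).toMonoidHom).map (MulAut.conj a).toMonoidHom = Y := fun a Y => by
      rw [← map_conj_mul, mul_inv_cancel, map_conj_one]
    have hmax : IsMaximalTwoLocal (X.map (MulAut.conj l).toMonoidHom) := by
      refine ⟨isTwoLocal_map_conj hX.1 l, fun N hN hXN => ?_⟩
      have h1 : X ≤ N.map (MulAut.conj l⁻¹).toMonoidHom := by
        have := map_mono (f := (MulAut.conj l⁻¹).toMonoidHom) hXN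
        rwa [← map_conj_mul, inv_mul_cancel, map_conj_one] at this
      rw [← hinv l N, hX.2 _ (isTwoLocal_map_conj hN l⁻¹) h1]
    have h2 := huniq _ hmax (by
      rw [← hinv l (S : Subgroup G), ← hS'map]
      exact map_mono hSX)
    refine map_injective (f := (MulAut.conj l).toMonoidHom) (MulAut.conj l).injective ?_
    rw [h2, LocalStructure.map_conj_eq_self (le_normalizer hl)]
  have hne' : T ≠ S' := by
    intro e
    obtain ⟨X, hX, hTX, hXL⟩ := hT.1.2.2.2
    obtain ⟨X', hX', hXX'⟩ := exists_maximal_twoLocal hX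
    exact hXL ((hXX'.trans (huniq' X' hX' (e ▸ hTX.trans hXX')).le))
  obtain ⟨g, hgS, hgT, hgL⟩ := h'.exists_g hTS' hne'
  have e := h'.lower_edge hG hTS' hgS hgT hgL
  have v := e.left
  obtain ⟨hLP, -, hQE, -, -⟩ := e.local_eq hG
  obtain ⟨hc4, -, -, hZ2⟩ := h'.lower_facts hG hTS' hgS hgT hgL
  have hgTe : T.map (MulAut.conj g).toMonoidHom = T := PGroup.map_conj_eq_of_mem_normalizer hgT
  set E := vOf (pOf T K') with hE
  set E' := vOf (pOf T (K'.map (MulAut.conj g).toMonoidHom)) with hE'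
  have hEE' : E.map (MulAut.conj g).toMonoidHom = E' := by
    rw [hE, hE', ← vOf_map_conj, ← pOf_map_conj, hgTe]
  have hinf : E ⊓ E' = omegaCenterOf T := e.v_inf hG
  have hET : E ≤ T := (vOf_le _).trans (v.setting hG).pCore_le
  obtain ⟨a, haE', haT, haW, ha2⟩ := e.exists_a hG
  -- the involutions of `T` lie in `E ∪ E'`
  have hinv : ∀ x ∈ T, x ^ 2 = 1 → x ∈ E ∨ x ∈ E' := by
    intro x hxT hx2
    by_cases hxW : x ∈ centralizer (wOf K' : Set G)
    · left
      show x ∈ vOf (pOf T K')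
      rw [← e.core_eq hG]
      exact (v.mem_core_iff hG hxT).mpr hxW
    right
    rcases two_group_cases v.w4 v.syl.2.1 v.t_normW haT haW hxT with h1 | h1
    · exact absurd h1 hxW
    set b := a⁻¹ * x with hb
    have hbT : b ∈ T := mul_mem (inv_mem haT) hxT
    have hbE : b ∈ E := by
      show b ∈ vOf (pOf T K')
      rw [← e.core_eq hG]
      exact (v.mem_core_iff hG hbT).mpr h1
    have hab : Commute a b := by
      have hb2 : b ^ 2 = 1 := (isElementaryAbelian_omegaCenterOf _).2 b hbE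
      have hx' : (a * b) ^ 2 = 1 := by rw [hb, mul_inv_cancel_left]; exact hx2
      rw [sq] at ha2 hb2 hx'
      show a * b = b * a
      calc a * b = (a * b)⁻¹ := eq_inv_of_mul_eq_one_left hx'
        _ = b⁻¹ * a⁻¹ := mul_inv_rev _ _
        _ = b * a := by rw [inv_eq_of_mul_eq_one_left ha2, inv_eq_of_mul_eq_one_left hb2]
    obtain ⟨w, hw, f, hf, hwf⟩ := (v.mem_v hG).mp hbE
    have hwc : Commute w a := by
      have h2 : Commute (w * f) a := hwf ▸ hab.symm
      have h3 := h2.mul_left (v.t_comm_z haT hf.1).symm.inv_left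
      rwa [mul_inv_cancel_right] at h3
    have hsub : lineOf T K' ≤ wOf K' ⊓ centralizer ({a} : Set G) := fun z hz =>
      ⟨hz.2, mem_centralizer_singleton_iff.mpr (v.t_comm_z haT hz.1).symm.eq⟩
    have hwl : w ∈ lineOf T K' :=
      (eq_of_le_of_card_ge hsub (by rw [v.line_card]; exact card_fix_le v.w4 haW)).ge
        ⟨hw, mem_centralizer_singleton_iff.mpr hwc.eq⟩
    have hbZ : b ∈ omegaCenterOf T := hwf ▸ mul_mem hwl.1 hf.1
    rw [show x = a * b by rw [hb, mul_inv_cancel_left]]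
    exact mul_mem haE' (e.right.z_le_v hG hbZ)
  -- normal elementary abelian subgroups lie in `Z₀`
  set V := vOf L with hV
  have hVe : IsElementaryAbelian 2 V := isElementaryAbelian_omegaCenterOf _
  have hVS' : V ≤ (S' : Subgroup G) := (vOf_le L).trans
    ((sylowTwoIn_iff.mp (sylowTwoIn_iff.mpr (isSylowIn_of_sylow S' hS'L))).pCoreOf_le)
  have hVn : ∀ s ∈ L, ∀ x ∈ V, s * x * s⁻¹ ∈ V := fun s hs x hx =>
    (mem_normalizer_iff.mp (le_normalizer_vOf L hs) x).mp hx
  have hVT : ∀ x ∈ V, x ∈ T → x ∈ omegaCenterOf T := by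
    intro x hxV hxT
    have hgx : g * x * g⁻¹ ∈ V := hVn g (hS'L hgS) x hxV
    have hgxT : g * x * g⁻¹ ∈ T := (mem_normalizer_iff.mp hgT x).mp hxT
    rw [← hinf]
    have hback : ∀ {m : G}, m ∈ E' → g⁻¹ * m * g ∈ E := fun hm =>
      mem_map_conj.mp (hEE'.ge hm)
    have hfwd : ∀ {m : G}, m ∈ E → g * m * g⁻¹ ∈ E' := fun hm =>
      hEE'.le (conj_mem_map_conj hm)
    have hg2 : ∀ {m : G}, g * m * g⁻¹ ∈ omegaCenterOf T → m ∈ omegaCenterOf T := fun {m} hm =>
      (mem_normalizer_iff.mp (normalizer_le_normalizer_omegaCenterOf T hgT) m).mpr hm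
    have key : ∀ {p q : G}, p ∈ E → p ∉ E' → q ∈ E' → q ∉ E → p ∈ V → q ∈ V → p ∈ T →
        q ∈ T → False := by
      intro p q hpE hpE' hqE' hqE hpV hqV hpT hqT
      rcases hinv _ (mul_mem hpT hqT) (hVe.2 _ (mul_mem hpV hqV)) with h1 | h1
      · exact hqE (by simpa using mul_mem (inv_mem hpE) h1)
      · exact hpE' (by simpa using mul_mem h1 (inv_mem hqE'))
    rcases hinv x hxT (hVe.2 x hxV) with hx1 | hx1
    · refine ⟨hx1, by_contra fun hx2 => ?_⟩
      exact key hx1 hx2 (hfwd hx1) (fun h3 => hx2 ((hinf.ge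
        (hg2 (hinf.le ⟨h3, hfwd hx1⟩))).2)) hxV hgx hxT hgxT
    · refine ⟨by_contra fun hx2 => ?_, hx1⟩
      have hy := hback hx1
      have hyV : g⁻¹ * x * g ∈ V := by
        simpa using hVn g⁻¹ (inv_mem (hS'L hgS)) x hxV
      have hyT : g⁻¹ * x * g ∈ T := (mem_normalizer_iff''.mp hgT x).mp hxT
      refine key hy (fun h3 => hx2 ?_) hx1 hx2 hyV hxV hyT hxT
      have h4 : g * (g⁻¹ * x * g) * g⁻¹ ∈ omegaCenterOf T :=
        (mem_normalizer_iff.mp (normalizer_le_normalizer_omegaCenterOf T hgT) _).mp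
          (hinf.le ⟨hy, h3⟩)
      exact (hinf.ge (by simpa [mul_assoc] using h4)).1
  have hVle : V ≤ omegaCenterOf T := by
    suffices hle' : V ≤ T from fun x hx => hVT x hx (hle' hx)
    by_contra hVnT
    have hTV : T ≤ normalizer (V : Set G) :=
      (hTS'.trans hS'L).trans (le_normalizer_vOf L)
    obtain ⟨y, hy, hyT, hyn⟩ := exists_lt_inf_normalizer (S'.2.to_le (sup_le hTS' hVS'))
      (le_sup_left : T ≤ T ⊔ V) fun e' => hVnT (le_sup_right.trans e'.ge)
    obtain ⟨t, ht, x, hx, rfl⟩ := exists_mul_of_mem_sup hTV hy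
    have hxn : x ∈ normalizer (T : Set G) := by
      simpa using mul_mem (inv_mem (le_normalizer ht)) hyn
    have hxT : x ∉ T := fun h1 => hyT (mul_mem ht h1)
    refine hxT (h'.mem_t hTS' (hVS' hx) ?_)
    rw [← maximal_normalizer hG h'.max]
    have hxE : x ∈ normalizer (E : Set G) := by
      refine Subnormal.mem_normalizer_of_cj_le ?_
      rw [Subnormal.cj, map_le_iff_le_comap]
      intro m hm
      show x * m * x⁻¹ ∈ E
      have hmT : m ∈ T := hET hm
      have hd : x * m * x⁻¹ * m⁻¹ ∈ V := by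
        rw [show x * m * x⁻¹ * m⁻¹ = x * (m * x⁻¹ * m⁻¹) by group]
        exact mul_mem hx (hVn m (hS'L (hTS' hmT)) _ (inv_mem hx))
      have hdT : x * m * x⁻¹ * m⁻¹ ∈ T :=
        mul_mem ((mem_normalizer_iff.mp hxn m).mp hmT) (inv_mem hmT)
      have := mul_mem ((hinf.ge (hVT _ hd hdT)).1) hm
      rwa [inv_mul_cancel_right] at this
    have hE2 : IsTwoLocal (normalizer (E : Set G)) :=
      ⟨E, (S'.2.to_le (hET.trans hTS')), fun e0 => by
        have h3 := v.w_le_v hG
        rw [← hE, e0, le_bot_iff] at h3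
        have := v.w4
        rw [h3, Subgroup.card_bot] at this
        omega, rfl⟩
    have hEN : normalizer (E : Set G) = L' := h'.max.2 _ hE2 (by
      rw [show E = pCoreOf 2 L' from hQE.symm]; exact le_normalizer_pCoreOf 2 L')
    rw [maximal_normalizer hG h'.max]
    exact hEN.le hxE
  -- a fusion of `H` into `Z(S')`
  obtain ⟨y₀, hy₀, -, hy₀O⟩ := (IsJComponent.pre h.comp).exists_three
  have hp := ((hs.comp_facts h.comp h.k_le).2.2.2 y₀ hy₀ hy₀O).2
  have hW4 : Nat.card (wOf K) = 4 := h.comp.2.2.2.2.1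
  have hWeq : wOf K = omegaCenterOf T :=
    eq_of_le_of_card_ge (hp.le.trans hVle) (by rw [hW4]; exact v.four)
  have hH2 : Nat.card ↥(hOf T K') = 2 := by
    have := v.card_z
    rw [← hWeq, hW4] at this
    omega
  obtain ⟨⟨a', ha'⟩, ha'1, -⟩ := (Nat.card_eq_two_iff' (1 : ↥(hOf T K'))).mp hH2
  obtain ⟨z, hz, hz1⟩ := exists_central_involution S' fun h0 => hne'
    ((le_antisymm hTS' (h0.le.trans bot_le)))
  obtain ⟨i, hi⟩ := mem_of_three hW4 (w := z) (hWeq ▸ hVle (hΩ S' hS'L hz)) hz1 hp.fpf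
    (l := a') (hWeq ▸ ha'.1) fun e' => ha'1 (Subtype.ext e')
  have hcl := (twoClosed_central hG S' hz fun c hc => commute_of_two hZ2 hz hz1 hc).map_conj
    (y₀ ^ i)
  rw [map_centralizer_singleton, hi] at hcl
  exact comp_not_closed h'.comp h'.syl.2.1
    (h'.le_centralizer (show a' ∈ hOf (jOf T) K' from ⟨v.omega ▸ ha'.1, ha'.2⟩)) hcl

section Sylow

variable {S : Sylow 2 G} {L K : Subgroup G}
  (h : Sit (normalizer (jOf (S : Subgroup G) : Set G)) (S : Subgroup G) L K)
include h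

/-- If `S` moves a small `Ω₁Z(J(S))`, its involutions are two conjugates of `a` and a central one. -/
theorem sylow_points (h2 : Nat.card ↥(hOf (jOf (S : Subgroup G)) K) ≤ 2)
    (hmove : ¬ omegaCenterOf (jOf (S : Subgroup G)) ≤ omegaCenterOf (S : Subgroup G)) :
    ∃ a ∈ hOf (jOf (S : Subgroup G)) K, a ≠ 1 ∧ ∃ t ∈ (S : Subgroup G),
      ∀ x ∈ omegaCenterOf (jOf (S : Subgroup G)), x ≠ 1 →
        x = a ∨ x = t * a * t⁻¹ ∨ TwoClosed (centralizer ({x} : Set G)) := by
  set Z := omegaCenterOf (S : Subgroup G) with hZ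
  set Z₀ := omegaCenterOf (jOf (S : Subgroup G)) with hZ₀
  have hle : Z ≤ Z₀ := omega_le_z
  obtain ⟨z, hz, hz1⟩ := exists_central_involution S (sylow_ne_bot hG h)
  have hcz : Nat.card Z₀ = 2 * Nat.card ↥(hOf (jOf (S : Subgroup G)) K) := h.card_z
  have hlt : Nat.card Z < Nat.card Z₀ := by
    by_contra hcon
    exact hmove (eq_of_le_of_card_ge hle (by omega)).ge
  have hge : 1 < Nat.card Z := by
    have : Nontrivial Z := ⟨⟨⟨z, hz⟩, 1, fun e => hz1 (congrArg Subtype.val e)⟩⟩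
    exact Finite.one_lt_card
  have hd := card_dvd_of_le hle
  have hd4 : Nat.card Z₀ = 4 := by omega
  have hZ2 : Nat.card Z = 2 := by
    rw [hd4] at hd hlt
    interval_cases Nat.card Z <;> omega
  obtain ⟨⟨a, ha⟩, ha1, -⟩ :=
    (Nat.card_eq_two_iff' (1 : ↥(hOf (jOf (S : Subgroup G)) K))).mp (by omega)
  have ha1' : a ≠ 1 := fun e => ha1 (Subtype.ext e)
  have hcl : ∀ x ∈ Z, x ≠ 1 → TwoClosed (centralizer ({x} : Set G)) := fun x hx hx1 =>
    twoClosed_central hG S hx fun c hc => commute_of_two hZ2 hx hx1 hc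
  have haZ : a ∉ Z := fun haZ =>
    comp_not_closed h.comp h.syl.2.1 (h.le_centralizer ha) (hcl a haZ ha1')
  obtain ⟨t, ht, hta⟩ : ∃ t ∈ (S : Subgroup G), t * a * t⁻¹ ≠ a := by
    by_contra hcon
    push Not at hcon
    exact haZ (mem_omegaCenterOf (PGroup.thompsonSubgroupOf_le _ (omegaCenterOf_le _ ha.1).1)
      (fun t ht => mul_inv_eq_iff_eq_mul.mp (hcon t ht))
      ((isElementaryAbelian_omegaCenterOf _).2 a ha.1))
  refine ⟨a, ha, ha1', t, ht, fun x hx hx1 => ?_⟩
  have hb : t * a * t⁻¹ ∈ Z₀ :=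
    (mem_normalizer_iff.mp (normalizer_le_normalizer_z _ (le_normalizer ht)) a).mp ha.1
  have hbz : t * a * t⁻¹ ≠ z := fun e => haZ (by
    have h5 := (omegaCenterOf_le _ hz).2 t ht
    have h6 : a = z := by
      rw [← e] at h5
      have := congrArg (fun s => t⁻¹ * s) h5
      have h7 : t * a * t⁻¹ = a := by simpa [mul_assoc] using this
      exact h7.symm.trans e
    exact h6 ▸ hz)
  rcases four_cases hd4 ha.1 hb (hle hz) ha1' (fun e => ha1' (conj_eq_one_iff.mp e)) hz1
    hta.symm (fun e => haZ (e ▸ hz)) hbz hx with rfl | rfl | rfl | rfl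
  · exact absurd rfl hx1
  · exact Or.inl rfl
  · exact Or.inr (Or.inl rfl)
  · exact Or.inr (Or.inr (hcl x hz hx1))

theorem sylow_facts (hO : pCore 2 G = ⊥) :
    omegaCenterOf (jOf (S : Subgroup G)) ≤ omegaCenterOf (S : Subgroup G) ∧
      Nat.card ↥(omegaCenterOf (jOf (S : Subgroup G))) ≤ 4 := by
  by_contra hnot
  have hcz := h.card_z
  have hmove : Nat.card ↥(hOf (jOf (S : Subgroup G)) K) ≤ 2 →
      ¬ omegaCenterOf (jOf (S : Subgroup G)) ≤ omegaCenterOf (S : Subgroup G) := fun h2 hle =>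
    hnot ⟨hle, by omega⟩
  have hSL : (S : Subgroup G) ≤ L := h.syl.1
  have hNJ : normalizer (jOf (S : Subgroup G) : Set G) ≤ L := by
    intro n hn
    by_contra hnL
    have hnZ := normalizer_le_normalizer_omegaCenterOf (jOf (S : Subgroup G)) hn
    have h2 := h.h_le_two hG hnZ hnL
    obtain ⟨a, ha, ha1, t, ht, hpts⟩ := sylow_points hG h h2 (hmove h2)
    rcases hpts _ ((mem_normalizer_iff.mp hnZ a).mp ha.1)
      (fun e => ha1 (conj_eq_one_iff.mp e)) with e | e | e
    · exact hnL (h.mem_of_conj hG ha ha1 (e.symm ▸ ha))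
    · have h5 : t⁻¹ * n ∈ L := h.mem_of_conj hG ha ha1 (by
        rw [show t⁻¹ * n * a * (t⁻¹ * n)⁻¹ = t⁻¹ * (n * a * n⁻¹) * t by group, e]
        simpa [mul_assoc] using ha)
      exact hnL (by simpa using mul_mem (hSL ht) h5)
    · have h6 := e.map_conj n⁻¹
      rw [map_centralizer_singleton, show n⁻¹ * (n * a * n⁻¹) * n⁻¹⁻¹ = a by group] at h6
      exact comp_not_closed h.comp h.syl.2.1 (h.le_centralizer ha) h6
  refine no_unique hG hO h hNJ fun X hX hSX => by_contra fun hne => ?_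
  have hXJ : ¬ X ≤ normalizer (jOf (S : Subgroup G) : Set G) := fun hle =>
    hne (hX.2 L h.max.1 (hle.trans hNJ)).symm
  obtain ⟨L', K', h', -, hXL'⟩ := sit_of_local hG S hX.1 hSX hXJ
  obtain rfl : L' = X := hX.2 L' h'.max.1 hXL'
  have hJX : jOf (S : Subgroup G) ≤ L' := le_sup_right.trans h'.le
  have hfinal : K ≤ L' → False := fun hK =>
    hne (hX.2 L h.max.1 (h.uniq L' hX.1 (sup_le hK hJX))).symm
  set H := hOf (jOf (S : Subgroup G)) K
  set H' := hOf (jOf (S : Subgroup G)) K'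
  rcases Subgroup.bot_or_exists_ne_one (H ⊓ H') with hbot | ⟨x, hx, hx1⟩
  swap
  · exact hfinal ((le_sup_left.trans (h.le_centralizer hx.1)).trans
      (h'.centralizer_le hx.2 hx1))
  have hn : H ≤ normalizer (H' : Set G) := fun a ha =>
    Subgroup.centralizer_le_normalizer _ fun b hb => PGroup.mul_comm_of_elementaryAbelian
      (isElementaryAbelian_omegaCenterOf _) hb.1 ha.1
  have e := Offender.card_sup_mul_card_inf hn
  rw [hbot, Subgroup.card_bot, mul_one] at e
  have h1 := card_le_of_le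
    (sup_le inf_le_left inf_le_left : H ⊔ H' ≤ omegaCenterOf (jOf (S : Subgroup G)))
  have hcz' := h'.card_z
  rw [e, hcz] at h1
  have heq : Nat.card H' = Nat.card H := by
    have : 2 * Nat.card H' = 2 * Nat.card H := hcz'.symm.trans hcz
    omega
  rw [heq] at h1
  have h2 : Nat.card H ≤ 2 := Nat.le_of_mul_le_mul_right h1 Nat.card_pos
  obtain ⟨a, ha, ha1, t, ht, hpts⟩ := sylow_points hG h h2 (hmove h2)
  obtain ⟨⟨b, hb⟩, hb1, -⟩ := (Nat.card_eq_two_iff' (1 : ↥H')).mp (by
    have h3 : 1 < Nat.card H := by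
      have : Nontrivial ↥H := ⟨⟨⟨a, ha⟩, 1, fun e => ha1 (congrArg Subtype.val e)⟩⟩
      exact Finite.one_lt_card
    omega)
  have hb1' : b ≠ 1 := fun e => hb1 (Subtype.ext e)
  rcases hpts b hb.1 hb1' with e | e | e
  · exact hfinal ((le_sup_left.trans (h.le_centralizer ha)).trans
      (h'.centralizer_le (e ▸ hb : a ∈ H') ha1))
  · refine hfinal fun k hk => ?_
    have h5 : t * k * t⁻¹ ∈ centralizer ({t * a * t⁻¹} : Set G) := by
      rw [← map_centralizer_singleton]
      exact ⟨k, h.le_centralizer ha (mem_sup_left hk), rfl⟩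
    have h6 := h'.centralizer_le (e ▸ hb : t * a * t⁻¹ ∈ H')
      (fun e' => ha1 (conj_eq_one_iff.mp e')) h5
    simpa [mul_assoc] using mul_mem (mul_mem (inv_mem (hSX ht)) h6) (hSX ht)
  · exact comp_not_closed h'.comp h'.syl.2.1 (h'.le_centralizer hb) e

theorem sylow_edge (hO : pCore 2 G = ⊥) :
    ∃ L₂ K₂, Edge (S : Subgroup G) L K L₂ K₂ := by
  have : Fact (Nat.Prime 2) := ⟨Nat.prime_two⟩
  obtain ⟨hc, h4⟩ := sylow_facts hG h hO
  have v := h.vtx hG hc h4
  have hZS : (S : Subgroup G) ≤ centralizer (omegaCenterOf (jOf (S : Subgroup G)) : Set G) :=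
    fun s hs x hx => ((omegaCenterOf_le _ (hc hx)).2 s hs).symm
  have hCN : centralizer (omegaCenterOf (jOf (S : Subgroup G)) : Set G) ≤
      normalizer ((S : Subgroup G) : Set G) := fun c hcc => hG.zprop S fun x hx =>
    hcc x (omega_le_z hx)
  have hNJ : normalizer (jOf (S : Subgroup G) : Set G) ≤ normalizer ((S : Subgroup G) : Set G) := by
    intro n hn
    refine mem_normalizer_of_map_conj_le ?_
    have hmap : (S : Subgroup G).map (MulAut.conj n).toMonoidHom ≤
        normalizer ((S : Subgroup G) : Set G) := by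
      refine (map_mono hZS).trans ?_
      rw [map_centralizer_conj, PGroup.map_conj_eq_of_mem_normalizer
        (normalizer_le_normalizer_omegaCenterOf _ hn)]
      exact hCN
    have h2 := (isPGroup_map_conj S.2 n).to_sup_of_normal_right' S.2 hmap
    exact le_sup_left.trans (S.is_maximal' h2 le_sup_right).le
  have hcover : Cover (S : Subgroup G) := by
    intro x hx hx1
    have ho : orderOf x = 2 :=
      orderOf_eq_prime ((isElementaryAbelian_omegaCenterOf _).2 x hx) hx1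
    have hSX : (S : Subgroup G) ≤ centralizer ({x} : Set G) := fun s hs =>
      mem_centralizer_singleton_iff.mpr ((omegaCenterOf_le _ hx).2 s hs)
    by_cases hXJ : centralizer ({x} : Set G) ≤ normalizer (jOf (S : Subgroup G) : Set G)
    · exact Or.inl (twoClosed_of_sylow S hSX (hXJ.trans hNJ))
    · obtain ⟨L', K', h', hK'X, -⟩ :=
        sit_of_local hG S (isTwoLocal_centralizer ho) hSX hXJ
      exact Or.inr ⟨L', K', h'.vtx hG hc h4, hx, fun k hk =>
        mem_centralizer_singleton_iff.mp (hK'X hk)⟩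
  have hSL : (S : Subgroup G) ≤ L := h.syl.1
  by_cases hN : normalizer ((S : Subgroup G) : Set G) ≤ L
  swap
  · obtain ⟨g, hg, hgL⟩ := SetLike.not_le_iff_exists.mp hN
    have hv' := v.map_conj g
    rw [PGroup.map_conj_eq_of_mem_normalizer hg] at hv'
    exact ⟨_, _, v, hv', fun e => hgL (by
      rw [← maximal_normalizer hG h.max]
      exact PGroup.mem_normalizer_of_map_conj_eq e.symm), hcover⟩
  by_contra hcon
  refine no_unique hG hO h (hNJ.trans hN) fun X hX hSX => by_contra fun hne => hcon ?_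
  obtain ⟨L', K', h', -, hXL'⟩ := sit_of_local hG S hX.1 hSX fun hle =>
    hne (hX.2 L h.max.1 ((hle.trans hNJ).trans hN)).symm
  obtain rfl : L' = X := hX.2 L' h'.max.1 hXL'
  exact ⟨L', K', v, h'.vtx hG hc h4, fun e => hne e.symm, hcover⟩

end Sylow

/-- Every maximal straddling subgroup carries an edge through each outside component. -/
theorem exists_edge (hO : pCore 2 G = ⊥) {M T K : Subgroup G}
    (hT : T ∈ maxStraddlingTwoSubgroups M) (hMJT : normalizer (jOf T : Set G) ≤ M)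
    (hK : K ∈ jComponentsOutside M T) :
    ∃ L L₂ K₂, Sit M T L K ∧ Edge T L K L₂ K₂ := by
  obtain ⟨L, h⟩ := sit_of_outside hG hT hMJT hK
  obtain ⟨S, hTS⟩ := hT.1.1.exists_le_sylow
  by_cases hne : T = S
  · subst hne
    obtain ⟨L₂, K₂, e⟩ := sylow_edge hG (L := L) (K := K)
      ⟨ref_of_sylow hG.char2 S, h.comp, comp_not_le h.comp S.2, h.syl, h.max, h.le, h.uniq⟩ hO
    exact ⟨L, L₂, K₂, h, e⟩
  · obtain ⟨g, hgS, hgT, hgL⟩ := h.exists_g hTS hne
    exact ⟨L, _, _, h, h.lower_edge hG hTS hgS hgT hgL⟩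

end Cfsg.Agent.JComponent
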