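import Cfsg.Agent.Lib.Offender.Replacement
import Mathlib.GroupTheory.Perm.Fin

/-!
# Actions on four-groups and order-three actions on elementary abelian 2-groups

* `exists_perm`: `N(W) → Perm (Fin 3)` for `|W| = 4`; consequences `pow_six_mem`, `sq_comm_mem`,
  `conj_fpf`, `invert_unique`, `invert_of_fixed`, `same_of_commute`, `card_fix_le`
* `Tri V y`: `y` acts on the elementary abelian 2-group `V` with `y³ = 1`; the range `[V, y]`
-/

set_option autoImplicit false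

namespace Cfsg.Agent.JComponent

open Subgroup
open scoped commutatorElement

universe u

variable {G : Type u} [Group G]

theorem mem_centralizer_iff_conj {W : Subgroup G} {g : G} :
    g ∈ centralizer (W : Set G) ↔ ∀ w ∈ W, g * w * g⁻¹ = w := by
  rw [mem_centralizer_iff]
  exact forall₂_congr fun w _ => by rw [mul_inv_eq_iff_eq_mul, eq_comm]

/-- The action of `N(W)` on the three involutions of a four-group. -/
theorem exists_perm {W : Subgroup G} (hW : Nat.card W = 4) :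
    ∃ ρ : ↥(normalizer (W : Set G)) →* Equiv.Perm (Fin 3),
      (∀ g, ρ g = 1 ↔ (g : G) ∈ centralizer (W : Set G)) ∧
      ∀ g, (∃ i, ρ g i = i) ↔ ∃ w ∈ W, w ≠ 1 ∧ Commute (g : G) w := by
  classical
  have : Finite W := Nat.finite_of_card_ne_zero (by omega)
  have := Fintype.ofFinite W
  have hc : Nat.card {w : W // w ≠ 1} = 3 := by
    rw [Nat.card_eq_fintype_card, Fintype.card_subtype_compl, Fintype.card_subtype_eq,
      ← Nat.card_eq_fintype_card, hW]
  obtain ⟨e⟩ : Nonempty (Fin 3 ≃ {w : W // w ≠ 1}) :=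
    ⟨(Finite.equivFinOfCardEq hc).symm⟩
  let act : ↥(normalizer (W : Set G)) →* Equiv.Perm {w : W // w ≠ 1} :=
    { toFun := fun g =>
        { toFun := fun w => ⟨⟨g * (w.1 : G) * (g : G)⁻¹, (mem_normalizer_iff.mp g.2 _).mp w.1.2⟩,
            fun h => w.2 (Subtype.ext (conj_eq_one_iff.mp (congrArg Subtype.val h)))⟩
          invFun := fun w => ⟨⟨(g : G)⁻¹ * (w.1 : G) * g, (mem_normalizer_iff''.mp g.2 _).mp w.1.2⟩,
            fun h => w.2 (Subtype.ext (conj_eq_one_iff.mp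
              (show (g : G)⁻¹ * (w.1 : G) * (g : G)⁻¹⁻¹ = 1 by simpa using congrArg Subtype.val h)))⟩
          left_inv := fun w => by ext; simp only; group
          right_inv := fun w => by ext; simp only; group }
      map_one' := by ext w; simp
      map_mul' := fun g h => by ext w; simp [mul_assoc] }
  refine ⟨(e.symm.permCongrHom).toMonoidHom.comp act, fun g => ?_, fun g => ⟨?_, ?_⟩⟩
  · rw [mem_centralizer_iff_conj]
    constructor
    · intro h w hw
      have h' : act g = 1 := e.symm.permCongrHom.injective (h.trans (map_one _).symm)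
      by_cases hw1 : w = 1
      · simp [hw1]
      · exact congrArg (fun x : {w : W // w ≠ 1} => (x.1 : G))
          (Equiv.congr_fun h' ⟨⟨w, hw⟩, fun h => hw1 (congrArg Subtype.val h)⟩)
    · intro h
      have : act g = 1 := by
        ext w
        exact h _ w.1.2
      show e.symm.permCongrHom (act g) = 1
      rw [this, map_one]
  · rintro ⟨i, hi⟩
    have h' : act g (e i) = e i := by simpa [Equiv.permCongrHom, Equiv.permCongr] using congrArg e hi
    refine ⟨(e i).1, (e i).1.2, fun h => (e i).2 (Subtype.ext h), ?_⟩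
    exact mul_inv_eq_iff_eq_mul.mp (congrArg (fun x : {w : W // w ≠ 1} => (x.1 : G)) h')
  · rintro ⟨w, hw, hw1, hc⟩
    refine ⟨e.symm ⟨⟨w, hw⟩, fun h => hw1 (congrArg Subtype.val h)⟩, ?_⟩
    have h' : act g ⟨⟨w, hw⟩, fun h => hw1 (congrArg Subtype.val h)⟩ =
        ⟨⟨w, hw⟩, fun h => hw1 (congrArg Subtype.val h)⟩ :=
      Subtype.ext (Subtype.ext (mul_inv_eq_iff_eq_mul.mpr hc.eq))
    simp [Equiv.permCongrHom, Equiv.permCongr, h']

/-- `x` normalises `W` and fixes no involution of it. -/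
def Fpf (W : Subgroup G) (x : G) : Prop :=
  x ∈ normalizer (W : Set G) ∧ ∀ w ∈ W, Commute w x → w = 1

section Four

variable {W : Subgroup G} (hW : Nat.card W = 4)
include hW

theorem pow_six_mem {g : G} (hg : g ∈ normalizer (W : Set G)) :
    g ^ 6 ∈ centralizer (W : Set G) := by
  obtain ⟨ρ, hk, -⟩ := exists_perm hW
  refine (hk (⟨g, hg⟩ ^ 6)).mp ?_
  rw [map_pow]
  revert ρ; intro ρ _
  generalize ρ ⟨g, hg⟩ = σ
  revert σ; decide +kernel

theorem sq_comm_mem {g h : G} (hg : g ∈ normalizer (W : Set G)) (hh : h ∈ normalizer (W : Set G)) :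
    ⁅g ^ 2, h ^ 2⁆ ∈ centralizer (W : Set G) := by
  obtain ⟨ρ, hk, -⟩ := exists_perm hW
  refine (hk ⁅(⟨g, hg⟩ : ↥(normalizer (W : Set G))) ^ 2, ⟨h, hh⟩ ^ 2⁆).mp ?_
  rw [map_commutatorElement, map_pow, map_pow]
  generalize ρ ⟨g, hg⟩ = σ
  generalize ρ ⟨h, hh⟩ = τ
  revert σ τ; decide +kernel

theorem conj_fpf {g x : G} (hg : g ∈ normalizer (W : Set G)) (hx : Fpf W x) :
    g * x * g⁻¹ * x⁻¹ ∈ centralizer (W : Set G) ∨ g * x * g⁻¹ * x ∈ centralizer (W : Set G) := by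
  obtain ⟨ρ, hk, hfix⟩ := exists_perm hW
  set g' : ↥(normalizer (W : Set G)) := ⟨g, hg⟩
  set x' : ↥(normalizer (W : Set G)) := ⟨x, hx.1⟩
  have h : ρ (g' * x' * g'⁻¹ * x'⁻¹) = 1 ∨ ρ (g' * x' * g'⁻¹ * x') = 1 := by
    have hno : ∀ i, ρ x' i ≠ i := fun i hi => by
      obtain ⟨w, hw, hw1, hc⟩ := (hfix x').mp ⟨i, hi⟩
      exact hw1 (hx.2 w hw hc.symm)
    simp only [map_mul, map_inv]
    generalize ρ x' = τ at hno
    generalize ρ g' = σ
    revert σ τ; decide +kernel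
  exact h.imp (hk _).mp (hk _).mp

/-- Two elements inverting a fixed-point-free `x` differ by a power of `x` on `W`. -/
theorem invert_unique {a u x : G} (ha : a ∈ normalizer (W : Set G))
    (hu : u ∈ normalizer (W : Set G)) (hx : Fpf W x)
    (hax : a * x * a⁻¹ * x ∈ centralizer (W : Set G))
    (hux : u * x * u⁻¹ * x ∈ centralizer (W : Set G)) :
    ∃ i : ℕ, a⁻¹ * u * x ^ i ∈ centralizer (W : Set G) := by
  obtain ⟨ρ, hk, hfix⟩ := exists_perm hW
  set a' : ↥(normalizer (W : Set G)) := ⟨a, ha⟩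
  set u' : ↥(normalizer (W : Set G)) := ⟨u, hu⟩
  set x' : ↥(normalizer (W : Set G)) := ⟨x, hx.1⟩
  suffices h : ∃ i : Fin 3, ρ (a'⁻¹ * u' * x' ^ (i : ℕ)) = 1 by
    obtain ⟨i, hi⟩ := h
    exact ⟨i, (hk _).mp hi⟩
  have hno : ∀ i, ρ x' i ≠ i := fun i hi => by
    obtain ⟨w, hw, hw1, hc⟩ := (hfix x').mp ⟨i, hi⟩
    exact hw1 (hx.2 w hw hc.symm)
  have h1 : ρ (a' * x' * a'⁻¹ * x') = 1 := (hk _).mpr hax
  have h2 : ρ (u' * x' * u'⁻¹ * x') = 1 := (hk _).mpr hux
  simp only [map_mul, map_inv, map_pow] at h1 h2 ⊢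
  have key : ∀ (τ : Equiv.Perm (Fin 3)), (τ 0 ≠ 0 ∧ τ 1 ≠ 1 ∧ τ 2 ≠ 2) →
      ∀ σ : Equiv.Perm (Fin 3), σ * τ * σ⁻¹ * τ = 1 → ∀ π : Equiv.Perm (Fin 3),
      π * τ * π⁻¹ * τ = 1 →
      σ⁻¹ * π * τ ^ 0 = 1 ∨ σ⁻¹ * π * τ ^ 1 = 1 ∨ σ⁻¹ * π * τ ^ 2 = 1 := by decide +kernel
  rcases key _ ⟨hno 0, hno 1, hno 2⟩ _ h1 _ h2 with e | e | e
  exacts [⟨0, e⟩, ⟨1, e⟩, ⟨2, e⟩]

/-- An element fixing an involution and moving `W` inverts a fixed-point-free one. -/
theorem invert_of_fixed {g x : G} (hg : g ∈ normalizer (W : Set G))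
    (hgc : g ∉ centralizer (W : Set G)) (hfixed : ∃ w ∈ W, w ≠ 1 ∧ Commute g w) (hx : Fpf W x) :
    g * x * g⁻¹ * x ∈ centralizer (W : Set G) := by
  obtain ⟨ρ, hk, hfix⟩ := exists_perm hW
  set g' : ↥(normalizer (W : Set G)) := ⟨g, hg⟩
  set x' : ↥(normalizer (W : Set G)) := ⟨x, hx.1⟩
  refine (hk (g' * x' * g'⁻¹ * x')).mp ?_
  have hno : ∀ i, ρ x' i ≠ i := fun i hi => by
    obtain ⟨w, hw, hw1, hc⟩ := (hfix x').mp ⟨i, hi⟩
    exact hw1 (hx.2 w hw hc.symm)
  have h1 : ρ g' ≠ 1 := fun h => hgc ((hk g').mp h)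
  have h2 : ∃ i, ρ g' i = i := (hfix g').mpr hfixed
  simp only [map_mul, map_inv]
  generalize ρ x' = τ at hno
  generalize ρ g' = σ at h1 h2
  revert σ τ; decide +kernel

theorem same_of_commute {a b : G} (ha : a ∈ normalizer (W : Set G))
    (hb : b ∈ normalizer (W : Set G)) (hac : a ∉ centralizer (W : Set G))
    (hbc : b ∉ centralizer (W : Set G)) (ha2 : a ^ 2 ∈ centralizer (W : Set G))
    (hb2 : b ^ 2 ∈ centralizer (W : Set G)) (hab : ⁅a, b⁆ ∈ centralizer (W : Set G)) :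
    a⁻¹ * b ∈ centralizer (W : Set G) := by
  obtain ⟨ρ, hk, -⟩ := exists_perm hW
  set a' : ↥(normalizer (W : Set G)) := ⟨a, ha⟩
  set b' : ↥(normalizer (W : Set G)) := ⟨b, hb⟩
  refine (hk (a'⁻¹ * b')).mp ?_
  have h1 : ρ a' ≠ 1 := fun h => hac ((hk a').mp h)
  have h2 : ρ b' ≠ 1 := fun h => hbc ((hk b').mp h)
  have h3 : ρ (a' ^ 2) = 1 := (hk _).mpr ha2
  have h4 : ρ (b' ^ 2) = 1 := (hk _).mpr hb2
  have h5 : ρ ⁅a', b'⁆ = 1 := (hk _).mpr hab
  simp only [map_mul, map_inv, map_pow, map_commutatorElement] at h3 h4 h5 ⊢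
  generalize ρ a' = σ at h1 h3 h5
  generalize ρ b' = τ at h2 h4 h5
  revert σ τ; decide +kernel

theorem eq_of_le_four {P : Subgroup G} (hP : P ≤ W) (hne : P ≠ ⊥) {x : G} (hx : Fpf W x)
    (hPx : ∀ v ∈ P, x * v * x⁻¹ ∈ P) : P = W := by
  have : Finite W := Nat.finite_of_card_ne_zero (by omega)
  have hdvd := card_dvd_of_le hP
  rw [hW] at hdvd
  have hne1 : Nat.card P ≠ 1 := fun h => hne (card_eq_one.mp h)
  have : Finite P := Finite.of_injective _ (inclusion_injective hP)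
  by_cases h2 : Nat.card P = 2
  · exfalso
    obtain ⟨⟨v, hv⟩, hv1⟩ : ∃ v : P, v ≠ 1 := by
      by_contra h
      push Not at h
      exact hne ((eq_bot_iff_forall _).mpr fun v hv => congrArg Subtype.val (h ⟨v, hv⟩))
    obtain ⟨w₀, -, huniq⟩ := (Nat.card_eq_two_iff' (1 : P)).mp h2
    have e : (⟨x * v * x⁻¹, hPx v hv⟩ : P) = ⟨v, hv⟩ :=
      (huniq _ fun h => hv1 (Subtype.ext (conj_eq_one_iff.mp (congrArg Subtype.val h)))).trans
        (huniq _ hv1).symm
    exact hv1 (Subtype.ext (hx.2 v (hP hv)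
      (mul_inv_eq_iff_eq_mul.mp (congrArg Subtype.val e)).symm))
  · refine eq_of_le_of_card_ge hP ?_
    have := Nat.le_of_dvd (by norm_num) hdvd
    rw [hW]
    interval_cases h : Nat.card P <;> simp_all

theorem card_fix_le {g : G} (hg : g ∉ centralizer (W : Set G)) :
    Nat.card ↥(W ⊓ centralizer ({g} : Set G)) ≤ 2 := by
  have : Finite W := Nat.finite_of_card_ne_zero (by omega)
  have hdvd := card_dvd_of_le (inf_le_left : W ⊓ centralizer ({g} : Set G) ≤ W)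
  rw [hW] at hdvd
  by_contra h
  push Not at h
  have h4 : Nat.card ↥(W ⊓ centralizer ({g} : Set G)) = 4 := by
    have := Nat.le_of_dvd (by norm_num) hdvd
    interval_cases hc : Nat.card ↥(W ⊓ centralizer ({g} : Set G))
    · omega
    · rfl
  have e := eq_of_le_of_card_ge (inf_le_left : W ⊓ centralizer ({g} : Set G) ≤ W) (by rw [hW, h4])
  exact hg fun w hw => mem_centralizer_singleton_iff.mp ((inf_eq_left.mp e) hw)

end Four

/-- `y` acts with order dividing three on the elementary abelian 2-group `V`. -/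
structure Tri (V : Subgroup G) (y : G) : Prop where
  hV : IsElementaryAbelian 2 V
  norm : y ∈ normalizer (V : Set G)
  cube : y ^ 3 ∈ centralizer (V : Set G)

/-- `[V, y]`. -/
noncomputable def Tri.rng {V : Subgroup G} {y : G} (h : Tri V y) : Subgroup G :=
  (Offender.commHom V h.hV.1 y h.norm).range

section Tri

variable {V : Subgroup G} {y : G} (h : Tri V y)
include h

theorem Tri.mem_rng {w : G} : w ∈ h.rng ↔ ∃ v ∈ V, ⁅v, y⁆ = w :=
  ⟨fun ⟨v, hv⟩ => ⟨v, v.2, hv⟩, fun ⟨v, hv, e⟩ => ⟨⟨v, hv⟩, e⟩⟩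

theorem Tri.rng_le : h.rng ≤ V := by
  rintro _ ⟨⟨v, hv⟩, rfl⟩
  show ⁅v, y⁆ ∈ V
  rw [commutatorElement_def, show v * y * v⁻¹ * y⁻¹ = v * (y * v⁻¹ * y⁻¹) by group]
  exact mul_mem hv ((mem_normalizer_iff.mp h.norm _).mp (inv_mem hv))

theorem Tri.conj_mem_rng {w : G} (hw : w ∈ h.rng) : y * w * y⁻¹ ∈ h.rng := by
  obtain ⟨v, hv, rfl⟩ := h.mem_rng.mp hw
  exact h.mem_rng.mpr ⟨y * v * y⁻¹, (mem_normalizer_iff.mp h.norm v).mp hv,
    by simp only [commutatorElement_def]; group⟩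

/-- `y` fixes nothing of `[V, y]`. -/
theorem Tri.eq_one {w : G} (hw : w ∈ h.rng) (hc : Commute w y) : w = 1 := by
  obtain ⟨v, hv, rfl⟩ := h.mem_rng.mp hw
  set w := ⁅v, y⁆ with hwdef
  have hvy : v = w * (y * v * y⁻¹) := by rw [hwdef, commutatorElement_def]; group
  have hy : ∀ z, y * (w * z) * y⁻¹ = w * (y * z * y⁻¹) := fun z => by
    calc y * (w * z) * y⁻¹ = y * w * y⁻¹ * (y * z * y⁻¹) := by group
      _ = w * (y * z * y⁻¹) := by rw [show y * w * y⁻¹ = w from mul_inv_eq_iff_eq_mul.mpr hc.eq.symm]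
  have h3 : y ^ 3 * v * (y ^ 3)⁻¹ = v := (mem_centralizer_iff_conj.mp h.cube) v hv
  have e : v = w * (w * (w * (y ^ 3 * v * (y ^ 3)⁻¹))) := by
    conv_lhs => rw [hvy, hvy, hy, hvy, hy, hy]
    simp only [pow_succ, pow_zero, one_mul, mul_inv_rev, mul_assoc]
  rw [h3] at e
  have h2 : w ^ 2 = 1 := h.hV.2 _ (h.rng_le hw)
  have h4 : w * w * w = 1 := by
    have := e
    rw [← mul_assoc, ← mul_assoc] at this
    exact mul_eq_right.mp this.symm
  rw [← sq, h2, one_mul] at h4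
  exact h4

/-- `v ∈ [V, y] C_V(y)`. -/
theorem Tri.decompose [Finite G] {v : G} (hv : v ∈ V) :
    ∃ w ∈ h.rng, Commute (w⁻¹ * v) y := by
  have hsur : Function.Surjective fun w : h.rng =>
      (⟨⁅(w : G), y⁆, h.mem_rng.mpr ⟨w, h.rng_le w.2, rfl⟩⟩ : h.rng) := by
    refine Finite.injective_iff_surjective.mp fun a b e => ?_
    have e' : ⁅(a : G), y⁆ = ⁅(b : G), y⁆ := congrArg Subtype.val e
    refine Subtype.ext (inv_mul_eq_one.mp (h.eq_one (mul_mem (inv_mem a.2) b.2) ?_))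
    have hh : ∀ (p q : V), ⁅(p : G), y⁆ = ⁅(q : G), y⁆ →
        Offender.commHom V h.hV.1 y h.norm (p⁻¹ * q) = 1 := fun p q e => by
      rw [map_mul, map_inv]
      simp only [Offender.commHom_apply, e, inv_mul_cancel]
    exact commutatorElement_eq_one_iff_mul_comm.mp (hh ⟨a, h.rng_le a.2⟩ ⟨b, h.rng_le b.2⟩ e')
  obtain ⟨w, hw⟩ := hsur ⟨⁅v, y⁆, h.mem_rng.mpr ⟨v, hv, rfl⟩⟩
  refine ⟨w, w.2, commutatorElement_eq_one_iff_mul_comm.mp ?_⟩
  have e : ⁅(w : G), y⁆ = ⁅v, y⁆ := congrArg Subtype.val hw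
  have := map_mul (Offender.commHom V h.hV.1 y h.norm) (⟨w, h.rng_le w.2⟩⁻¹ : V) ⟨v, hv⟩
  rw [map_inv] at this
  rw [show (Offender.commHom V h.hV.1 y h.norm) ⟨w, h.rng_le w.2⟩ = ⁅v, y⁆ from e,
    show (Offender.commHom V h.hV.1 y h.norm) ⟨v, hv⟩ = ⁅v, y⁆ from rfl, inv_mul_cancel] at this
  exact this

theorem Tri.card_eq [Finite G] :
    Nat.card V = Nat.card h.rng * Nat.card ↥(V ⊓ centralizer ({y} : Set G)) := by
  set φ := Offender.commHom V h.hV.1 y h.norm with hφ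
  have hk : φ.ker.map V.subtype = V ⊓ centralizer ({y} : Set G) := by
    ext v
    constructor
    · rintro ⟨v, hv, rfl⟩
      exact ⟨v.2, mem_centralizer_singleton_iff.mpr
        (commutatorElement_eq_one_iff_mul_comm.mp (MonoidHom.mem_ker.mp hv))⟩
    · rintro ⟨hv, hc⟩
      exact ⟨⟨v, hv⟩, MonoidHom.mem_ker.mpr (commutatorElement_eq_one_iff_mul_comm.mpr
        (mem_centralizer_singleton_iff.mp hc)), rfl⟩
  rw [← φ.ker.card_mul_index, index_ker, ← hk, card_map_of_injective V.subtype_injective, mul_comm]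
  rfl

end Tri

end Cfsg.Agent.JComponent
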