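import Cfsg.Prelude.Def_JComponents
import Cfsg.Agent.Lib.LocalStructure.PClosed
import Cfsg.Agent.Lib.Subnormal.Join
import Cfsg.Agent.Lib.LocalStructure.FrakM
import Cfsg.Agent.Lib.PGroup.Thompson
import Cfsg.Agent.Lib.Offender.Factorization
import Cfsg.Agent.Lib.JComponent.Four

/-!
# `J(T)`-components: generalities

* Sylow and Thompson subgroup facts (`maxEA_of_sylow`, `maxEA_anti`, `j_le_of_card_eq`, `j_map_conj`)
* two-locals: `cen_of_twoLocal`
* `Pre K`: generated by elements of odd order, `|K : O₂(K)| = 3`; `odd_mem_of_sup`,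
  `Pre.of_subnormal`, `Pre.tri`, `Pre.wOf_eq`, `Pre.fpf`, `isJComponent_map_conj`
-/

set_option autoImplicit false

namespace Cfsg.Agent.JComponent

open Subgroup LocalStructure
open scoped commutatorElement

universe u

variable {G : Type u} [Group G]

/-- `J(T)`. -/
abbrev jOf (T : Subgroup G) : Subgroup G := thompsonSubgroupOf 2 T

/-- A power of a 2-element and of odd exponent. -/
theorem exists_two_part [Finite G] (g : G) :
    ∃ m k : ℕ, Odd m ∧ (g ^ m) ^ 2 ^ k = 1 ∧ Odd (orderOf (g ^ 2 ^ k)) := by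
  obtain ⟨k, m, hm, e⟩ := Nat.exists_eq_two_pow_mul_odd (orderOf_pos g).ne'
  refine ⟨m, k, hm, ?_, hm.of_dvd_nat (orderOf_dvd_of_pow_eq_one ?_)⟩
  · rw [← pow_mul, mul_comm, ← e, pow_orderOf_eq_one]
  · rw [← pow_mul, ← e, pow_orderOf_eq_one]

theorem coprime_two_pow {g : G} (hg : Odd (orderOf g)) (k : ℕ) : (2 ^ k).Coprime (orderOf g) :=
  (Nat.coprime_two_left.mpr hg).pow_left k

theorem mem_of_two_pow_mem {Y : Subgroup G} {g : G} (hg : Odd (orderOf g)) {k : ℕ}
    (h : g ^ 2 ^ k ∈ Y) : g ∈ Y := by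
  obtain ⟨m, hm⟩ := exists_pow_eq_self_of_coprime (coprime_two_pow hg k)
  exact hm ▸ pow_mem h m

theorem eq_one_of_isPGroup_odd {P : Subgroup G} (hP : IsPGroup 2 P) {g : G} (hg : g ∈ P)
    (ho : Odd (orderOf g)) : g = 1 := by
  obtain ⟨k, hk⟩ := hP ⟨g, hg⟩
  exact mem_bot.mp (mem_of_two_pow_mem ho (k := k) (by simpa using congrArg Subtype.val hk))

theorem pow_relIndex_mem {Y K : Subgroup G} (hYK : Y ≤ K) (hn : K ≤ normalizer (Y : Set G))
    {g : G} (hg : g ∈ K) : g ^ Y.relIndex K ∈ Y := by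
  have := (normal_subgroupOf_iff_le_normalizer hYK).mpr hn
  exact pow_index_mem (Y.subgroupOf K) ⟨g, hg⟩

theorem sylowTwoIn_iff [Finite G] {T L : Subgroup G} :
    IsSylowTwoIn T L ↔ IsSylowIn 2 T L := by
  have : Fact (Nat.Prime 2) := ⟨Nat.prime_two⟩
  constructor
  · rintro ⟨hTL, hT, hodd⟩
    refine ⟨hTL, hT, fun R hTR hRL hR => ?_⟩
    obtain ⟨n, hn⟩ := IsPGroup.iff_card.mp hR
    have h1 : T.relIndex R ∣ T.relIndex L := Dvd.intro _ (relIndex_mul_relIndex T R L hTR hRL)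
    have h2 : T.relIndex R ∣ 2 ^ n := hn ▸ relIndex_dvd_card ..
    have h3 : T.relIndex R = 1 :=
      Nat.eq_one_of_dvd_coprimes ((Nat.coprime_two_left.mpr (hodd.of_dvd_nat h1)).pow_left n)
        h2 dvd_rfl
    exact (le_antisymm hTR (relIndex_eq_one.mp h3)).symm
  · intro h
    obtain ⟨P, hP⟩ := h.exists_sylow
    refine ⟨h.1, h.2.1, Nat.not_even_iff_odd.mp fun he => ?_⟩
    rw [even_iff_two_dvd] at he
    exact P.not_dvd_index (by rw [hP]; exact he)

theorem exists_sylowTwoIn [Finite G] {P L : Subgroup G} (hP : IsPGroup 2 P) (hPL : P ≤ L) :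
    ∃ R, P ≤ R ∧ IsSylowTwoIn R L := by
  obtain ⟨R, h1, h2⟩ := exists_isSylowIn_le hP hPL
  exact ⟨R, h1, sylowTwoIn_iff.mpr h2⟩

theorem isPGroup_j {T : Subgroup G} (hT : IsPGroup 2 T) : IsPGroup 2 (jOf T) :=
  hT.to_le (PGroup.thompsonSubgroupOf_le T)

theorem j_map_conj (g : G) (T : Subgroup G) :
    (jOf T).map (MulAut.conj g).toMonoidHom = jOf (T.map (MulAut.conj g).toMonoidHom) :=
  PGroup.thompsonSubgroupOf_map_equiv _ _

theorem maxEA_of_sylow [Finite G] {T L A : Subgroup G} (h : IsSylowTwoIn T L)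
    (hA : PGroup.IsMaxEA 2 T A) : PGroup.IsMaxEA 2 L A := by
  have : Fact (Nat.Prime 2) := ⟨Nat.prime_two⟩
  refine ⟨hA.1.trans h.1, hA.2.1, fun B hB hBe => ?_⟩
  obtain ⟨l, -, hl⟩ :=
    (sylowTwoIn_iff.mp h).exists_conj_le (PGroup.isPGroup_of_elementaryAbelian hBe) hB
  have := hA.2.2 _ hl (PGroup.isElementaryAbelian_map hBe _)
  rwa [card_map_of_injective (MulAut.conj l).injective] at this

theorem maxEA_anti {X Y A : Subgroup G} (hA : PGroup.IsMaxEA 2 X A) (hAY : A ≤ Y) (hYX : Y ≤ X) :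
    PGroup.IsMaxEA 2 Y A :=
  ⟨hAY, hA.2.1, fun B hB hBe => hA.2.2 B (hB.trans hYX) hBe⟩

theorem maxEA_map_conj (g : G) {X A : Subgroup G} (hA : PGroup.IsMaxEA 2 X A) :
    PGroup.IsMaxEA 2 (X.map (MulAut.conj g).toMonoidHom) (A.map (MulAut.conj g).toMonoidHom) :=
  PGroup.isMaxEA_map_equiv _ hA

/-- Generators of `J(T)` lie in `J(S)` if they lie in `S` and the largest orders agree. -/
theorem j_le_of_card_eq {T S A B : Subgroup G} (hA : PGroup.IsMaxEA 2 T A)
    (hB : PGroup.IsMaxEA 2 S B) (he : Nat.card A = Nat.card B) (hJ : jOf T ≤ S) :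
    jOf T ≤ jOf S := by
  conv_lhs => rw [jOf, PGroup.thompsonSubgroupOf_eq]
  refine sSup_le fun A' hA' => PGroup.le_thompsonSubgroupOf ⟨?_, hA'.2.1, fun C hC hCe => ?_⟩
  · exact (PGroup.le_thompsonSubgroupOf hA').trans hJ
  · exact (hB.2.2 C hC hCe).trans (he.ge.trans (hA'.2.2 A hA.1 hA.2.1))

/-- A two-local subgroup of a group of characteristic 2 type contains the centralizer of its
2-core. -/
theorem cen_of_twoLocal [Finite G] (hL : IsCharacteristicTwoType G) {N : Subgroup G}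
    (hN : IsTwoLocal N) :
    centralizer (pCoreOf 2 N : Set G) ≤ pCoreOf 2 N ∧ pCoreOf 2 N ≠ ⊥ := by
  obtain ⟨R, hR, hR1, rfl⟩ := hN
  have hRO : R ≤ pCoreOf 2 (normalizer (R : Set G)) := le_pCoreOf le_normalizer le_rfl hR
  refine ⟨fun x hx => (hasCharP_iff _).mp (hL.2 R hR hR1) ⟨?_, hx⟩, fun h => hR1 (le_bot_iff.mp
    (h ▸ hRO))⟩
  exact Subgroup.centralizer_le_normalizer _ (centralizer_le (SetLike.coe_subset_coe.mpr hRO) hx)

theorem pCoreOf_map_conj [Finite G] {p : ℕ} [Fact p.Prime] (g : G) (L : Subgroup G) :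
    pCoreOf p (L.map (MulAut.conj g).toMonoidHom) =
      (pCoreOf p L).map (MulAut.conj g).toMonoidHom := by
  refine le_antisymm (pCoreOf_map_conj_le g) ?_
  refine le_pCoreOf (map_mono (pCoreOf_le p L)) ?_ (isPGroup_map_conj (isPGroup_pCoreOf p L) g)
  exact (map_mono (le_normalizer_pCoreOf p L)).trans (le_normalizer_map _)

theorem omegaCenterOf_map_conj (g : G) (X : Subgroup G) :
    (omegaCenterOf X).map (MulAut.conj g).toMonoidHom =
      omegaCenterOf (X.map (MulAut.conj g).toMonoidHom) :=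
  Offender.map_omegaZ _ _

theorem wOf_map_conj [Finite G] (g : G) (K : Subgroup G) :
    (wOf K).map (MulAut.conj g).toMonoidHom = wOf (K.map (MulAut.conj g).toMonoidHom) := by
  rw [wOf, wOf, map_commutator, omegaCenterOf_map_conj, pCoreOf_map_conj]

theorem normalizer_le_normalizer_omegaCenterOf (X : Subgroup G) :
    normalizer (X : Set G) ≤ normalizer (omegaCenterOf X : Set G) := fun g hg =>
  PGroup.mem_normalizer_of_map_conj_eq
    (by rw [omegaCenterOf_map_conj, PGroup.map_conj_eq_of_mem_normalizer hg])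

theorem isElementaryAbelian_omegaCenterOf (X : Subgroup G) :
    IsElementaryAbelian 2 (omegaCenterOf X) :=
  PGroup.isElementaryAbelian_omegaOne
    (PGroup.isMulCommutative_of_forall fun _ ha _ hb => (ha.2 _ hb.1).symm)

theorem mem_omegaCenterOf {X : Subgroup G} {x : G} (hx : x ∈ X)
    (hc : x ∈ centralizer (X : Set G)) (h2 : x ^ 2 = 1) : x ∈ omegaCenterOf X :=
  PGroup.mem_omegaOne_of_pow_eq_one ⟨hx, hc⟩ h2

theorem omegaCenterOf_le (X : Subgroup G) :
    omegaCenterOf X ≤ X ⊓ centralizer (X : Set G) :=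
  PGroup.omegaOne_le _

/-- `K` is generated by its elements of odd order and `O₂(K)` has index three. -/
structure Pre (K : Subgroup G) : Prop where
  gen : closure {g : G | g ∈ K ∧ Odd (orderOf g)} = K
  idx : (pCoreOf 2 K).relIndex K = 3

theorem IsJComponent.pre {T K : Subgroup G} (h : IsJComponent T K) : Pre K := ⟨h.1, h.2.2.1⟩

theorem odd_mem_of_sup [Finite G] {K R : Subgroup G} (hR : IsPGroup 2 R)
    (hn : R ≤ normalizer (K : Set G)) {g : G} (hg : g ∈ K ⊔ R) (ho : Odd (orderOf g)) : g ∈ K := by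
  have : Fact (Nat.Prime 2) := ⟨Nat.prime_two⟩
  obtain ⟨n, hn'⟩ := IsPGroup.iff_card.mp hR
  have h2 : K.relIndex (K ⊔ R) ∣ 2 ^ n := by
    rw [sup_comm, Coprime.relIndex_sup_right_of_le_normalizer hn, ← hn']
    exact relIndex_dvd_card ..
  obtain ⟨i, -, hi⟩ := (Nat.dvd_prime_pow Nat.prime_two).mp h2
  exact mem_of_two_pow_mem ho
    (hi ▸ pow_relIndex_mem le_sup_left (sup_le le_normalizer hn) hg)

/-- A subnormal subgroup of 2-power index contains every element of odd order. -/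
theorem odd_mem_of_isSubnormal [Finite G] {K : Subgroup G} (h : K.IsSubnormal) :
    ∀ {n : ℕ}, K.index ∣ 2 ^ n → ∀ g : G, Odd (orderOf g) → g ∈ K := by
  induction h with
  | top => exact fun _ g _ => mem_top g
  | step H K hle _ hN ih =>
    intro n hd g ho
    have hgK : g ∈ K := ih ((index_dvd_of_le hle).trans hd) g ho
    obtain ⟨i, -, hi⟩ := (Nat.dvd_prime_pow Nat.prime_two).mp
      ((Dvd.intro _ (relIndex_mul_index hle)).trans hd : H.relIndex K ∣ 2 ^ n)
    exact mem_of_two_pow_mem ho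
      (hi ▸ pow_relIndex_mem hle ((normal_subgroupOf_iff_le_normalizer hle).mp hN) hgK)

section PreSec

variable {K : Subgroup G} (h : Pre K)
include h

theorem Pre.pow_three_mem {k : G} (hk : k ∈ K) : k ^ 3 ∈ pCoreOf 2 K :=
  h.idx ▸ pow_relIndex_mem (pCoreOf_le 2 K) (le_normalizer_pCoreOf 2 K) hk

theorem Pre.not_le : ¬ K ≤ pCoreOf 2 K := fun hle => by
  have := h.idx
  rw [relIndex_eq_one.mpr hle] at this
  omega

theorem Pre.not_isPGroup [Finite G] : ¬ IsPGroup 2 K := fun hK =>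
  h.not_le (le_pCoreOf le_rfl le_normalizer hK)

theorem Pre.exists_three [Finite G] : ∃ y ∈ K, orderOf y = 3 ∧ y ∉ pCoreOf 2 K := by
  have : Fact (Nat.Prime 3) := ⟨Nat.prime_three⟩
  have h3 : 3 ∣ Nat.card K := h.idx ▸ relIndex_dvd_card ..
  obtain ⟨⟨y, hy⟩, hy3⟩ := exists_prime_orderOf_dvd_card' 3 h3
  rw [orderOf_mk] at hy3
  refine ⟨y, hy, hy3, fun hO => ?_⟩
  rw [eq_one_of_isPGroup_odd (isPGroup_pCoreOf 2 K) hO (by rw [hy3]; decide), orderOf_one] at hy3
  omega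

omit h in
theorem Pre.odd_of_three {y : G} (hy : orderOf y = 3) : Odd (orderOf y) := by
  rw [hy]; decide

theorem Pre.cases [Finite G] {y k : G} (hy : y ∈ K) (hyO : y ∉ pCoreOf 2 K) (hk : k ∈ K) :
    k ∈ pCoreOf 2 K ∨ k * y⁻¹ ∈ pCoreOf 2 K ∨ k * y ∈ pCoreOf 2 K := by
  have hn : zpowers y ≤ normalizer (pCoreOf 2 K : Set G) :=
    (zpowers_le.mpr hy).trans (le_normalizer_pCoreOf 2 K)
  have hsup : zpowers y ⊔ pCoreOf 2 K = K := by
    have hle : zpowers y ⊔ pCoreOf 2 K ≤ K := sup_le (zpowers_le.mpr hy) (pCoreOf_le 2 K)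
    have hm := relIndex_mul_relIndex (pCoreOf 2 K) _ K le_sup_right hle
    rw [h.idx] at hm
    have h1 : (pCoreOf 2 K).relIndex (zpowers y ⊔ pCoreOf 2 K) ≠ 1 := fun e =>
      hyO (relIndex_eq_one.mp e (mem_sup_left (mem_zpowers y)))
    have h3 := ((Nat.dvd_prime Nat.prime_three).mp (Dvd.intro _ hm)).resolve_left h1
    rw [h3] at hm
    exact le_antisymm hle (relIndex_eq_one.mp (by omega))
  obtain ⟨z, hz, o, ho, rfl⟩ := (Coprime.mem_sup_iff_of_le_normalizer hn).mp (hsup.ge hk)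
  obtain ⟨n, rfl⟩ := mem_zpowers_iff.mp hz
  have hconj : ∀ i : ℤ, y ^ i ∈ pCoreOf 2 K → y ^ n * o * y ^ (i - n) ∈ pCoreOf 2 K := by
    intro i hi
    have h1 := (mem_normalizer_iff.mp (hn (zpow_mem (mem_zpowers y) n)) o).mp ho
    have := mul_mem h1 hi
    rwa [mul_assoc, ← zpow_neg, ← zpow_add, neg_add_eq_sub] at this
  have h30 : y ^ (3 : ℤ) ∈ pCoreOf 2 K := by
    rw [show (3 : ℤ) = ((3 : ℕ) : ℤ) from rfl, zpow_natCast]; exact h.pow_three_mem hy
  have h3 : ∀ i : ℤ, (3 : ℤ) ∣ i → y ^ i ∈ pCoreOf 2 K := fun i ⟨j, hj⟩ => by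
    rw [hj, zpow_mul]; exact zpow_mem h30 j
  rcases (show (3 : ℤ) ∣ n ∨ (3 : ℤ) ∣ n - 1 ∨ (3 : ℤ) ∣ n + 1 by omega) with hd | hd | hd
  · left; simpa using hconj n (h3 n hd)
  · right; left
    have := hconj (n - 1) (h3 _ hd)
    rwa [show n - 1 - n = -1 by ring, zpow_neg_one] at this
  · right; right
    have := hconj (n + 1) (h3 _ hd)
    rwa [show n + 1 - n = 1 by ring, zpow_one] at this

/-- A normal subgroup of `K` outside `O₂(K)` is `K`. -/
theorem Pre.eq_of_normal [Finite G] {Y : Subgroup G} (hYK : Y ≤ K)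
    (hn : K ≤ normalizer (Y : Set G)) {y : G} (hy : y ∈ Y) (hyO : y ∉ pCoreOf 2 K) : Y = K := by
  have : Fact (Nat.Prime 2) := ⟨Nat.prime_two⟩
  obtain ⟨n, hn'⟩ := IsPGroup.iff_card.mp (isPGroup_pCoreOf 2 K)
  have hK : Nat.card K = 2 ^ n * 3 := by
    have := relIndex_mul_relIndex ⊥ (pCoreOf 2 K) K bot_le (pCoreOf_le 2 K)
    rwa [relIndex_bot_left, relIndex_bot_left, hn', h.idx, eq_comm] at this
  have h3 : 3 ∣ Nat.card Y := by
    by_contra h3
    have h2 : Nat.card Y ∣ 2 ^ n :=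
      ((Nat.prime_three.coprime_iff_not_dvd.mpr h3).symm).dvd_of_dvd_mul_right
        (hK ▸ card_dvd_of_le hYK)
    obtain ⟨i, -, hi⟩ := (Nat.dvd_prime_pow Nat.prime_two).mp h2
    exact hyO (le_pCoreOf hYK hn (IsPGroup.of_card hi) hy)
  have hm := relIndex_mul_relIndex ⊥ Y K bot_le hYK
  rw [relIndex_bot_left, relIndex_bot_left, hK] at hm
  have hd : Y.relIndex K ∣ 2 ^ n := by
    obtain ⟨c, hc⟩ := h3
    exact Dvd.intro_left c (by rw [hc, mul_assoc] at hm; linarith)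
  obtain ⟨i, -, hi⟩ := (Nat.dvd_prime_pow Nat.prime_two).mp hd
  refine le_antisymm hYK ?_
  conv_lhs => rw [← h.gen]
  rw [closure_le]
  rintro g ⟨hgK, hgo⟩
  exact mem_of_two_pow_mem hgo (hi ▸ pow_relIndex_mem hYK hn hgK)

theorem Pre.map_conj [Finite G] (g : G) : Pre (K.map (MulAut.conj g).toMonoidHom) where
  gen := by
    refine le_antisymm ((closure_le _).mpr fun x hx => hx.1) ?_
    rw [map_le_iff_le_comap]
    conv_lhs => rw [← h.gen]
    rw [closure_le]
    intro x hx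
    refine subset_closure ⟨mem_map_of_mem _ hx.1, ?_⟩
    rw [show (MulAut.conj g).toMonoidHom x = MulAut.conj g x from rfl, MulEquiv.orderOf_eq]
    exact hx.2
  idx := by
    rw [pCoreOf_map_conj, ← h.idx]
    exact relIndex_map_map_of_injective _ _ (MulAut.conj g).injective

/-- A conjugation mapping `K` into a 2-group extension of `K` fixes `K`. -/
theorem Pre.mem_normalizer [Finite G] {R : Subgroup G} (hR : IsPGroup 2 R)
    (hn : R ≤ normalizer (K : Set G)) {g : G}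
    (hg : ∀ k ∈ K, g * k * g⁻¹ ∈ K ⊔ R) : g ∈ normalizer (K : Set G) := by
  refine Subnormal.mem_normalizer_of_cj_le ?_
  rw [Subnormal.cj, map_le_iff_le_comap]
  conv_lhs => rw [← h.gen]
  rw [closure_le]
  intro x hx
  refine odd_mem_of_sup hR hn (hg x hx.1) ?_
  rw [show (MulAut.conj g).toMonoidHom x = MulAut.conj g x from rfl, MulEquiv.orderOf_eq]
  exact hx.2

/-- In a group in which `K` is subnormal, `O₂(K) ≤ O₂(X)` and `O₂(X)` normalizes `K`. -/
theorem Pre.of_subnormal [Finite G] {X : Subgroup G} (hKX : K ≤ X)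
    (hs : (K.subgroupOf X).IsSubnormal) :
    pCoreOf 2 K ≤ pCoreOf 2 X ∧ pCoreOf 2 X ≤ normalizer (K : Set G) := by
  have : Fact (Nat.Prime 2) := ⟨Nat.prime_two⟩
  constructor
  · have hn : ((pCoreOf 2 K).subgroupOf X).IsSubnormal := by
      refine IsSubnormal.trans (K := K.subgroupOf X) (fun x hx => pCoreOf_le 2 K hx) ?_ hs
      have hP : (pCoreOf 2 K).subgroupOf X ≤ K.subgroupOf X := fun x hx => pCoreOf_le 2 K hx
      refine Normal.isSubnormal ((normal_subgroupOf_iff_le_normalizer hP).mpr fun x hx => ?_)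
      refine Subgroup.mem_normalizer_iff.mpr fun w => ?_
      exact mem_normalizer_iff.mp (le_normalizer_pCoreOf 2 K hx) (w : G)
    have := le_pCore_of_isSubnormal hn
      ((isPGroup_pCoreOf 2 K).of_equiv (subgroupOfEquivOfLe ((pCoreOf_le 2 K).trans hKX)).symm)
    intro x hx
    exact ⟨⟨x, hKX (pCoreOf_le 2 K hx)⟩, this hx, rfl⟩
  · set R := pCoreOf 2 X with hR
    set Y := K ⊔ R with hY
    have hYX : Y ≤ X := sup_le hKX (pCoreOf_le 2 X)
    have hsY : (K.subgroupOf Y).IsSubnormal :=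
      (Subnormal.sn_mono ⟨hKX, hs⟩ le_sup_left hYX).2
    have hidx : ∃ n, (K.subgroupOf Y).index ∣ 2 ^ n := by
      have hn : K ≤ normalizer (R : Set G) := hKX.trans (le_normalizer_pCoreOf 2 X)
      obtain ⟨n, hn'⟩ := IsPGroup.iff_card.mp (isPGroup_pCoreOf 2 X)
      refine ⟨n, ?_⟩
      show K.relIndex Y ∣ _
      have h1 := Offender.card_sup_mul_card_inf hn
      have h2 := relIndex_mul_relIndex ⊥ K Y bot_le le_sup_left
      rw [relIndex_bot_left, relIndex_bot_left] at h2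
      rw [← hn']
      refine Dvd.intro (Nat.card ↥(K ⊓ R)) (Nat.eq_of_mul_eq_mul_left (Nat.card_pos (α := K)) ?_)
      rw [← mul_assoc, h2, ← h1]
    obtain ⟨n, hn⟩ := hidx
    intro r hr
    refine Subnormal.mem_normalizer_of_cj_le ?_
    rw [Subnormal.cj, map_le_iff_le_comap]
    conv_lhs => rw [← h.gen]
    rw [closure_le]
    intro x hx
    show r * x * r⁻¹ ∈ K
    have hm : r * x * r⁻¹ ∈ Y := mul_mem (mul_mem (mem_sup_right hr) (mem_sup_left hx.1))
      (inv_mem (mem_sup_right hr))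
    refine odd_mem_of_isSubnormal hsY hn ⟨_, hm⟩ ?_
    rw [Subgroup.orderOf_mk, show r * x * r⁻¹ = MulAut.conj r x from rfl, MulEquiv.orderOf_eq]
    exact hx.2

/-- `y` acts on `Ω₁(Z(O₂(K)))`. -/
theorem Pre.tri {y : G} (hy : y ∈ K) : Tri (omegaCenterOf (pCoreOf 2 K)) y where
  hV := isElementaryAbelian_omegaCenterOf _
  norm := normalizer_le_normalizer_omegaCenterOf _ (le_normalizer_pCoreOf 2 K hy)
  cube := fun _ hz => ((omegaCenterOf_le _ hz).2 _ (h.pow_three_mem hy)).symm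

theorem Pre.wOf_eq [Finite G] {y : G} (hy : y ∈ K) (hyO : y ∉ pCoreOf 2 K) :
    wOf K = (h.tri hy).rng := by
  refine le_antisymm (commutator_le.mpr fun z hz k hk => ?_) ?_
  · have hoc : ∀ o ∈ pCoreOf 2 K, ∀ v ∈ omegaCenterOf (pCoreOf 2 K), o * v * o⁻¹ = v :=
      fun o ho v hv => mul_inv_eq_iff_eq_mul.mpr ((omegaCenterOf_le _ hv).2 o ho)
    have hnz : K ≤ normalizer (omegaCenterOf (pCoreOf 2 K) : Set G) :=
      (le_normalizer_pCoreOf 2 K).trans (normalizer_le_normalizer_omegaCenterOf _)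
    have hz' : y * z⁻¹ * y⁻¹ ∈ omegaCenterOf (pCoreOf 2 K) :=
      (mem_normalizer_iff.mp (hnz hy) _).mp (inv_mem hz)
    have hy' : y⁻¹ * z⁻¹ * y ∈ omegaCenterOf (pCoreOf 2 K) :=
      (mem_normalizer_iff''.mp (hnz hy) _).mp (inv_mem hz)
    rcases h.cases hy hyO hk with e | e | e
    · rw [commutatorElement_def, show z * k * z⁻¹ * k⁻¹ = z * (k * z⁻¹ * k⁻¹) by group,
        hoc k e _ (inv_mem hz), mul_inv_cancel]
      exact one_mem _
    · refine (h.tri hy).mem_rng.mpr ⟨z, hz, ?_⟩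
      rw [commutatorElement_def, commutatorElement_def,
        show z * k * z⁻¹ * k⁻¹ = z * (k * y⁻¹ * (y * z⁻¹ * y⁻¹) * (k * y⁻¹)⁻¹) by group,
        hoc _ e _ hz']
      group
    · refine (h.tri hy).mem_rng.mpr ⟨y⁻¹ * z⁻¹ * y, hy', ?_⟩
      rw [commutatorElement_def, commutatorElement_def,
        show z * k * z⁻¹ * k⁻¹ = z * (k * y * (y⁻¹ * z⁻¹ * y) * (k * y)⁻¹) by group,
        hoc _ e _ hy', show y⁻¹ * z⁻¹ * y * y * (y⁻¹ * z⁻¹ * y)⁻¹ * y⁻¹ = y⁻¹ * z⁻¹ * y * z by group]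
      exact Offender.commute_mem (isElementaryAbelian_omegaCenterOf _).1 hy' hz
  · intro w hw
    obtain ⟨z, hz, rfl⟩ := (h.tri hy).mem_rng.mp hw
    exact commutator_mem_commutator hz hy

omit h in
theorem le_normalizer_wOf {K : Subgroup G} : K ≤ normalizer (wOf K : Set G) := fun k hk => by
  refine PGroup.mem_normalizer_of_map_conj_eq ?_
  rw [wOf, map_commutator, omegaCenterOf_map_conj, PGroup.map_conj_eq_of_mem_normalizer
    (le_normalizer_pCoreOf 2 K hk), PGroup.map_conj_eq_of_mem_normalizer (le_normalizer hk)]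

theorem Pre.wOf_le [Finite G] : wOf K ≤ omegaCenterOf (pCoreOf 2 K) := by
  obtain ⟨y, hy, -, hyO⟩ := h.exists_three
  exact (h.wOf_eq hy hyO).le.trans (h.tri hy).rng_le

theorem Pre.fpf [Finite G] {y : G} (hy : y ∈ K) (hyO : y ∉ pCoreOf 2 K) : Fpf (wOf K) y :=
  ⟨le_normalizer_wOf hy, fun w hw hc => (h.tri hy).eq_one (h.wOf_eq hy hyO ▸ hw) hc⟩

/-- A 2-group `U` normalised by and normalising `K`, centralised by `O₂(K)`: `[U, y] ≤ W`. -/
theorem Pre.bracket_mem [Finite G] {U : Subgroup G} (hU : IsElementaryAbelian 2 U)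
    (hUK : U ≤ normalizer (K : Set G)) (hKU : K ≤ normalizer (U : Set G))
    (hc : pCoreOf 2 K ≤ centralizer (U : Set G)) {y v : G} (hy : y ∈ K) (hyO : y ∉ pCoreOf 2 K)
    (hv : v ∈ U) : ⁅v, y⁆ ∈ wOf K := by
  have T : Tri U y := ⟨hU, hKU hy, hc (h.pow_three_mem hy)⟩
  have hmem : ∀ v ∈ U, ⁅v, y⁆ ∈ omegaCenterOf (pCoreOf 2 K) := by
    intro v hv
    have h1 : ⁅v, y⁆ ∈ U := T.rng_le (T.mem_rng.mpr ⟨v, hv, rfl⟩)
    have h2 : ⁅v, y⁆ ∈ U ⊓ K := ⟨h1, by
      rw [commutatorElement_def]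
      exact mul_mem (S := Subgroup G) ((mem_normalizer_iff.mp (hUK hv) y).mp hy) (inv_mem hy)⟩
    have h3 : ⁅v, y⁆ ∈ pCoreOf 2 K := le_pCoreOf inf_le_right
      (le_normalizer_inf hKU le_normalizer)
      ((PGroup.isPGroup_of_elementaryAbelian hU).to_le inf_le_left) h2
    exact mem_omegaCenterOf h3 (fun o ho => (hc ho _ h1).symm) (hU.2 _ h1)
  obtain ⟨w, hw, hcw⟩ := T.decompose hv
  obtain ⟨v', hv', rfl⟩ := T.mem_rng.mp hw
  rw [h.wOf_eq hy hyO]
  refine (h.tri hy).mem_rng.mpr ⟨⁅v', y⁆, hmem v' hv', ?_⟩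
  have hk := map_mul (Offender.commHom U hU.1 y T.norm) ⟨⁅v', y⁆, T.rng_le hw⟩
    ⟨⁅v', y⁆⁻¹ * v, mul_mem (inv_mem (T.rng_le hw)) hv⟩
  simp only [MulMemClass.mk_mul_mk, mul_inv_cancel_left, Offender.commHom_apply] at hk
  rw [hk, commutatorElement_eq_one_iff_mul_comm.mpr hcw, mul_one]

end PreSec

theorem isJComponent_map_conj [Finite G] {T K : Subgroup G} (h : IsJComponent T K) (g : G) :
    IsJComponent (T.map (MulAut.conj g).toMonoidHom) (K.map (MulAut.conj g).toMonoidHom) := by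
  have hp := (IsJComponent.pre h).map_conj g
  obtain ⟨-, hKJ, -, hS, hW4, hW2⟩ := h
  refine ⟨hp.gen, ?_, hp.idx, fun S hS' hle => ?_, ?_, ?_⟩
  · rw [← PGroup.thompsonSubgroupOf_map_equiv, ← map_commutator, hKJ]
  · rw [← PGroup.thompsonSubgroupOf_map_equiv] at hle hS' ⊢
    set f := (MulAut.conj g).toMonoidHom with hf
    have hfs : Function.Surjective f := (MulAut.conj g).surjective
    have hfi : Function.Injective f := (MulAut.conj g).injective
    have e : (S.comap f).map f = S := map_comap_eq_self_of_surjective hfs S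
    have h1 : IsSylowTwoIn (S.comap f) (K ⊔ jOf T) := by
      rw [← Subgroup.map_sup] at hS'
      refine ⟨?_, hS'.2.1.comap_of_injective f hfi, ?_⟩
      · rw [← map_le_map_iff_of_injective hfi, e]; exact hS'.1
      · rw [← relIndex_map_map_of_injective _ _ hfi, e]; exact hS'.2.2
    have h2 := hS _ h1 (map_le_iff_le_comap.mp hle)
    conv_lhs => rw [← e, hf, ← PGroup.thompsonSubgroupOf_map_equiv, h2]
  · rw [← wOf_map_conj, card_map_of_injective (MulAut.conj g).injective, hW4]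
  · rw [← wOf_map_conj]
    rintro _ ⟨w, hw, rfl⟩
    rw [← map_mul, hW2 w hw, map_one]

/-- A `J(T)`-component depends on `J(T)` only. -/
theorem isJComponent_congr {T T' K : Subgroup G} (h : IsJComponent T K) (e : jOf T' = jOf T) :
    IsJComponent T' K := by
  obtain ⟨h1, h2, h3, h4, h5, h6⟩ := h
  change ⁅K, jOf T⁆ = K at h2
  refine ⟨h1, ?_, h3, ?_, h5, h6⟩
  · show ⁅K, jOf T'⁆ = K
    rw [e, h2]
  · show ∀ S : Subgroup G, IsSylowTwoIn S (K ⊔ jOf T') → jOf T' ≤ S → jOf S = jOf T'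
    rw [e]; exact h4

end Cfsg.Agent.JComponent
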