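import Cfsg.Agent.Lib.Offender.Decomposition
import Cfsg.Agent.Lib.JComponent.Four

/-!
# The planes for `p = 2`

In the setting `Gen 2 V H`, with `D = O(H)`: squares lie in `D`, `D` is abelian of exponent three,
and `IsPlane V H x W` collects the elements of `D` moving a single plane `W`.
-/

set_option autoImplicit false

namespace Cfsg.Agent.JComponent

open Subgroup Offender
open scoped commutatorElement

universe u

variable {G : Type u} [Group G]

/-- `x ∈ O(H)` has commutator `W`, a four-group, on `V`. -/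
structure IsPlane (V H : Subgroup G) (x : G) (W : Subgroup G) : Prop where
  mem : x ∈ qcore 2 H
  le : W ≤ V
  card : Nat.card W = 4
  comm : ∀ v ∈ V, ⁅v, x⁆ ∈ W
  fpf : Fpf W x

variable [Finite G] {V H : Subgroup G} (h : Gen 2 V H)
include h

theorem gen_plane_pair {E : Subgroup G} (hE : E ∈ eFam 2 V H) :
    ∃ A a e z, Pair 2 V H A a e z ∧ IsTv 2 V A ∧ E = eSub 2 H A := by
  have : Fact (Nat.Prime 2) := ⟨Nat.prime_two⟩
  obtain ⟨A, hAH, hA, rfl⟩ := hE
  obtain ⟨a, e, z, P⟩ := h.toFF.exists_pair hAH hA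
  exact ⟨A, a, e, z, P, hA, rfl⟩

theorem gen_card_plane {E : Subgroup G} (hE : E ∈ eFam 2 V H) : Nat.card ↥⁅V, E⁆ = 4 := by
  have : Fact (Nat.Prime 2) := ⟨Nat.prime_two⟩
  obtain ⟨A, a, e, z, P, hA, rfl⟩ := gen_plane_pair h hE
  rw [P.eSub_eq, P.W_eq, P.card_W]
  rfl

theorem gen_le_normalizer_plane {E : Subgroup G} (hE : E ∈ eFam 2 V H) :
    H ≤ normalizer ((⁅V, E⁆ : Subgroup G) : Set G) ∧
      H ≤ normalizer ((V ⊓ centralizer (E : Set G) : Subgroup G) : Set G) := by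
  have : Fact (Nat.Prime 2) := ⟨Nat.prime_two⟩
  obtain ⟨A, hAH, hA, rfl⟩ := hE
  exact ⟨h.le_normalizer_plane hAH hA, LocalStructure.le_normalizer_inf h.hHV
    (LocalStructure.le_normalizer_centralizer (h.le_normalizer_eSub hAH hA))⟩

theorem gen_faithful {g : G} (hg : g ∈ H)
    (hp : ∀ E ∈ eFam 2 V H, g ∈ centralizer ((⁅V, E⁆ : Subgroup G) : Set G)) : g = 1 := by
  have : Fact (Nat.Prime 2) := ⟨Nat.prime_two⟩
  refine h.toFF.eq_one hg ?_
  have hle : V ≤ centralizer ({g} : Set G) := by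
    conv_lhs => rw [← h.plane_sup_eq]
    refine sup_le (fun v hv => mem_centralizer_singleton_iff.mpr ((mem_inf.mp hv).2 g hg).symm)
      (iSup₂_le fun E hE v hv => mem_centralizer_singleton_iff.mpr (hp E hE v hv))
  exact fun v hv => mem_centralizer_singleton_iff.mp (hle hv)

/-- The squares of `H` generate a subgroup of `O(H)`. -/
theorem gen_sq_mem {g : G} (hg : g ∈ H) : g ^ 2 ∈ qcore 2 H := by
  have : Fact (Nat.Prime 2) := ⟨Nat.prime_two⟩
  have : Fact (Nat.Prime 3) := ⟨Nat.prime_three⟩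
  set N : Subgroup ↥H := closure {x | ∃ y : ↥H, y ^ 2 = x} with hN
  have hcomm : ∀ x ∈ {x | ∃ y : ↥H, y ^ 2 = x}, ∀ x' ∈ {x | ∃ y : ↥H, y ^ 2 = x},
      x * x' = x' * x := by
    rintro _ ⟨y, rfl⟩ _ ⟨y', rfl⟩
    refine commutatorElement_eq_one_iff_mul_comm.mp (Subtype.ext (gen_faithful h ?_ fun E hE => ?_))
    · exact SetLike.coe_mem _
    · exact sq_comm_mem (gen_card_plane h hE) ((gen_le_normalizer_plane h hE).1 y.2)
        ((gen_le_normalizer_plane h hE).1 y'.2)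
  have hn : N.Normal := by
    refine normalizer_eq_top_iff.mp (eq_top_iff.mpr fun k _ => ?_)
    refine Subnormal.mem_normalizer_of_cj_le ?_
    rw [Subnormal.cj, map_le_iff_le_comap, closure_le]
    rintro _ ⟨y, rfl⟩
    exact subset_closure ⟨k * y * k⁻¹, by rw [conj_pow]; rfl⟩
  have hab : IsMulCommutative N := isMulCommutative_closure hcomm
  have h3 : IsPGroup 3 N := fun x => ⟨1, by
    rw [pow_one]
    obtain ⟨x, hx⟩ := x
    refine Subtype.ext ?_
    show x ^ 3 = 1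
    induction hx using closure_induction with
    | mem x hx =>
      obtain ⟨y, rfl⟩ := hx
      rw [← pow_mul]
      refine Subtype.ext (gen_faithful h (SetLike.coe_mem _) fun E hE => ?_)
      exact pow_six_mem (gen_card_plane h hE) ((gen_le_normalizer_plane h hE).1 y.2)
    | one => exact one_pow 3
    | mul x y hx hy ihx ihy =>
      rw [Commute.mul_pow (show x * y = y * x from
        PGroup.mul_comm_of_isMulCommutative hab hx hy), ihx, ihy, one_mul]
    | inv x _ ih => rw [inv_pow, ih, inv_one]⟩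
  obtain ⟨n, hn3⟩ := IsPGroup.iff_card.mp h3
  have hcop : (Nat.card N).Coprime 2 := by
    rw [hn3]; exact (by norm_num : Nat.Coprime 3 2).pow_left n
  exact ⟨_, PCore.le_pPrimeCore (hN := hn) hcop (subset_closure ⟨⟨g, hg⟩, rfl⟩), rfl⟩

omit h in
theorem qcore_sq {d : G} (hd : d ∈ qcore 2 H) : ∃ k : ℕ, (d ^ 2) ^ k = d :=
  exists_pow_eq_self_of_coprime (Nat.Coprime.symm (coprime_orderOf_of_mem_qcore hd))

theorem gen_qcore_comm {d d' : G} (hd : d ∈ qcore 2 H) (hd' : d' ∈ qcore 2 H) :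
    Commute d d' := by
  obtain ⟨k, hk⟩ := qcore_sq hd
  obtain ⟨k', hk'⟩ := qcore_sq hd'
  have hc : Commute (d ^ 2) (d' ^ 2) := commutatorElement_eq_one_iff_mul_comm.mp
    (gen_faithful h (by
      rw [commutatorElement_def]
      exact mul_mem (mul_mem (mul_mem (pow_mem (qcore_le hd) 2) (pow_mem (qcore_le hd') 2))
        (inv_mem (pow_mem (qcore_le hd) 2))) (inv_mem (pow_mem (qcore_le hd') 2)))
      fun E hE => sq_comm_mem (gen_card_plane h hE)
        ((gen_le_normalizer_plane h hE).1 (qcore_le hd))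
        ((gen_le_normalizer_plane h hE).1 (qcore_le hd')))
  rw [← hk, ← hk']
  exact hc.pow_pow k k'

theorem gen_qcore_cube {d : G} (hd : d ∈ qcore 2 H) : d ^ 3 = 1 := by
  obtain ⟨k, hk⟩ := qcore_sq hd
  rw [← hk, ← pow_mul, ← pow_mul, show 2 * (k * 3) = 6 * k by ring, pow_mul]
  rw [gen_faithful h (pow_mem (qcore_le hd) 6) fun E hE => pow_six_mem (gen_card_plane h hE)
    ((gen_le_normalizer_plane h hE).1 (qcore_le hd)), one_pow]

/-- `H = O(H) J₀` as soon as conjugates of `J₀` generate `H`. -/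
theorem gen_le_sup {J₀ : Subgroup G} (hJ₀ : J₀ ≤ H)
    (hgen : H ≤ closure {x | ∃ g ∈ H, ∃ j ∈ J₀, g * j * g⁻¹ = x}) : H ≤ qcore 2 H ⊔ J₀ := by
  refine hgen.trans ((closure_le _).mpr ?_)
  rintro _ ⟨g, hg, j, hj, rfl⟩
  have hc : g * j * g⁻¹ * j⁻¹ ∈ qcore 2 H := by
    rw [show g * j * g⁻¹ * j⁻¹ = g ^ 2 * (g⁻¹ * j) ^ 2 * (j ^ 2)⁻¹ by simp [sq]; group]
    exact mul_mem (mul_mem (gen_sq_mem h hg) (gen_sq_mem h (mul_mem (inv_mem hg) (hJ₀ hj))))
      (inv_mem (gen_sq_mem h (hJ₀ hj)))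
  have := mul_mem (mem_sup_left (T := J₀) hc) (mem_sup_right (S := qcore 2 H) hj)
  rwa [inv_mul_cancel_right] at this

theorem gen_exists_plane_elt {E : Subgroup G} (hE : E ∈ eFam 2 V H) :
    ∃ x, IsPlane V H x ⁅V, E⁆ ∧ ∀ v ∈ V, v ∈ centralizer (E : Set G) → Commute v x := by
  have : Fact (Nat.Prime 2) := ⟨Nat.prime_two⟩
  have hc4 := gen_card_plane h hE
  have hle := h.toFF.plane_le hE
  obtain ⟨A, a, e, z, P, hA, rfl⟩ := gen_plane_pair h hE
  have hy : z * a * z⁻¹ * a⁻¹ ∈ P.X := mul_mem P.b_memX (inv_mem P.a_memX)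
  refine ⟨z * a * z⁻¹ * a⁻¹, ⟨P.y_memQ, hle, hc4, fun v hv => ?_, ?_, ?_⟩,
    fun v hv hvc => ?_⟩
  · rw [P.eSub_eq]
    exact commutator_mem_commutator hv hy
  · exact h.le_normalizer_plane P.le hA (qcore_le P.y_memQ)
  · intro w hw hwc
    rw [P.eSub_eq, P.W_eq] at hw
    exact P.eq_one_of_commute_y hw hwc.symm
  · rw [P.eSub_eq] at hvc
    exact (hvc _ hy).symm

/-- A plane element moves a single plane, centralizing the complement. -/
theorem gen_plane_eq {x : G} {W : Subgroup G} (hx : IsPlane V H x W) :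
    ∃ E ∈ eFam 2 V H, ⁅V, E⁆ = W ∧ ∀ v ∈ V, Commute v x → v ∈ centralizer (E : Set G) := by
  have : Fact (Nat.Prime 2) := ⟨Nat.prime_two⟩
  have hx1 : x ≠ 1 := fun e => by
    have := hx.card
    rw [(eq_bot_iff_forall W).mpr fun w hw => hx.fpf.2 w hw (e ▸ Commute.one_right w),
      Subgroup.card_bot] at this
    omega
  obtain ⟨E, hE, hne⟩ : ∃ E ∈ eFam 2 V H, x ∉ centralizer ((⁅V, E⁆ : Subgroup G) : Set G) := by
    by_contra hcon
    push Not at hcon
    exact hx1 (gen_faithful h (qcore_le hx.mem) hcon)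
  obtain ⟨hnW, hnU⟩ := gen_le_normalizer_plane h hE
  have hWP : W ≤ ⁅V, E⁆ := by
    have he : ⁅V, E⁆ ⊓ W = W := by
      refine eq_of_le_four hx.card inf_le_right ?_ hx.fpf fun v hv => ⟨?_, ?_⟩
      · intro e
        rw [mem_centralizer_iff] at hne
        push Not at hne
        obtain ⟨v, hv, hvx⟩ := hne
        have h1 : ⁅v, x⁆ ∈ ⁅V, E⁆ := by
          rw [commutatorElement_def, show v * x * v⁻¹ * x⁻¹ = v * (x * v⁻¹ * x⁻¹) by group]
          exact mul_mem hv ((mem_normalizer_iff.mp (hnW (qcore_le hx.mem)) _).mp (inv_mem hv))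
        exact hvx (commutatorElement_eq_one_iff_mul_comm.mp
          (mem_bot.mp (e.le ⟨h1, hx.comm v (h.toFF.plane_le hE hv)⟩)))
      · exact (mem_normalizer_iff.mp (hnW (qcore_le hx.mem)) v).mp hv.1
      · exact (mem_normalizer_iff.mp hx.fpf.1 v).mp hv.2
    exact inf_eq_right.mp he
  have hWE : W = ⁅V, E⁆ := by
    have : Finite ↥⁅V, E⁆ := inferInstance
    exact eq_of_le_of_card_ge hWP (by rw [gen_card_plane h hE, hx.card])
  refine ⟨E, hE, hWE.symm, fun v hv hvx => ?_⟩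
  obtain ⟨A, hAH, hA, rfl⟩ := hE
  have hn : ⁅V, eSub 2 H A⁆ ≤
      normalizer ((V ⊓ centralizer (eSub 2 H A : Set G) : Subgroup G) : Set G) := fun w hw =>
    Subgroup.centralizer_le_normalizer _ fun u hu =>
      commute_mem h.hV.1 (mem_inf.mp hu).1 (h.toFF.plane_le ⟨A, hAH, hA, rfl⟩ hw)
  obtain ⟨w, hw, u, hu, rfl⟩ := (Coprime.mem_sup_iff_of_le_normalizer hn).mp
    ((h.toFF.plane_sup_centralizer hAH hA).ge hv)
  have hux : Commute u x := by
    have h1 : ⁅u, x⁆ ∈ (V ⊓ centralizer (eSub 2 H A : Set G)) := by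
      rw [commutatorElement_def, show u * x * u⁻¹ * x⁻¹ = u * (x * u⁻¹ * x⁻¹) by group]
      exact mul_mem hu ((mem_normalizer_iff.mp (hnU (qcore_le hx.mem)) _).mp (inv_mem hu))
    refine commutatorElement_eq_one_iff_mul_comm.mp (mem_bot.mp
      ((h.toFF.plane_inf_centralizer hAH hA).le ⟨hWP (hx.comm u (mem_inf.mp hu).1), h1.2⟩))
  have hwx : Commute w x := by simpa using hvx.mul_left hux.inv_left
  rw [hx.fpf.2 w (hWE.ge hw) hwx, one_mul]
  exact (mem_inf.mp hu).2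

/-- A transvection for the plane. -/
theorem gen_exists_tv {x : G} {W : Subgroup G} (hx : IsPlane V H x W) :
    ∃ u ∈ H, u ≠ 1 ∧ u ^ 2 = 1 ∧ (∀ v ∈ V, ⁅v, u⁆ ∈ W) ∧
      (∀ v ∈ V, Commute v x → Commute v u) ∧ u * x * u⁻¹ * x = 1 := by
  have : Fact (Nat.Prime 2) := ⟨Nat.prime_two⟩
  obtain ⟨E, hE, hW, hC⟩ := gen_plane_eq h hx
  obtain ⟨hnW, hnU⟩ := gen_le_normalizer_plane h hE
  obtain ⟨A, a, e, z, P, hA, rfl⟩ := gen_plane_pair h hE
  have ha : a ∈ eSub 2 H A := P.eSub_eq ▸ P.a_memX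
  have hW' : P.W = W := by rw [← hW, P.eSub_eq, P.W_eq]
  have hord : a ^ 2 = 1 := by
    have := pow_card_eq_one' (x := (⟨a, P.mem_a⟩ : A))
    rw [hA.1] at this
    exact congrArg Subtype.val this
  have ha1 : a ≠ 1 := fun e' => P.moves (e' ▸ Commute.one_right z)
  have hcomm : ∀ v ∈ V, Commute v x → Commute v a := fun v hv hc => ((hC v hv hc) a ha).symm
  have hcV : ∀ g ∈ H, (∀ w ∈ W, Commute w g) → (∀ v ∈ V, Commute v x → Commute v g) → g = 1 := by
    intro g hg hgW hgC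
    refine h.toFF.eq_one hg fun v hv => ?_
    have T : Tri V x := ⟨h.hV, h.hHV (qcore_le hx.mem), by
      rw [gen_qcore_cube h hx.mem]; exact one_mem _⟩
    obtain ⟨w, hw, hc⟩ := T.decompose hv
    obtain ⟨v', hv', rfl⟩ := T.mem_rng.mp hw
    have h1 : Commute (⁅v', x⁆ * (⁅v', x⁆⁻¹ * v)) g :=
      (hgW _ (hx.comm v' hv')).mul_left (hgC _ (mul_mem (inv_mem (T.rng_le hw)) hv) hc)
    rw [mul_inv_cancel_left] at h1
    exact h1.eq
  refine ⟨a, P.aH, ha1, hord, fun v hv => hW' ▸ (mem_sup_left (P.a_comm hv)), hcomm, ?_⟩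
  have hne : a ∉ centralizer (W : Set G) := fun hc =>
    ha1 (hcV a P.aH (fun w hw => hc w hw) hcomm)
  have hxH := qcore_le hx.mem
  have hfix : ∃ w ∈ W, w ≠ 1 ∧ Commute a w :=
    ⟨e, hW' ▸ mem_sup_left (mem_zpowers e), P.e_ne_one, P.commute⟩
  have hinv := invert_of_fixed hx.card (hW ▸ hnW P.aH) hne hfix hx.fpf
  refine hcV _ (mul_mem (mul_mem (mul_mem P.aH hxH) (inv_mem P.aH)) hxH) (fun w hw => hinv w hw)
    fun v hv hc => ?_
  exact (((hcomm v hv hc).mul_right hc).mul_right (hcomm v hv hc).inv_right).mul_right hc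

/-- Elements of `H` normalize the group of a plane element. -/
theorem gen_conj_plane {g x : G} {W : Subgroup G} (hx : IsPlane V H x W) (hg : g ∈ H) :
    g * x * g⁻¹ * x⁻¹ = 1 ∨ g * x * g⁻¹ * x = 1 := by
  have : Fact (Nat.Prime 2) := ⟨Nat.prime_two⟩
  obtain ⟨E, hE, hW, hC⟩ := gen_plane_eq h hx
  obtain ⟨hnW, hnU⟩ := gen_le_normalizer_plane h hE
  obtain ⟨A, hAH, hA, rfl⟩ := hE
  have hxH := qcore_le hx.mem
  have hxU : ∀ v ∈ V ⊓ centralizer (eSub 2 H A : Set G), Commute v x := by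
    intro v hv
    refine commutatorElement_eq_one_iff_mul_comm.mp (mem_bot.mp
      ((h.toFF.plane_inf_centralizer hAH hA).le ⟨hW ▸ hx.comm v (mem_inf.mp hv).1, ?_⟩))
    have h1 : ⁅v, x⁆ ∈ V ⊓ centralizer (eSub 2 H A : Set G) := by
      rw [commutatorElement_def, show v * x * v⁻¹ * x⁻¹ = v * (x * v⁻¹ * x⁻¹) by group]
      exact mul_mem hv ((mem_normalizer_iff.mp (hnU hxH) _).mp (inv_mem hv))
    exact h1.2
  have hgU : ∀ v ∈ V ⊓ centralizer (eSub 2 H A : Set G), Commute v (g * x * g⁻¹) := by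
    intro v hv
    have h1 := hxU _ ((mem_normalizer_iff''.mp (hnU hg) v).mp hv)
    show v * (g * x * g⁻¹) = g * x * g⁻¹ * v
    calc v * (g * x * g⁻¹) = g * (g⁻¹ * v * g * x) * g⁻¹ := by group
      _ = g * (x * (g⁻¹ * v * g)) * g⁻¹ := by rw [h1.eq]
      _ = _ := by group
  have key : ∀ y ∈ H, (∀ w ∈ W, Commute w y) →
      (∀ v ∈ V ⊓ centralizer (eSub 2 H A : Set G), Commute v y) → y = 1 := by
    intro y hy hyW hyU
    refine h.toFF.eq_one hy fun v hv => ?_
    have hle : V ≤ centralizer ({y} : Set G) := by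
      conv_lhs => rw [← h.toFF.plane_sup_centralizer hAH hA]
      exact sup_le (fun w hw => mem_centralizer_singleton_iff.mpr (hyW w (hW ▸ hw)))
        fun u hu => mem_centralizer_singleton_iff.mpr (hyU u hu)
    exact mem_centralizer_singleton_iff.mp (hle hv)
  refine (conj_fpf hx.card (hW ▸ hnW hg) hx.fpf).imp (fun hc => ?_) fun hc => ?_
  · exact key _ (mul_mem (mul_mem (mul_mem hg hxH) (inv_mem hg)) (inv_mem hxH))
      (fun w hw => hc w hw) fun v hv => (hgU v hv).mul_right (hxU v hv).inv_right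
  · exact key _ (mul_mem (mul_mem (mul_mem hg hxH) (inv_mem hg)) hxH)
      (fun w hw => hc w hw) fun v hv => (hgU v hv).mul_right (hxU v hv)

/-- `O(H)` is generated by plane elements. -/
theorem gen_qcore_le : qcore 2 H ≤ closure {x | ∃ W, IsPlane V H x W} := by
  have : Fact (Nat.Prime 2) := ⟨Nat.prime_two⟩
  classical
  suffices key : ∀ (n : ℕ) (d : G), d ∈ qcore 2 H →
      {E | E ∈ eFam 2 V H ∧ d ∉ centralizer ((⁅V, E⁆ : Subgroup G) : Set G)}.ncard = n →
      d ∈ closure {x | ∃ W, IsPlane V H x W} from fun d hd => key _ d hd rfl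
  intro n
  induction n using Nat.strong_induction_on with
  | _ n ih =>
  intro d hd hn
  by_cases hall : ∀ E ∈ eFam 2 V H, d ∈ centralizer ((⁅V, E⁆ : Subgroup G) : Set G)
  · rw [gen_faithful h (qcore_le hd) hall]
    exact one_mem _
  push Not at hall
  obtain ⟨E, hE, hne⟩ := hall
  obtain ⟨x, hx, hxE⟩ := gen_exists_plane_elt h hE
  have hxc : x ∈ closure {x | ∃ W, IsPlane V H x W} := subset_closure ⟨_, hx⟩
  have hmove : ∀ F ∈ eFam 2 V H, F ≠ E → x ∈ centralizer ((⁅V, F⁆ : Subgroup G) : Set G) :=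
    fun F hF hFE w hw => (hxE w (h.toFF.plane_le hF hw)
      (le_centralizer_iff.mp (h.toFF.eFam_commute hF hE (Ne.symm hFE)).2 hw)).eq
  have hfd : Fpf ⁅V, E⁆ d := by
    refine ⟨(gen_le_normalizer_plane h hE).1 (qcore_le hd), fun w hw hc => ?_⟩
    by_contra hw1
    have hinv := invert_of_fixed hx.card ((gen_le_normalizer_plane h hE).1 (qcore_le hd)) hne
      ⟨w, hw, hw1, hc.symm⟩ hx.fpf
    rw [(gen_qcore_comm h hd hx.mem).eq, mul_inv_cancel_right] at hinv
    have h3 : (x * x) * x ∈ centralizer ((⁅V, E⁆ : Subgroup G) : Set G) := by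
      rw [← pow_two, ← pow_succ, gen_qcore_cube h hx.mem]; exact one_mem _
    have hx' : x ∈ centralizer ((⁅V, E⁆ : Subgroup G) : Set G) := by
      have := mul_mem (inv_mem hinv) h3
      rwa [inv_mul_cancel_left] at this
    exact hw1 (hx.fpf.2 w hw (hx' w hw))
  have hd' : ∃ e ∈ qcore 2 H, e ∈ closure {x | ∃ W, IsPlane V H x W} ∧
      d * e ∈ centralizer ((⁅V, E⁆ : Subgroup G) : Set G) ∧
      ∀ F ∈ eFam 2 V H, F ≠ E → e ∈ centralizer ((⁅V, F⁆ : Subgroup G) : Set G) := by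
    -- compare `d` with `x` on the plane
    obtain ⟨u, huH, -, -, -, -, hux⟩ := gen_exists_tv h hx
    have hcx := gen_qcore_comm h hd hx.mem
    have hW := gen_card_plane h hE
    obtain ⟨ρ, hk, hfix⟩ := exists_perm hW
    set d' : ↥(normalizer ((⁅V, E⁆ : Subgroup G) : Set G)) := ⟨d, hfd.1⟩
    set x' : ↥(normalizer ((⁅V, E⁆ : Subgroup G) : Set G)) := ⟨x, hx.fpf.1⟩
    have hno : ∀ y : ↥(normalizer ((⁅V, E⁆ : Subgroup G) : Set G)), Fpf ⁅V, E⁆ (y : G) →
        ∀ i, ρ y i ≠ i := fun y hy i hi => by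
      obtain ⟨w, hw, hw1, hc⟩ := (hfix y).mp ⟨i, hi⟩
      exact hw1 (hy.2 w hw hc.symm)
    have hdis : ρ (d' * x') = 1 ∨ ρ (d' * x'⁻¹) = 1 := by
      have h1 := hno d' hfd
      have h2 := hno x' hx.fpf
      simp only [map_mul, map_inv]
      generalize ρ d' = σ at h1
      generalize ρ x' = τ at h2
      revert σ τ; decide +kernel
    rcases hdis with hc | hc
    · exact ⟨x, hx.mem, hxc, (hk _).mp hc, hmove⟩
    · exact ⟨x⁻¹, inv_mem hx.mem, inv_mem hxc, (hk _).mp hc,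
        fun F hF hFE => inv_mem (hmove F hF hFE)⟩
  obtain ⟨e, heD, hec, hde, heF⟩ := hd'
  have := ih _ ?_ (d * e) (mul_mem hd heD) rfl
  · simpa using mul_mem this (inv_mem hec)
  rw [← hn]
  refine Set.ncard_lt_ncard ⟨fun F ⟨hF, hFd⟩ => ⟨hF, fun hdc => ?_⟩, fun hsub => ?_⟩ (Set.toFinite _)
  · by_cases hFE : F = E
    · subst hFE; exact hFd hde
    · exact hFd (mul_mem hdc (heF F hF hFE))
  · exact (hsub ⟨hE, hne⟩).2 hde

end Cfsg.Agent.JComponent
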