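import Cfsg.Agent.Lib.Offender.Model
import Cfsg.Agent.Lib.Offender.Factorization
import Cfsg.Agent.Lib.PGroup.Thompson
import Cfsg.Agent.Lib.JComponent.ModelPlanes

/-!
# `G / C_G(V)` for failure of factorization, `p = 2`, read in `G`

`rSub V` is the preimage of `O(J(G)C/C)`; `Plane V x W` means that `x ∈ rSub V` moves the
four-group `W` only.
-/

set_option autoImplicit false

namespace Cfsg.Agent.JComponent

open Subgroup Offender
open scoped commutatorElement

universe u

variable {G : Type u} [Group G] (V : Subgroup G) [V.Normal]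

/-- The image of `J(G)` in the model. -/
noncomputable def hImg : Subgroup (Model V) := (thompsonSubgroup 2 G).map (toModel V)

/-- The preimage of `O(J(G)C/C)`. -/
noncomputable def rSub : Subgroup G := (qcore 2 (hImg V)).comap (toModel V)

/-- `x ∈ rSub V` moves the four-group `W` only. -/
structure Plane (x : G) (W : Subgroup G) : Prop where
  mem : x ∈ rSub V
  le : W ≤ V
  card : Nat.card W = 4
  comm : ∀ v ∈ V, ⁅v, x⁆ ∈ W
  fpf : Fpf W x

theorem toModel_eq_one_iff {g : G} : toModel V g = 1 ↔ g ∈ centralizer (V : Set G) := by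
  rw [← ker_toModel, MonoidHom.mem_ker]

theorem bracket_toModel (g : G) (v : V) :
    ⁅ofV V v, toModel V g⁆ =
      ofV V (v * ⟨g * (v : G)⁻¹ * g⁻¹, Subgroup.Normal.conj_mem inferInstance _ (inv_mem v.2) g⟩) := by
  rw [map_mul, commutatorElement_def,
    show ofV V v * toModel V g * (ofV V v)⁻¹ * (toModel V g)⁻¹ =
      ofV V v * (toModel V g * ofV V v⁻¹ * (toModel V g)⁻¹) by rw [map_inv]; group,
    toModel_conj V g v⁻¹]
  rfl

theorem bracket_coe (g : G) (v : V) :
    ((v * ⟨g * (v : G)⁻¹ * g⁻¹, Subgroup.Normal.conj_mem inferInstance _ (inv_mem v.2) g⟩ : V) : G)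
      = ⁅(v : G), g⁆ := by
  rw [commutatorElement_def, Subgroup.coe_mul]
  group

theorem commute_toModel_iff (g : G) (v : V) :
    Commute (ofV V v) (toModel V g) ↔ Commute (v : G) g := by
  constructor
  · intro hc
    have h1 := commutatorElement_eq_one_iff_mul_comm.mpr hc
    rw [bracket_toModel, map_eq_one_iff _ (ofV_injective V)] at h1
    refine commutatorElement_eq_one_iff_mul_comm.mp ?_
    rw [← bracket_coe V g v, h1]
    rfl
  · intro hc
    refine commutatorElement_eq_one_iff_mul_comm.mp ?_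
    rw [bracket_toModel, map_eq_one_iff _ (ofV_injective V)]
    refine Subtype.ext ?_
    rw [bracket_coe V g v, commutatorElement_eq_one_iff_mul_comm.mpr hc]
    rfl

theorem mem_model_iff {W : Subgroup G} {v : V} :
    ofV V v ∈ (W.subgroupOf V).map (ofV V) ↔ (v : G) ∈ W :=
  ⟨fun ⟨v', hv', e⟩ => ofV_injective V e ▸ hv', fun h => ⟨v, h, rfl⟩⟩

variable [Finite G]

theorem Plane.toModel {x : G} {W : Subgroup G} (hp : Plane V x W) :
    IsPlane (modelV V) (hImg V) (Offender.toModel V x) ((W.subgroupOf V).map (ofV V)) where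
  mem := hp.mem
  le := by rintro _ ⟨v, -, rfl⟩; exact ⟨v, rfl⟩
  card := by
    rw [card_map_of_injective (ofV_injective V), Coprime.card_subgroupOf hp.le, hp.card]
  comm := by
    rintro _ ⟨v, rfl⟩
    rw [bracket_toModel, mem_model_iff, bracket_coe]
    exact hp.comm v v.2
  fpf := by
    refine ⟨Subnormal.mem_normalizer_of_cj_le ?_, ?_⟩
    · rintro _ ⟨_, ⟨v, hv, rfl⟩, rfl⟩
      show Offender.toModel V x * ofV V v * (Offender.toModel V x)⁻¹ ∈ _
      rw [toModel_conj, mem_model_iff]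
      exact (mem_normalizer_iff.mp hp.fpf.1 v).mp hv
    · rintro _ ⟨v, hv, rfl⟩ hc
      have h1 := hp.fpf.2 v hv ((commute_toModel_iff V x v).mp hc)
      rw [show v = 1 from Subtype.ext h1, map_one]

theorem Plane.of_isPlane {x : G} {W : Subgroup (Model V)}
    (hp : IsPlane (modelV V) (hImg V) (Offender.toModel V x) W) :
    Plane V x ((W.comap (ofV V)).map V.subtype) where
  mem := hp.mem
  le := map_subtype_le _
  card := by
    rw [card_map_of_injective V.subtype_injective, ← card_map_of_injective (ofV_injective V),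
      map_comap_eq_self hp.le, hp.card]
  comm := fun v hv => by
    refine ⟨⟨v, hv⟩ * ⟨x * v⁻¹ * x⁻¹, Subgroup.Normal.conj_mem inferInstance _ (inv_mem hv) x⟩, ?_,
      bracket_coe V x ⟨v, hv⟩⟩
    show ofV V _ ∈ W
    rw [← bracket_toModel V x ⟨v, hv⟩]
    exact hp.comm _ ⟨_, rfl⟩
  fpf := by
    refine ⟨Subnormal.mem_normalizer_of_cj_le ?_, ?_⟩
    · rintro _ ⟨_, ⟨v, hv, rfl⟩, rfl⟩
      refine ⟨⟨x * v * x⁻¹, Subgroup.Normal.conj_mem inferInstance _ v.2 x⟩, ?_, rfl⟩
      show ofV V _ ∈ W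
      rw [← toModel_conj]
      exact (mem_normalizer_iff.mp hp.fpf.1 _).mp hv
    · rintro _ ⟨v, hv, rfl⟩ hc
      have h1 := hp.fpf.2 _ hv ((commute_toModel_iff V x v).mpr hc)
      rw [map_eq_one_iff _ (ofV_injective V)] at h1
      rw [h1]; rfl

omit [Finite G] in
theorem rSub_normal : (rSub V).Normal := by
  refine ⟨fun r hr g => ?_⟩
  have hn : ∀ q ∈ hImg V, toModel V g * q * (toModel V g)⁻¹ ∈ hImg V := by
    rintro _ ⟨j, hj, rfl⟩
    exact ⟨g * j * g⁻¹, (thompsonSubgroup_normal (G := G)).conj_mem j hj g, by simp⟩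
  obtain ⟨⟨r', hr'H⟩, hr', e⟩ := (hr : toModel V r ∈ qcore 2 (hImg V))
  change r' = toModel V r at e
  let f : ↥(hImg V) →* ↥(hImg V) :=
    { toFun := fun q => ⟨toModel V g * q * (toModel V g)⁻¹, hn q q.2⟩
      map_one' := Subtype.ext (by simp)
      map_mul' := fun a b => Subtype.ext (by simp [mul_assoc]) }
  have hf : Function.Surjective f := by
    rintro ⟨q, hq⟩
    have hq' : (toModel V g)⁻¹ * q * toModel V g ∈ hImg V := by
      obtain ⟨j, hj, rfl⟩ := hq
      exact ⟨g⁻¹ * j * g, by simpa using (thompsonSubgroup_normal (G := G)).conj_mem j hj g⁻¹,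
        by simp⟩
    exact ⟨⟨_, hq'⟩, Subtype.ext (by simp [f, mul_assoc])⟩
  refine ⟨f ⟨r', hr'H⟩, PCore.map_pPrimeCore_le f hf ⟨_, hr', rfl⟩, ?_⟩
  show toModel V g * r' * (toModel V g)⁻¹ = toModel V (g * r * g⁻¹)
  rw [e, map_mul, map_mul, map_inv]

omit [Finite G] in
theorem centralizer_le_rSub : centralizer (V : Set G) ≤ rSub V := fun g hg => by
  show toModel V g ∈ qcore 2 (hImg V)
  rw [(toModel_eq_one_iff V).mpr hg]
  exact one_mem _

variable (hsep : IsPSolvable 2 G) (hV : IsElementaryAbelian 2 V)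
  (hO : pCore 2 (G ⧸ centralizer (V : Set G)) = ⊥)
include hsep hV hO

theorem whole_gen : Gen 2 (modelV V) (hImg V) :=
  have : Fact (Nat.Prime 2) := ⟨Nat.prime_two⟩
  model_gen V hsep hV hO

theorem rSub_comm {r r' : G} (hr : r ∈ rSub V) (hr' : r' ∈ rSub V) :
    ⁅r, r'⁆ ∈ centralizer (V : Set G) := by
  rw [← toModel_eq_one_iff, map_commutatorElement, commutatorElement_eq_one_iff_mul_comm]
  exact gen_qcore_comm (whole_gen V hsep hV hO) hr hr'

theorem rSub_cube {r : G} (hr : r ∈ rSub V) : r ^ 3 ∈ centralizer (V : Set G) := by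
  rw [← toModel_eq_one_iff, map_pow]
  exact gen_qcore_cube (whole_gen V hsep hV hO) hr

theorem sq_mem_rSub {g : G} (hg : g ∈ thompsonSubgroup 2 G) : g ^ 2 ∈ rSub V := by
  show toModel V (g ^ 2) ∈ qcore 2 (hImg V)
  rw [map_pow]
  exact gen_sq_mem (whole_gen V hsep hV hO) ⟨g, hg, rfl⟩

omit hsep hV hO in
theorem two_elt_of_rSub {r : G} (hr : r ∈ rSub V) {k : ℕ} (hk : r ^ 2 ^ k = 1) :
    r ∈ centralizer (V : Set G) := by
  rw [← toModel_eq_one_iff]
  refine eq_one_of_pow_eq_one_of_coprime (p := 2) (k := k) (coprime_orderOf_of_mem_qcore hr) ?_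
  rw [← map_pow, hk, map_one]

theorem thompson_le (T : Sylow 2 G) :
    thompsonSubgroup 2 G ≤ rSub V ⊔ thompsonSubgroupOf 2 (T : Subgroup G) := by
  have : Fact (Nat.Prime 2) := ⟨Nat.prime_two⟩
  set θ := toModel V with hθ
  set JT := thompsonSubgroupOf 2 (T : Subgroup G) with hJT
  have hJTle : JT ≤ thompsonSubgroup 2 G := thompsonSubgroupOf_sylow_le T
  have hgen : hImg V ≤ closure
      {x | ∃ g ∈ hImg V, ∃ j ∈ JT.map θ, g * j * g⁻¹ = x} := by
    have : (thompsonSubgroup 2 G).Normal := thompsonSubgroup_normal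
    rw [hImg, map_le_iff_le_comap]
    refine thompsonSubgroup_eq_iSup_sylow.trans_le (iSup_le fun S a ha => ?_)
    obtain ⟨g, rfl⟩ := MulAction.exists_smul_eq G T S
    have htop := sup_normalizer_thompson_eq_top T (thompsonSubgroup 2 G) hJTle
    obtain ⟨n, hn, m, hm, rfl⟩ := (mem_sup_of_normal_left).mp
      (htop.ge (mem_top g) : g ∈ thompsonSubgroup 2 G ⊔ normalizer (JT : Set G))
    have ha' : a ∈ JT.map (MulAut.conj (n * m)).toMonoidHom := by
      rw [hJT, PGroup.thompsonSubgroupOf_map_equiv]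
      exact ha
    obtain ⟨j, hj, rfl⟩ := ha'
    refine subset_closure ⟨θ n, ⟨n, hn, rfl⟩, θ (m * j * m⁻¹),
      ⟨_, (mem_normalizer_iff.mp hm j).mp hj, rfl⟩, ?_⟩
    show θ n * θ (m * j * m⁻¹) * (θ n)⁻¹ = θ (n * m * j * (n * m)⁻¹)
    simp [mul_assoc]
  intro g hg
  have hmem := gen_le_sup (whole_gen V hsep hV hO) (map_mono hJTle) hgen ⟨g, hg, rfl⟩
  have hn : JT.map θ ≤ normalizer (qcore 2 (hImg V) : Set (Model V)) :=
    (map_mono hJTle).trans le_normalizer_qcore
  rw [sup_comm] at hmem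
  obtain ⟨_, ⟨j, hj, rfl⟩, d, hd, e⟩ := (Coprime.mem_sup_iff_of_le_normalizer hn).mp hmem
  have hr : j⁻¹ * g ∈ rSub V := by
    show θ (j⁻¹ * g) ∈ qcore 2 (hImg V)
    rw [hθ] at e ⊢
    rw [map_mul, map_inv, ← e, inv_mul_cancel_left]
    exact hd
  rw [← mul_inv_cancel_left j g]
  exact mul_mem (mem_sup_right hj) (mem_sup_left hr)

theorem plane_exists_tv {x : G} {W : Subgroup G} (hp : Plane V x W) :
    ∃ (u : G) (k : ℕ), u ^ 2 ^ k = 1 ∧ u ∉ centralizer (V : Set G) ∧ (∀ v ∈ V, ⁅v, u⁆ ∈ W) ∧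
      (∀ v ∈ V, Commute v x → Commute v u) ∧ u * x * u⁻¹ * x ∈ centralizer (V : Set G) := by
  have : Fact (Nat.Prime 2) := ⟨Nat.prime_two⟩
  obtain ⟨a, ⟨g, -, rfl⟩, ha1, ha2, hW, hC, hx⟩ :=
    gen_exists_tv (whole_gen V hsep hV hO) (hp.toModel)
  obtain ⟨k, m, hm, e⟩ := Nat.exists_eq_two_pow_mul_odd (orderOf_pos g).ne'
  have hgm : toModel V (g ^ m) = toModel V g := by
    obtain ⟨j, rfl⟩ := hm
    rw [map_pow, pow_succ, pow_mul, ha2, one_pow, one_mul]
  refine ⟨g ^ m, k, by rw [← pow_mul, mul_comm, ← e, pow_orderOf_eq_one], ?_, fun v hv => ?_,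
    fun v hv hc => ?_, ?_⟩
  · rw [← toModel_eq_one_iff, hgm]; exact ha1
  · have h1 := hW _ ⟨⟨v, hv⟩, rfl⟩
    rw [← hgm, bracket_toModel, mem_model_iff, bracket_coe] at h1
    exact h1
  · exact (commute_toModel_iff V (g ^ m) ⟨v, hv⟩).mp
      (hgm ▸ hC _ ⟨_, rfl⟩ ((commute_toModel_iff V x ⟨v, hv⟩).mpr hc))
  · rw [← toModel_eq_one_iff]
    simpa [hgm] using hx

theorem plane_conj {x g : G} {W : Subgroup G} (hp : Plane V x W)
    (hg : g ∈ thompsonSubgroup 2 G) :
    g * x * g⁻¹ * x⁻¹ ∈ centralizer (V : Set G) ∨ g * x * g⁻¹ * x ∈ centralizer (V : Set G) := by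
  simp only [← toModel_eq_one_iff, map_mul, map_inv]
  exact gen_conj_plane (whole_gen V hsep hV hO) hp.toModel ⟨g, hg, rfl⟩

theorem plane_invert (T : Sylow 2 G) {x : G} {W : Subgroup G} (hp : Plane V x W) :
    ∃ A, PGroup.IsMaxEA 2 (T : Subgroup G) A ∧ ∃ a ∈ A,
      a * x * a⁻¹ * x ∈ centralizer (V : Set G) := by
  have : Fact (Nat.Prime 2) := ⟨Nat.prime_two⟩
  have h := whole_gen V hsep hV hO
  obtain ⟨u, hu, -, -, -, -, hux⟩ := gen_exists_tv h hp.toModel
  by_contra hcon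
  push Not at hcon
  set JT := thompsonSubgroupOf 2 (T : Subgroup G) with hJT
  have hJTle : JT ≤ thompsonSubgroup 2 G := thompsonSubgroupOf_sylow_le T
  -- every element of `H` then centralizes the image of `x`
  have hJc : JT ≤ (centralizer ({toModel V x} : Set (Model V))).comap (toModel V) := by
    rw [hJT, PGroup.thompsonSubgroupOf_eq]
    refine sSup_le fun A hA a ha => ?_
    have haJ : a ∈ thompsonSubgroup 2 G :=
      hJTle (PGroup.le_thompsonSubgroupOf hA ha)
    have h1 := (plane_conj V hsep hV hO hp haJ).resolve_right (hcon A hA a ha)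
    rw [← toModel_eq_one_iff] at h1
    show toModel V a ∈ centralizer ({toModel V x} : Set (Model V))
    rw [mem_centralizer_singleton_iff, ← mul_inv_eq_iff_eq_mul, ← mul_inv_eq_one]
    simpa using h1
  have hRc : rSub V ≤ (centralizer ({toModel V x} : Set (Model V))).comap (toModel V) :=
    fun r hr => mem_centralizer_singleton_iff.mpr (gen_qcore_comm h hr hp.mem).eq
  obtain ⟨g, hg, rfl⟩ := hu
  have hc := ((thompson_le V hsep hV hO T).trans (sup_le hRc hJc)) hg
  have hcomm : toModel V g * toModel V x = toModel V x * toModel V g :=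
    mem_centralizer_singleton_iff.mp hc
  rw [hcomm, mul_inv_cancel_right] at hux
  have h3 := gen_qcore_cube h (hp.mem : toModel V x ∈ qcore 2 (hImg V))
  rw [pow_succ, pow_two, hux, one_mul] at h3
  have := hp.card
  have hbot : W = ⊥ := (eq_bot_iff_forall W).mpr fun w hw => hp.fpf.2 w hw
    ((toModel_eq_one_iff V).mp h3 w (hp.le hw))
  rw [hbot, Subgroup.card_bot] at this
  omega

theorem rSub_le : rSub V ≤ closure {x | ∃ W, Plane V x W} ⊔ centralizer (V : Set G) := by
  intro r hr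
  have h := gen_qcore_le (whole_gen V hsep hV hO) (hr : toModel V r ∈ _)
  have hle : closure {x | ∃ W, IsPlane (modelV V) (hImg V) x W} ≤
      (closure {x | ∃ W, Plane V x W}).map (toModel V) := by
    rw [closure_le]
    rintro y ⟨W, hW⟩
    obtain ⟨g, -, rfl⟩ := qcore_le hW.mem
    exact ⟨g, subset_closure ⟨_, Plane.of_isPlane V hW⟩, rfl⟩
  obtain ⟨y, hy, e⟩ := hle h
  rw [← mul_inv_cancel_left y r]
  refine mul_mem (mem_sup_left hy) (mem_sup_right ?_)
  rw [← toModel_eq_one_iff, map_mul, map_inv, e, inv_mul_cancel]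

theorem exists_plane (hne : ¬ thompsonSubgroup 2 G ≤ centralizer (V : Set G)) :
    ∃ x W, Plane V x W := by
  have : Fact (Nat.Prime 2) := ⟨Nat.prime_two⟩
  have h := whole_gen V hsep hV hO
  have hH : hImg V ≠ ⊥ := by
    rw [hImg, Ne, Subgroup.map_eq_bot_iff, ker_toModel]; exact hne
  obtain ⟨A, hA, hT⟩ := h.exists_tv hH
  obtain ⟨x, hx, -⟩ := gen_exists_plane_elt h ⟨A, hA, hT, rfl⟩
  obtain ⟨g, -, rfl⟩ := qcore_le hx.mem
  exact ⟨g, _, Plane.of_isPlane V hx⟩

end Cfsg.Agent.JComponent
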