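import Cfsg.Agent.Lib.JComponent.Basic
import Cfsg.Agent.Lib.JComponent.Whole

/-!
# A member `L` of `ℒ(T)` in a ZN-group of characteristic 2 type

`Setting T L` collects what is used about `L`; with `V = Ω₁Z(O₂L)`, `C = C_L(V)`, `rOf L` the
preimage of `O(J(L)C/C)` and `PlaneIn L x W` the elements of `rOf L` moving the four-group `W` only.
-/

set_option autoImplicit false

namespace Cfsg.Agent.JComponent

open Subgroup LocalStructure
open scoped commutatorElement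

universe u

variable {G : Type u} [Group G] [Finite G]

/-- `Ω₁Z(O₂L)`. -/
abbrev vOf (L : Subgroup G) : Subgroup G := omegaCenterOf (pCoreOf 2 L)

/-- `C_L(Ω₁Z(O₂L))`. -/
abbrev cOf (L : Subgroup G) : Subgroup G := L ⊓ centralizer (vOf L : Set G)

/-- What is used about `L ∈ ℒ(T)`. -/
structure Setting (T L : Subgroup G) : Prop where
  syl : IsSylowTwoIn T L
  notJ : ¬ jOf T ≤ pCoreOf 2 L
  cen : centralizer (pCoreOf 2 L : Set G) ≤ pCoreOf 2 L
  sol : Group.IsSolvable ↥L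
  centr : cOf L ≤ normalizer (T : Set G)

theorem le_normalizer_vOf (L : Subgroup G) : L ≤ normalizer (vOf L : Set G) :=
  (le_normalizer_pCoreOf 2 L).trans (normalizer_le_normalizer_omegaCenterOf _)

theorem vOf_le (L : Subgroup G) : vOf L ≤ pCoreOf 2 L :=
  (omegaCenterOf_le _).trans inf_le_left

theorem vOf_le_self (L : Subgroup G) : vOf L ≤ L := (vOf_le L).trans (pCoreOf_le 2 L)

instance vOf_normal (L : Subgroup G) : ((vOf L).subgroupOf L).Normal :=
  (normal_subgroupOf_iff_le_normalizer (vOf_le_self L)).mpr (le_normalizer_vOf L)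

theorem le_normalizer_cOf (L : Subgroup G) : L ≤ normalizer (cOf L : Set G) :=
  le_normalizer_inf le_normalizer (le_normalizer_centralizer (le_normalizer_vOf L))

theorem pCoreOf_le_cOf (L : Subgroup G) : pCoreOf 2 L ≤ cOf L :=
  le_inf (pCoreOf_le 2 L) fun q hq v hv => ((omegaCenterOf_le _ hv).2 q hq).symm

/-- The hypotheses on `G` give the setting for every member of `ℒ(T)`. -/
theorem setting_of_mem (hN : ∀ N : Subgroup G, IsTwoLocal N → Group.IsSolvable ↥N)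
    (hZ : ∀ S : Sylow 2 G, centralizer (omegaCenterOf (S : Subgroup G) : Set G) ≤
      normalizer ((S : Subgroup G) : Set G))
    {T L : Subgroup G} (hLT : L ∈ jOvergroups T) : Setting T L := by
  have : Fact (Nat.Prime 2) := ⟨Nat.prime_two⟩
  obtain ⟨hsyl, hnJ, hcen⟩ := hLT
  have hQ : pCoreOf 2 L ≠ ⊥ := by
    intro e
    have hc : centralizer (pCoreOf 2 L : Set G) = ⊤ := by
      rw [e]; exact eq_top_iff.mpr (le_centralizer_iff.mp bot_le)
    rw [hc, e, top_le_iff] at hcen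
    refine hnJ fun x _ => ?_
    have : x ∈ (⊥ : Subgroup G) := hcen ▸ mem_top x
    rw [mem_bot.mp this]
    exact one_mem _
  have hsol : Group.IsSolvable ↥L := by
    have h2 := hN _ ⟨pCoreOf 2 L, isPGroup_pCoreOf 2 L, hQ, rfl⟩
    exact Coprime.isSolvable_of_le (le_normalizer_pCoreOf 2 L) h2
  refine ⟨hsyl, hnJ, hcen, hsol, ?_⟩
  obtain ⟨S, hS⟩ := hsyl.2.1.exists_le_sylow
  have hTS : T = (S : Subgroup G) ⊓ L :=
    ((sylowTwoIn_iff.mp hsyl).2.2 _ (le_inf hS hsyl.1) inf_le_right (S.2.to_le inf_le_left)).symm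
  have hQT : pCoreOf 2 L ≤ T := (sylowTwoIn_iff.mp hsyl).pCoreOf_le
  have hΩ : omegaCenterOf (S : Subgroup G) ≤ vOf L := by
    refine (PGroup.omegaOne_le_iff).mpr fun x hx hx2 => ?_
    have hc : x ∈ centralizer (pCoreOf 2 L : Set G) := fun q hq => hx.2 q (hS (hQT hq))
    exact mem_omegaCenterOf (hcen hc) hc hx2
  intro c hc
  have hcS : c ∈ normalizer ((S : Subgroup G) : Set G) :=
    hZ S fun z hz => hc.2 z (hΩ hz)
  rw [hTS]
  exact le_normalizer_inf (L := normalizer ((S : Subgroup G) : Set G) ⊓ L) (A := (S : Subgroup G))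
    (B := L) inf_le_left (inf_le_right.trans le_normalizer) ⟨hcS, hc.1⟩

theorem vOf_subgroupOf_isElementaryAbelian (L : Subgroup G) :
    IsElementaryAbelian 2 ((vOf L).subgroupOf L) :=
  PGroup.isElementaryAbelian_comap (isElementaryAbelian_omegaCenterOf _) L.subtype_injective

theorem centralizer_vOf_subgroupOf (L : Subgroup G) :
    centralizer ((vOf L).subgroupOf L : Set ↥L) = (cOf L).subgroupOf L := by
  ext g
  simp only [mem_subgroupOf, mem_inf, mem_centralizer_iff]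
  refine ⟨fun h => ⟨g.2, fun v hv => congrArg Subtype.val (h ⟨v, vOf_le_self L hv⟩ hv)⟩,
    fun h v hv => Subtype.ext (h.2 v hv)⟩

/-- The preimage of `O(J(L)C/C)` in `L`. -/
noncomputable def rOf (L : Subgroup G) : Subgroup G :=
  (rSub ((vOf L).subgroupOf L)).map L.subtype

/-- `x ∈ rOf L` moves the four-group `W` only. -/
structure PlaneIn (L : Subgroup G) (x : G) (W : Subgroup G) : Prop where
  mem : x ∈ rOf L
  le : W ≤ vOf L
  card : Nat.card W = 4
  comm : ∀ v ∈ vOf L, ⁅v, x⁆ ∈ W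
  fpf : Fpf W x

theorem rOf_le (L : Subgroup G) : rOf L ≤ L := map_subtype_le _

theorem le_normalizer_rOf (L : Subgroup G) : L ≤ normalizer (rOf L : Set G) := by
  refine (normal_subgroupOf_iff_le_normalizer (rOf_le L)).mp ?_
  rw [rOf, subgroupOf, comap_map_eq_self_of_injective L.subtype_injective]
  exact rSub_normal _

theorem cOf_le_rOf (L : Subgroup G) : cOf L ≤ rOf L := fun c hc =>
  ⟨⟨c, hc.1⟩, centralizer_le_rSub _ ((centralizer_vOf_subgroupOf L).ge hc), rfl⟩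

theorem PlaneIn.toPlane {L : Subgroup G} {x : G} {W : Subgroup G} (hp : PlaneIn L x W) :
    ∃ hx : x ∈ L, Plane ((vOf L).subgroupOf L) (⟨x, hx⟩ : ↥L) (W.subgroupOf L) := by
  obtain ⟨x', hx', rfl⟩ := hp.mem
  refine ⟨x'.2, hx', fun w hw => hp.le hw, ?_, fun v hv => ?_, ?_, ?_⟩
  · rw [Coprime.card_subgroupOf (hp.le.trans (vOf_le_self L)), hp.card]
  · exact hp.comm v hv
  · exact mem_normalizer_iff.mpr fun w => mem_normalizer_iff.mp hp.fpf.1 (w : G)
  · exact fun w hw hc => Subtype.ext (hp.fpf.2 w hw (congrArg Subtype.val hc))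

theorem PlaneIn.of_plane {L : Subgroup G} {x : ↥L} {W : Subgroup ↥L}
    (hp : Plane ((vOf L).subgroupOf L) x W) : PlaneIn L (x : G) (W.map L.subtype) where
  mem := ⟨x, hp.mem, rfl⟩
  le := by rintro _ ⟨w, hw, rfl⟩; exact hp.le hw
  card := by rw [card_map_of_injective L.subtype_injective, hp.card]
  comm := fun v hv => ⟨_, hp.comm ⟨v, vOf_le_self L hv⟩ hv, rfl⟩
  fpf := by
    refine ⟨le_normalizer_map L.subtype ⟨x, hp.fpf.1, rfl⟩, ?_⟩
    rintro _ ⟨w, hw, rfl⟩ hc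
    rw [hp.fpf.2 w hw (Subtype.ext hc)]
    rfl

section SettingSec

variable {T L : Subgroup G} (h : Setting T L)
include h

theorem Setting.isSylowIn : IsSylowIn 2 T L := sylowTwoIn_iff.mp h.syl

theorem Setting.pCore_le : pCoreOf 2 L ≤ T := h.isSylowIn.pCoreOf_le

theorem Setting.j_le : jOf T ≤ L := (PGroup.thompsonSubgroupOf_le T).trans h.syl.1

theorem Setting.maxEA {A : Subgroup G} (hA : PGroup.IsMaxEA 2 T A) : PGroup.IsMaxEA 2 L A :=
  maxEA_of_sylow h.syl hA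

theorem Setting.inf_cOf_le : T ⊓ cOf L ≤ pCoreOf 2 L := by
  refine (le_pCoreOf inf_le_right (le_normalizer_inf h.centr
    le_normalizer) (h.syl.2.1.to_le inf_le_left)).trans ?_
  exact le_pCoreOf ((pCoreOf_le 2 _).trans inf_le_left)
    ((le_normalizer_cOf L).trans (normalizer_le_normalizer_pCoreOf _)) (isPGroup_pCoreOf 2 _)

theorem Setting.two_mem {g : G} (hg : g ∈ cOf L) {k : ℕ} (hk : g ^ 2 ^ k = 1) :
    g ∈ pCoreOf 2 L := by
  have : Fact (Nat.Prime 2) := ⟨Nat.prime_two⟩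
  have hP : IsPGroup 2 ↥(zpowers g) := by
    obtain ⟨i, -, hi⟩ := (Nat.dvd_prime_pow Nat.prime_two).mp (orderOf_dvd_of_pow_eq_one hk)
    exact IsPGroup.of_card (n := i) (by rw [Nat.card_zpowers, hi])
  obtain ⟨l, hl, hle⟩ := h.isSylowIn.exists_conj_le hP (zpowers_le.mpr hg.1)
  have h1 : l * g * l⁻¹ ∈ T ⊓ cOf L :=
    ⟨hle ⟨g, mem_zpowers g, rfl⟩, (mem_normalizer_iff.mp (le_normalizer_cOf L hl) g).mp hg⟩
  exact (mem_normalizer_iff.mp (le_normalizer_pCoreOf 2 L hl) g).mpr (h.inf_cOf_le h1)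

/-- 2-elements of `L` centralize `C` modulo `O₂(L)`. -/
theorem Setting.cOf_comm {c g : G} (hc : c ∈ cOf L) (hg : g ∈ L) {k : ℕ} (hk : g ^ 2 ^ k = 1) :
    ⁅c, g⁆ ∈ pCoreOf 2 L := by
  have : Fact (Nat.Prime 2) := ⟨Nat.prime_two⟩
  have hP : IsPGroup 2 ↥(zpowers g) := by
    obtain ⟨i, -, hi⟩ := (Nat.dvd_prime_pow Nat.prime_two).mp (orderOf_dvd_of_pow_eq_one hk)
    exact IsPGroup.of_card (n := i) (by rw [Nat.card_zpowers, hi])
  obtain ⟨l, hl, hle⟩ := h.isSylowIn.exists_conj_le hP (zpowers_le.mpr hg)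
  have ht : l * g * l⁻¹ ∈ T := hle ⟨g, mem_zpowers g, rfl⟩
  have hc' : l * c * l⁻¹ ∈ cOf L := (mem_normalizer_iff.mp (le_normalizer_cOf L hl) c).mp hc
  have h1 : ⁅l * c * l⁻¹, l * g * l⁻¹⁆ ∈ T ⊓ cOf L := by
    rw [commutatorElement_def]
    refine ⟨mul_mem (S := Subgroup G) ((mem_normalizer_iff.mp (h.centr hc') _).mp ht) (inv_mem ht),
      ?_⟩
    rw [show ∀ x y : G, x * y * x⁻¹ * y⁻¹ = x * (y * x⁻¹ * y⁻¹) from fun x y => by group]
    exact mul_mem (S := Subgroup G) hc'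
      ((mem_normalizer_iff.mp (le_normalizer_cOf L (h.syl.1 ht)) _).mp (inv_mem hc'))
  have h2 := h.inf_cOf_le h1
  rw [show ⁅l * c * l⁻¹, l * g * l⁻¹⁆ = l * ⁅c, g⁆ * l⁻¹ by
    simp only [commutatorElement_def]; group] at h2
  exact (mem_normalizer_iff.mp (le_normalizer_pCoreOf 2 L hl) _).mpr h2

theorem Setting.hO : pCore 2 (↥L ⧸ centralizer ((vOf L).subgroupOf L : Set ↥L)) = ⊥ := by
  have : Fact (Nat.Prime 2) := ⟨Nat.prime_two⟩
  set C := centralizer ((vOf L).subgroupOf L : Set ↥L) with hC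
  set π := QuotientGroup.mk' C
  set P := (pCore 2 (↥L ⧸ C)).comap π with hP
  rw [eq_bot_iff]
  rintro y hy
  obtain ⟨x, rfl⟩ := QuotientGroup.mk_surjective y
  obtain ⟨n, hn⟩ := PCore.isPGroup_pCore (G := ↥L ⧸ C) ⟨_, hy⟩
  have hn' : x ^ 2 ^ n ∈ C := (QuotientGroup.eq_one_iff _).mp (congrArg Subtype.val hn)
  obtain ⟨m, k, hm, h2, -⟩ := exists_two_part x
  -- `x ^ m` is a 2-element of `P`; it lies in `C`
  suffices hxm : x ^ m ∈ C by
    obtain ⟨j, hj⟩ : ∃ j : ℤ, ∃ i : ℤ, (m : ℤ) * j + (2 ^ n : ℕ) * i = 1 :=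
      ⟨_, _, (Nat.gcd_eq_gcd_ab m (2 ^ n)).symm.trans (by
        rw [(Nat.coprime_two_right.mpr hm).pow_right n]; rfl)⟩
    obtain ⟨i, hi⟩ := hj
    refine mem_bot.mpr ((QuotientGroup.eq_one_iff _).mpr ?_)
    have e : x = (x ^ m) ^ j * (x ^ 2 ^ n) ^ i := by
      rw [← zpow_natCast x m, ← zpow_mul, ← zpow_natCast x (2 ^ n), ← zpow_mul, ← zpow_add, hi,
        zpow_one]
    rw [e]
    exact mul_mem (zpow_mem hxm j) (zpow_mem hn' i)
  -- the Sylow subgroup of `P`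
  have hPn : P.Normal := (pCore_normal 2 _).comap π
  obtain ⟨Q, hQ⟩ : ∃ Q : Sylow 2 ↥L, T.subgroupOf L ≤ Q :=
    (h.syl.2.1.of_equiv (subgroupOfEquivOfLe h.syl.1).symm).exists_le_sylow
  have hTQ : (Q : Subgroup ↥L) = T.subgroupOf L := by
    obtain ⟨P', hP'⟩ := h.isSylowIn.exists_sylow
    rw [← hP']
    exact P'.3 Q.2 (hP' ▸ hQ)
  have hCQ : C ≤ normalizer ((Q : Subgroup ↥L) : Set ↥L) := by
    rw [hTQ, hC, centralizer_vOf_subgroupOf]
    intro c hc
    refine mem_normalizer_iff.mpr fun w => ?_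
    exact mem_normalizer_iff.mp (h.centr hc) (w : G)
  set D := (Q : Subgroup ↥L) ⊓ P with hD
  have hCP : C ≤ P := by
    intro c hc
    show π c ∈ pCore 2 _
    rw [show π c = 1 from (QuotientGroup.eq_one_iff c).mpr hc]
    exact one_mem _
  obtain ⟨P₀, hP₀⟩ := Offender.exists_sylow_eq_inf Q P
  -- `P = D C`
  have hPD : P ≤ normalizer (D : Set ↥L) := by
    have hsup : P = D ⊔ C := by
      refine le_antisymm ?_ (sup_le inf_le_right hCP)
      have hDC : D ⊔ C ≤ P := sup_le inf_le_right hCP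
      have hodd : ¬ 2 ∣ (D ⊔ C).relIndex P := by
        intro hd
        refine P₀.not_dvd_index ?_
        have h1 : D.subgroupOf P = (P₀ : Subgroup ↥P) := by
          rw [hD, ← hP₀, subgroupOf, comap_map_eq_self_of_injective P.subtype_injective]
        have h2 := relIndex_mul_relIndex D (D ⊔ C) P le_sup_left hDC
        rw [← h1]
        exact hd.trans (Dvd.intro_left _ h2)
      have hpow : ∃ i, (D ⊔ C).relIndex P ∣ 2 ^ i := by
        obtain ⟨i, hi⟩ := IsPGroup.iff_card.mp (PCore.isPGroup_pCore (p := 2) (G := ↥L ⧸ C))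
        refine ⟨i, (relIndex_dvd_of_le_left P le_sup_right).trans ?_⟩
        rw [← hi, PCore.relIndex_eq_card_map_mk', hP]
        exact card_dvd_of_le (map_comap_le _ _)
      obtain ⟨i, hi⟩ := hpow
      obtain ⟨j, -, hj⟩ := (Nat.dvd_prime_pow Nat.prime_two).mp hi
      rcases j with _ | j
      · exact relIndex_eq_one.mp (by simpa using hj)
      · exact absurd (hj ▸ dvd_pow_self 2 (Nat.succ_ne_zero j)) hodd
    rw [hsup]
    exact sup_le le_normalizer (le_normalizer_inf hCQ (by rw [normalizer_eq_top]; exact le_top))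
  have hDcore : D ≤ C := by
    have h1 : D ≤ pCoreOf 2 P := le_pCoreOf inf_le_right hPD (Q.2.to_le inf_le_left)
    have h2 : pCoreOf 2 P ≤ pCore 2 ↥L :=
      pCoreOf_le_of_isSubnormal (Normal.isSubnormal hPn)
    intro d hd
    rw [hC, centralizer_vOf_subgroupOf]
    exact pCoreOf_le_cOf L ⟨d, h2 (h1 hd), rfl⟩
  -- conjugate `x ^ m` into `Q`
  have hxP : x ^ m ∈ P := pow_mem (show x ∈ P from hy) m
  obtain ⟨Q', hQ'⟩ := (show IsPGroup 2 ↥(zpowers (x ^ m)) from by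
    obtain ⟨i, -, hi⟩ := (Nat.dvd_prime_pow Nat.prime_two).mp (orderOf_dvd_of_pow_eq_one h2)
    exact IsPGroup.of_card (n := i) (by rw [Nat.card_zpowers, hi])).exists_le_sylow
  obtain ⟨g, rfl⟩ := MulAction.exists_smul_eq ↥L Q Q'
  have h3 : g⁻¹ * (x ^ m) * g ∈ D := by
    refine ⟨?_, by simpa using hPn.conj_mem _ hxP g⁻¹⟩
    have := hQ' (mem_zpowers (x ^ m))
    rw [Sylow.coe_subgroup_smul, Subgroup.mem_pointwise_smul_iff_inv_smul_mem] at this
    simp only [MulAut.smul_def, MulAut.conj_inv_apply] at this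
    simp only [mul_assoc] at this ⊢
    exact this
  have h4 := (normal_centralizer (H := (vOf L).subgroupOf L)).conj_mem _ (hDcore h3) g
  simpa [mul_assoc] using h4

theorem Setting.hsep : IsPSolvable 2 ↥L :=
  have : Fact (Nat.Prime 2) := ⟨Nat.prime_two⟩
  have := h.sol
  PCore.isPSolvable_of_isSolvable

theorem Setting.rOf_comm {r r' : G} (hr : r ∈ rOf L) (hr' : r' ∈ rOf L) : ⁅r, r'⁆ ∈ cOf L := by
  obtain ⟨a, ha, rfl⟩ := hr
  obtain ⟨b, hb, rfl⟩ := hr'
  have := rSub_comm _ h.hsep (vOf_subgroupOf_isElementaryAbelian L) h.hO ha hb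
  rw [centralizer_vOf_subgroupOf] at this
  exact this

theorem Setting.rOf_cube {r : G} (hr : r ∈ rOf L) : r ^ 3 ∈ cOf L := by
  obtain ⟨a, ha, rfl⟩ := hr
  have := rSub_cube _ h.hsep (vOf_subgroupOf_isElementaryAbelian L) h.hO ha
  rw [centralizer_vOf_subgroupOf] at this
  exact this

theorem Setting.odd_mem_rOf {g : G} (hg : g ∈ jOf L) (ho : Odd (orderOf g)) : g ∈ rOf L := by
  obtain ⟨a, ha, rfl⟩ := hg
  exact mem_of_two_pow_mem ho (k := 1) ⟨a ^ 2,
    sq_mem_rSub _ h.hsep (vOf_subgroupOf_isElementaryAbelian L) h.hO ha, by simp⟩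

omit h in
theorem rOf_two_mem {g : G} (hg : g ∈ rOf L) {k : ℕ} (hk : g ^ 2 ^ k = 1) : g ∈ cOf L := by
  obtain ⟨a, ha, rfl⟩ := hg
  have := two_elt_of_rSub ((vOf L).subgroupOf L) ha (k := k) (Subtype.ext (by simpa using hk))
  rw [centralizer_vOf_subgroupOf] at this
  exact this

theorem Setting.exists_sylow : ∃ Q : Sylow 2 ↥L, (Q : Subgroup ↥L).map L.subtype = T :=
  h.isSylowIn.exists_map_eq

theorem Setting.jOf_subgroupOf {Q : Sylow 2 ↥L} (hQ : (Q : Subgroup ↥L).map L.subtype = T) :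
    (thompsonSubgroupOf 2 (Q : Subgroup ↥L)).map L.subtype = jOf T := by
  rw [jOf, ← hQ, PGroup.thompsonSubgroupOf_eq, PGroup.thompsonSubgroupOf_eq]
  refine le_antisymm ?_ (sSup_le fun A hA => ?_)
  · rw [map_le_iff_le_comap]
    refine sSup_le fun A hA => ?_
    rw [← map_le_iff_le_comap]
    refine le_sSup ⟨map_mono hA.1, PGroup.isElementaryAbelian_map hA.2.1 _, fun B hB hBe => ?_⟩
    rw [card_map_of_injective L.subtype_injective, ← Coprime.card_subgroupOf (hB.trans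
      (map_subtype_le _))]
    exact hA.2.2 _ (fun b hb => by
      obtain ⟨q, hq, e⟩ := hB hb
      exact (Subtype.ext e : q = b) ▸ hq) (PGroup.isElementaryAbelian_comap hBe L.subtype_injective)
  · intro a ha
    obtain ⟨q, hq, rfl⟩ := hA.1 ha
    have hmem : A.subgroupOf L ∈ {B : Subgroup ↥L | PGroup.IsMaxEA 2 (Q : Subgroup ↥L) B} := by
      refine ⟨fun b hb => ?_,
        PGroup.isElementaryAbelian_comap hA.2.1 L.subtype_injective, fun B hB hBe => ?_⟩
      · obtain ⟨q', hq', e⟩ := hA.1 hb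
        exact (Subtype.ext e : q' = b) ▸ hq'
      · rw [Coprime.card_subgroupOf (hA.1.trans (map_subtype_le _)),
          ← card_map_of_injective (f := L.subtype) (K := B) L.subtype_injective]
        exact hA.2.2 _ (map_mono hB) (PGroup.isElementaryAbelian_map hBe _)
    exact ⟨q, SetLike.le_def.mp (le_sSup hmem) ha, rfl⟩

theorem Setting.jOf_le : jOf L ≤ rOf L ⊔ jOf T := by
  obtain ⟨Q, hQ⟩ := h.exists_sylow
  rw [← h.jOf_subgroupOf hQ, rOf, ← Subgroup.map_sup]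
  exact map_mono (thompson_le _ h.hsep (vOf_subgroupOf_isElementaryAbelian L) h.hO Q)

theorem Setting.j_le_jOf : jOf T ≤ jOf L := by
  obtain ⟨A, hA⟩ := PGroup.exists_isMaxEA (p := 2) T
  exact j_le_of_card_eq hA (h.maxEA hA) rfl h.j_le

theorem Setting.plane_exists_tv {x : G} {W : Subgroup G} (hp : PlaneIn L x W) :
    ∃ (u : G) (k : ℕ), u ∈ L ∧ u ^ 2 ^ k = 1 ∧ u ∉ cOf L ∧ (∀ v ∈ vOf L, ⁅v, u⁆ ∈ W) ∧
      (∀ v ∈ vOf L, Commute v x → Commute v u) ∧ u * x * u⁻¹ * x ∈ cOf L := by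
  obtain ⟨hx, hp'⟩ := hp.toPlane
  obtain ⟨u, k, hk, hu, hW, hC, hux⟩ :=
    JComponent.plane_exists_tv _ h.hsep (vOf_subgroupOf_isElementaryAbelian L) h.hO hp'
  rw [centralizer_vOf_subgroupOf] at hu hux
  exact ⟨u, k, u.2, by simpa using congrArg Subtype.val hk, hu,
    fun v hv => hW ⟨v, vOf_le_self L hv⟩ hv,
    fun v hv hc => congrArg Subtype.val (hC ⟨v, vOf_le_self L hv⟩ hv (Subtype.ext hc)), hux⟩

theorem Setting.plane_conj {x g : G} {W : Subgroup G} (hp : PlaneIn L x W) (hg : g ∈ jOf L) :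
    g * x * g⁻¹ * x⁻¹ ∈ cOf L ∨ g * x * g⁻¹ * x ∈ cOf L := by
  obtain ⟨hx, hp'⟩ := hp.toPlane
  obtain ⟨a, ha, rfl⟩ := hg
  have := JComponent.plane_conj _ h.hsep (vOf_subgroupOf_isElementaryAbelian L) h.hO hp' ha
  rw [centralizer_vOf_subgroupOf] at this
  exact this

theorem Setting.plane_invert {x : G} {W : Subgroup G} (hp : PlaneIn L x W) :
    ∃ A, PGroup.IsMaxEA 2 T A ∧ ∃ a ∈ A, a * x * a⁻¹ * x ∈ cOf L := by
  obtain ⟨hx, hp'⟩ := hp.toPlane
  obtain ⟨Q, hQ⟩ := h.exists_sylow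
  obtain ⟨A, hA, a, ha, hax⟩ :=
    JComponent.plane_invert _ h.hsep (vOf_subgroupOf_isElementaryAbelian L) h.hO Q hp'
  rw [centralizer_vOf_subgroupOf] at hax
  refine ⟨A.map L.subtype, ⟨hQ ▸ map_mono hA.1, PGroup.isElementaryAbelian_map hA.2.1 _,
    fun B hB hBe => ?_⟩, a, ⟨a, ha, rfl⟩, hax⟩
  rw [card_map_of_injective L.subtype_injective, ← Coprime.card_subgroupOf (hB.trans h.syl.1)]
  refine hA.2.2 _ (fun b hb => ?_) (PGroup.isElementaryAbelian_comap hBe L.subtype_injective)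
  obtain ⟨q, hq, e⟩ := hQ.ge (hB hb)
  exact (Subtype.ext e : q = b) ▸ hq

theorem Setting.rOf_le_closure :
    rOf L ≤ closure {x | ∃ W, PlaneIn L x W} ⊔ cOf L := by
  rw [rOf, map_le_iff_le_comap]
  refine (rSub_le _ h.hsep (vOf_subgroupOf_isElementaryAbelian L) h.hO).trans (sup_le ?_ ?_)
  · rw [closure_le]
    rintro x ⟨W, hW⟩
    exact mem_sup_left (subset_closure ⟨_, PlaneIn.of_plane hW⟩)
  · rw [centralizer_vOf_subgroupOf]
    exact fun c hc => mem_sup_right hc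

theorem Setting.exists_planeIn : ∃ x W, PlaneIn L x W := by
  have hne : ¬ thompsonSubgroup 2 ↥L ≤ centralizer ((vOf L).subgroupOf L : Set ↥L) := by
    intro hle
    apply h.notJ
    intro j hj
    obtain ⟨a, ha, rfl⟩ := h.j_le_jOf hj
    refine h.inf_cOf_le ⟨PGroup.thompsonSubgroupOf_le T hj, ?_⟩
    have := hle ha
    rwa [centralizer_vOf_subgroupOf] at this
  obtain ⟨x, W, hW⟩ :=
    JComponent.exists_plane _ h.hsep (vOf_subgroupOf_isElementaryAbelian L) h.hO hne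
  exact ⟨_, _, PlaneIn.of_plane hW⟩

end SettingSec

end Cfsg.Agent.JComponent
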