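import Cfsg.Agent.Lib.JComponent.Count
import Cfsg.Agent.Lib.JComponent.Setting

/-!
# `J(T)`-components inside a member of `ℒ(T)`

* `Setting.comp_facts`, `Setting.comp_subnormal`, `Setting.comp_normalizer_wOf`
* `Setting.exists_component`
-/

set_option autoImplicit false

namespace Cfsg.Agent.JComponent

open Subgroup LocalStructure
open scoped commutatorElement

universe u

variable {G : Type u} [Group G] [Finite G]

omit [Finite G] in
theorem comp_le_normalizer {T K : Subgroup G} (hK : IsJComponent T K) :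
    jOf T ≤ normalizer (K : Set G) := by
  conv_rhs => rw [← hK.2.1]
  exact normalizer_commutator_ge_right K (jOf T)

/-- Some element of `J(T)` inverts `y` modulo `O₂(K)`. -/
theorem exists_inverting {T K : Subgroup G} (hK : IsJComponent T K) {y : G} (hy : y ∈ K)
    (hyO : y ∉ pCoreOf 2 K) : ∃ j ∈ jOf T, j * y * j⁻¹ * y ∈ pCoreOf 2 K := by
  have hp := IsJComponent.pre hK
  by_contra hcon
  push Not at hcon
  have hnK := comp_le_normalizer hK
  have hnO : jOf T ≤ normalizer (pCoreOf 2 K : Set G) :=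
    hnK.trans (normalizer_le_normalizer_pCoreOf K)
  have hfix : ∀ j ∈ jOf T, j * y * j⁻¹ * y⁻¹ ∈ pCoreOf 2 K := by
    intro j hj
    rcases hp.cases hy hyO ((mem_normalizer_iff.mp (hnK hj) y).mp hy) with e | e | e
    · exact absurd ((mem_normalizer_iff.mp (hnO hj) y).mpr e) hyO
    · exact e
    · exact absurd e (hcon j hj)
  refine hp.not_le ?_
  conv_lhs => rw [← hK.2.1]
  refine commutator_le.mpr fun k hk j hj => ?_
  have hconj : ∀ o ∈ pCoreOf 2 K, ∀ g ∈ K, g * o * g⁻¹ ∈ pCoreOf 2 K := fun o ho g hg =>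
    (mem_normalizer_iff.mp (le_normalizer_pCoreOf 2 K hg) o).mp ho
  have hjo : ∀ o ∈ pCoreOf 2 K, j * o * j⁻¹ ∈ pCoreOf 2 K := fun o ho =>
    (mem_normalizer_iff.mp (hnO hj) o).mp ho
  rw [show ⁅k, j⁆ = k * (j * k⁻¹ * j⁻¹) by rw [commutatorElement_def]; group]
  rcases hp.cases hy hyO hk with e | e | e
  · exact mul_mem e (hjo _ (inv_mem e))
  · rw [show k * (j * k⁻¹ * j⁻¹) =
      k * y⁻¹ * (j * y * j⁻¹ * y⁻¹)⁻¹ * (j * (k * y⁻¹)⁻¹ * j⁻¹) by group]
    exact mul_mem (mul_mem e (inv_mem (hfix j hj))) (hjo _ (inv_mem e))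
  · rw [show k * (j * k⁻¹ * j⁻¹) =
      k * y * (y⁻¹ * (j * y * j⁻¹ * y⁻¹) * y) * (j * (k * y)⁻¹ * j⁻¹) by group]
    refine mul_mem (mul_mem e ?_) (hjo _ (inv_mem e))
    simpa using hconj _ (hfix j hj) y⁻¹ (inv_mem hy)

section

variable {T L : Subgroup G} (h : Setting T L)
include h

theorem Setting.cOf_comm_jOf {c g : G} (hc : c ∈ cOf L) (hg : g ∈ jOf L) :
    ⁅c, g⁆ ∈ pCoreOf 2 L := by
  have hn := le_normalizer_pCoreOf 2 L
  let S₀ : Subgroup G :=
    { carrier := {g | g ∈ L ∧ ∀ c ∈ cOf L, ⁅c, g⁆ ∈ pCoreOf 2 L}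
      one_mem' := ⟨one_mem L, fun c _ => by rw [commutatorElement_one_right]; exact one_mem _⟩
      mul_mem' := fun {a b} ha hb => ⟨mul_mem ha.1 hb.1, fun c hc => by
        rw [show ⁅c, a * b⁆ = ⁅c, a⁆ * (a * ⁅c, b⁆ * a⁻¹) by
          simp only [commutatorElement_def]; group]
        exact mul_mem (ha.2 c hc) ((mem_normalizer_iff.mp (hn ha.1) _).mp (hb.2 c hc))⟩
      inv_mem' := fun {a} ha => ⟨inv_mem ha.1, fun c hc => by
        rw [show ⁅c, a⁻¹⁆ = a⁻¹ * ⁅c, a⁆⁻¹ * a by simp only [commutatorElement_def]; group]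
        exact (mem_normalizer_iff''.mp (hn ha.1) _).mp (inv_mem (ha.2 c hc))⟩ }
  have hle : jOf L ≤ S₀ := by
    rw [jOf, PGroup.thompsonSubgroupOf_eq]
    refine sSup_le fun A hA a ha => ⟨hA.1 ha, fun c hc => h.cOf_comm hc (hA.1 ha) (k := 1) ?_⟩
    rw [pow_one]
    exact hA.2.1.2 a ha
  exact (hle hg).2 c hc

theorem Setting.le_normalizer_jOf : L ≤ normalizer (jOf L : Set G) :=
  have := h.sol
  le_normalizer.trans (PGroup.normalizer_le_normalizer_thompsonOf L)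

/-- `O₂(L)` normalizes every component inside `L`. -/
theorem Setting.pCore_le_normalizer {K : Subgroup G} (hK : IsJComponent T K) (hKL : K ≤ L) :
    pCoreOf 2 L ≤ normalizer (K : Set G) := by
  have hnK := comp_le_normalizer hK
  have hQJ : pCoreOf 2 L ≤ normalizer (jOf T : Set G) :=
    h.pCore_le.trans (le_normalizer.trans (PGroup.normalizer_le_normalizer_thompsonOf T))
  have hn := le_normalizer_pCoreOf 2 L
  intro q hq
  refine (IsJComponent.pre hK).mem_normalizer (isPGroup_j h.syl.2.1) hnK fun x hx => ?_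
  suffices hle : ⁅K, jOf T⁆ ≤ (K ⊔ jOf T).comap (MulAut.conj q).toMonoidHom by
    rw [show ⁅K, jOf T⁆ = K from hK.2.1] at hle
    simpa using hle hx
  rw [commutator_le]
  intro k hk j hj
  show q * (k * j * k⁻¹ * j⁻¹) * q⁻¹ ∈ K ⊔ jOf T
  have hq' : k⁻¹ * q * k * q⁻¹ ∈ pCoreOf 2 L :=
    mul_mem ((mem_normalizer_iff''.mp (hn (hKL hk)) q).mp hq) (inv_mem hq)
  have hj1 : q * j * q⁻¹ ∈ jOf T := (mem_normalizer_iff.mp (hQJ hq) j).mp hj
  have hj2 := (mem_normalizer_iff.mp (hQJ hq') _).mp hj1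
  have h3 := mul_mem (mul_mem (mul_mem (mem_sup_left hk : k ∈ K ⊔ jOf T) (mem_sup_right hj2))
    (inv_mem (mem_sup_left hk : k ∈ K ⊔ jOf T))) (inv_mem (mem_sup_right (S := K) hj1))
  convert h3 using 1
  group

/-- Position of a component inside `L`. -/
theorem Setting.comp_facts {K : Subgroup G} (hK : IsJComponent T K) (hKL : K ≤ L) :
    K ≤ jOf L ∧ K ≤ rOf L ∧ pCoreOf 2 K ≤ pCoreOf 2 L ∧
      ∀ y ∈ K, y ∉ pCoreOf 2 K → y ∉ cOf L ∧ PlaneIn L y (wOf K) := by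
  have hp := IsJComponent.pre hK
  have h1 : K ≤ jOf L := by
    conv_lhs => rw [← hK.2.1]
    refine commutator_le.mpr fun k hk j hj => ?_
    rw [commutatorElement_def]
    exact mul_mem (S := Subgroup G) ((mem_normalizer_iff.mp (h.le_normalizer_jOf (hKL hk)) j).mp (h.j_le_jOf hj))
      (inv_mem (h.j_le_jOf hj))
  have h2 : K ≤ rOf L := by
    conv_lhs => rw [← hp.gen]
    exact (closure_le _).mpr fun g hg => h.odd_mem_rOf (h1 hg.1) hg.2
  have h3 : pCoreOf 2 K ≤ pCoreOf 2 L := fun o ho => by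
    obtain ⟨k, hk⟩ := isPGroup_pCoreOf 2 K ⟨o, ho⟩
    have hk' : o ^ 2 ^ k = 1 := by simpa using congrArg Subtype.val hk
    exact h.two_mem (rOf_two_mem (h2 (pCoreOf_le 2 K ho)) hk') hk'
  refine ⟨h1, h2, h3, fun y hy hyO => ?_⟩
  have hyC : y ∉ cOf L := by
    intro hyC
    obtain ⟨j, hj, hjy⟩ := exists_inverting hK hy hyO
    have hQ : j * y * j⁻¹ * y⁻¹ ∈ pCoreOf 2 L := by
      have := inv_mem (h.cOf_comm_jOf hyC (h.j_le_jOf hj))
      rw [commutatorElement_def] at this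
      simpa [mul_assoc] using this
    have hO : j * y * j⁻¹ * y⁻¹ ∈ pCoreOf 2 K := pCoreOf_inf_le hKL
      ⟨hQ, mul_mem (S := Subgroup G) ((mem_normalizer_iff.mp (comp_le_normalizer hK hj) y).mp hy) (inv_mem hy)⟩
    have hy2 : y ^ 2 ∈ pCoreOf 2 K := by
      have := (mem_normalizer_iff''.mp (le_normalizer_pCoreOf 2 K hy) _).mp
        (mul_mem (inv_mem hO) hjy)
      simpa [sq, mul_assoc] using this
    refine hyO ?_
    have := mul_mem (inv_mem hy2) (hp.pow_three_mem hy)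
    rwa [pow_succ y 2, inv_mul_cancel_left] at this
  have hUK : vOf L ≤ normalizer (K : Set G) :=
    (vOf_le L).trans (h.pCore_le_normalizer hK hKL)
  have hc : pCoreOf 2 K ≤ centralizer (vOf L : Set G) :=
    (h3.trans (pCoreOf_le_cOf L)).trans inf_le_right
  have hcomm : ∀ v ∈ vOf L, ⁅v, y⁆ ∈ wOf K := fun v hv =>
    hp.bracket_mem (isElementaryAbelian_omegaCenterOf _) hUK
      (hKL.trans (le_normalizer_vOf L)) hc hy hyO hv
  refine ⟨hyC, h2 hy, ?_, hK.2.2.2.2.1, hcomm, hp.fpf hy hyO⟩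
  have he : wOf K ⊓ vOf L = wOf K := by
    refine eq_of_le_four hK.2.2.2.2.1 inf_le_left (fun e => hyC ⟨hKL hy, fun v hv => ?_⟩)
      (hp.fpf hy hyO) fun w hw => ⟨?_, ?_⟩
    · refine commutatorElement_eq_one_iff_mul_comm.mp (mem_bot.mp (e.le ⟨hcomm v hv, ?_⟩))
      rw [commutatorElement_def, show v * y * v⁻¹ * y⁻¹ = v * (y * v⁻¹ * y⁻¹) by group]
      exact mul_mem hv ((mem_normalizer_iff.mp (le_normalizer_vOf L (hKL hy)) _).mp (inv_mem hv))
    · exact (mem_normalizer_iff.mp (hp.fpf hy hyO).1 w).mp hw.1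
    · exact (mem_normalizer_iff.mp (le_normalizer_vOf L (hKL hy)) w).mp hw.2
  exact inf_eq_left.mp he

/-- Components in `L` are subnormal. -/
theorem Setting.comp_subnormal {K : Subgroup G} (hK : IsJComponent T K) (hKL : K ≤ L) :
    (K.subgroupOf L).IsSubnormal := by
  obtain ⟨h1, h2, h3, -⟩ := h.comp_facts hK hKL
  have hQK := h.pCore_le_normalizer hK hKL
  have hQC := pCoreOf_le_cOf L
  have s1 : Subnormal.SN K (K ⊔ pCoreOf 2 L) :=
    Subnormal.sn_of_le_of_normalizer le_sup_left (sup_le le_normalizer hQK)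
  have s2 : Subnormal.SN (K ⊔ pCoreOf 2 L) (K ⊔ cOf L) := by
    refine Subnormal.sn_of_le_of_normalizer (sup_le_sup_left hQC K) (sup_le ?_ fun c hc => ?_)
    · exact (le_sup_left : K ≤ K ⊔ pCoreOf 2 L).trans le_normalizer
    · refine Subnormal.mem_normalizer_of_cj_le ?_
      rw [Subnormal.cj, map_le_iff_le_comap]
      refine sup_le (fun k hk => ?_) fun q hq => mem_sup_right
        ((mem_normalizer_iff.mp (le_normalizer_pCoreOf 2 L hc.1) q).mp hq)
      show c * k * c⁻¹ ∈ K ⊔ pCoreOf 2 L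
      rw [show c * k * c⁻¹ = ⁅c, k⁆ * k by rw [commutatorElement_def]; group]
      exact mul_mem (mem_sup_right (h.cOf_comm_jOf hc (h1 hk))) (mem_sup_left hk)
  have s3 : Subnormal.SN (K ⊔ cOf L) (rOf L) := by
    refine Subnormal.sn_of_le_of_normalizer (sup_le h2 (cOf_le_rOf L)) fun r hr => ?_
    refine Subnormal.mem_normalizer_of_cj_le ?_
    rw [Subnormal.cj, map_le_iff_le_comap]
    refine sup_le (fun k hk => ?_) fun c hc => mem_sup_right
      ((mem_normalizer_iff.mp (le_normalizer_cOf L (rOf_le L hr)) c).mp hc)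
    show r * k * r⁻¹ ∈ K ⊔ cOf L
    rw [show r * k * r⁻¹ = ⁅r, k⁆ * k by rw [commutatorElement_def]; group]
    exact mul_mem (mem_sup_right (h.rOf_comm hr (h2 hk))) (mem_sup_left hk)
  have s4 : Subnormal.SN (rOf L) L :=
    Subnormal.sn_of_le_of_normalizer (rOf_le L) (le_normalizer_rOf L)
  exact (Subnormal.sn_trans s1 (Subnormal.sn_trans s2 (Subnormal.sn_trans s3 s4))).2

/-- An element of `L` acting trivially on `W` and on `C_V(y)` lies in `C`. -/
theorem Setting.mem_cOf_of_fix {y : G} {W : Subgroup G} (hp : PlaneIn L y W) {g : G} (hg : g ∈ L)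
    (hW : g ∈ centralizer (W : Set G))
    (hU : ∀ v ∈ vOf L, Commute v y → Commute v g) : g ∈ cOf L := by
  refine ⟨hg, fun v hv => ?_⟩
  have hyL := rOf_le L hp.mem
  have T' : Tri (vOf L) y :=
    ⟨isElementaryAbelian_omegaCenterOf _, le_normalizer_vOf L hyL, (h.rOf_cube hp.mem).2⟩
  obtain ⟨w, hw, hc⟩ := T'.decompose hv
  obtain ⟨v', hv', rfl⟩ := T'.mem_rng.mp hw
  have h1 : Commute (⁅v', y⁆ * (⁅v', y⁆⁻¹ * v)) g :=
    ((show Commute _ g from hW _ (hp.comm v' hv'))).mul_left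
      (hU _ (mul_mem (inv_mem (T'.rng_le hw)) hv) hc)
  rw [mul_inv_cancel_left] at h1
  exact h1.eq

/-- `C_V(y)` is invariant under the elements of `L` normalizing the plane. -/
theorem Setting.commute_conj {y g : G} {W : Subgroup G} (hp : PlaneIn L y W) (hg : g ∈ L)
    (hgW : g ∈ normalizer (W : Set G)) {v : G} (hv : v ∈ vOf L) (hc : Commute v y) :
    Commute (g * v * g⁻¹) y ∧ Commute v (g * y * g⁻¹) := by
  suffices key : ∀ k ∈ L, k ∈ normalizer (W : Set G) → Commute v (k * y * k⁻¹) by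
    refine ⟨?_, key g hg hgW⟩
    have h1 : g⁻¹ ∈ normalizer (W : Set G) := inv_mem hgW
    have h2 := key g⁻¹ (inv_mem hg) h1
    rw [inv_inv] at h2
    show g * v * g⁻¹ * y = y * (g * v * g⁻¹)
    calc g * v * g⁻¹ * y = g * (v * (g⁻¹ * y * g)) * g⁻¹ := by group
      _ = g * (g⁻¹ * y * g * v) * g⁻¹ := by rw [h2.eq]
      _ = _ := by group
  intro k hk hkW
  have hyR := hp.mem
  have hy'R : k * y * k⁻¹ ∈ rOf L := (mem_normalizer_iff.mp (le_normalizer_rOf L hk) y).mp hyR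
  have hkv : k⁻¹ * v * k ∈ vOf L := (mem_normalizer_iff''.mp (le_normalizer_vOf L hk) v).mp hv
  have hz : ⁅v, k * y * k⁻¹⁆ ∈ W := by
    rw [show ⁅v, k * y * k⁻¹⁆ = k * ⁅k⁻¹ * v * k, y⁆ * k⁻¹ by
      simp only [commutatorElement_def]; group]
    exact (mem_normalizer_iff.mp hkW _).mp (hp.comm _ hkv)
  refine commutatorElement_eq_one_iff_mul_comm.mp (hp.fpf.2 _ hz ?_)
  set y' := k * y * k⁻¹ with hy'
  have hcc : ⁅y, y'⁆ ∈ cOf L := h.rOf_comm hyR hy'R
  have hy'v : y' * v⁻¹ * y'⁻¹ ∈ vOf L :=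
    (mem_normalizer_iff.mp (le_normalizer_vOf L (rOf_le L hy'R)) _).mp (inv_mem hv)
  show ⁅v, y'⁆ * y = y * ⁅v, y'⁆
  refine (mul_inv_eq_iff_eq_mul.mp ?_).symm
  calc y * ⁅v, y'⁆ * y⁻¹ = (y * v * y⁻¹) * (⁅y, y'⁆ * (y' * (y * v⁻¹ * y⁻¹) * y'⁻¹) * ⁅y, y'⁆⁻¹) := by
        simp only [commutatorElement_def]; group
    _ = v * (⁅y, y'⁆ * (y' * v⁻¹ * y'⁻¹) * ⁅y, y'⁆⁻¹) := by
        rw [show y * v * y⁻¹ = v from mul_inv_eq_iff_eq_mul.mpr hc.symm.eq,
          show y * v⁻¹ * y⁻¹ = v⁻¹ from mul_inv_eq_iff_eq_mul.mpr hc.inv_left.symm.eq]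
    _ = ⁅v, y'⁆ := by
        rw [(mem_centralizer_iff_conj.mp hcc.2) _ hy'v, commutatorElement_def]; group

end

end Cfsg.Agent.JComponent
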