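import Cfsg.Agent.Lib.JComponent.Orbit
import Cfsg.Agent.Lib.JComponent.Component

/-!
# The centre of `J(T)` and a component

* `card_omega_inf_wOf`, `omega_decompose`: `Ω₁Z(J(T))` meets `W` in order two and is that times
  its intersection with the centre of `K J(T)`
-/

set_option autoImplicit false
set_option synthInstance.maxSize 512

namespace Cfsg.Agent.JComponent

open Subgroup LocalStructure
open scoped commutatorElement

universe u

variable {G : Type u} [Group G] [Finite G]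

section Four

variable {W : Subgroup G} (hW4 : Nat.card W = 4)
include hW4

omit [Finite G] in
theorem sq_mem_of_two_pow {g : G} (hg : g ∈ normalizer (W : Set G)) {k : ℕ}
    (hk : g ^ 2 ^ k ∈ centralizer (W : Set G)) : g ^ 2 ∈ centralizer (W : Set G) := by
  obtain ⟨a, b, e⟩ : ∃ a b : ℤ, (6 : ℤ) * a + (2 ^ k : ℕ) * b = (Nat.gcd 6 (2 ^ k) : ℤ) :=
    ⟨_, _, (Nat.gcd_eq_gcd_ab 6 (2 ^ k)).symm⟩
  have hd : Nat.gcd 6 (2 ^ k) ∣ 2 := by
    have h3 : Nat.Coprime (Nat.gcd 6 (2 ^ k)) 3 :=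
      Nat.Coprime.coprime_dvd_left (Nat.gcd_dvd_right _ _)
        ((by norm_num : Nat.Coprime 2 3).pow_left k)
    have h6 : Nat.gcd 6 (2 ^ k) ∣ 2 * 3 := Nat.gcd_dvd_left _ _
    exact h3.dvd_of_dvd_mul_right h6
  obtain ⟨c, hc⟩ := hd
  have hgd : g ^ Nat.gcd 6 (2 ^ k) ∈ centralizer (W : Set G) := by
    rw [← zpow_natCast, ← e, zpow_add, zpow_mul, zpow_mul]
    refine mul_mem (zpow_mem ?_ a) (zpow_mem ?_ b)
    · rw [show (6 : ℤ) = ((6 : ℕ) : ℤ) from rfl, zpow_natCast]; exact pow_six_mem hW4 hg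
    · rw [zpow_natCast]; exact hk
  rw [show g ^ 2 = (g ^ Nat.gcd 6 (2 ^ k)) ^ c by rw [← pow_mul, ← hc]]
  exact pow_mem hgd c

omit [Finite G] in
theorem two_group_cases {P : Subgroup G} (hP : IsPGroup 2 P) (hPW : P ≤ normalizer (W : Set G))
    {a b : G} (ha : a ∈ P) (hac : a ∉ centralizer (W : Set G)) (hb : b ∈ P) :
    b ∈ centralizer (W : Set G) ∨ a⁻¹ * b ∈ centralizer (W : Set G) := by
  have hsq : ∀ g ∈ P, g ^ 2 ∈ centralizer (W : Set G) := fun g hg => by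
    obtain ⟨k, hk⟩ := hP ⟨g, hg⟩
    refine sq_mem_of_two_pow hW4 (hPW hg) (k := k) ?_
    rw [show g ^ 2 ^ k = 1 by simpa using congrArg Subtype.val hk]
    exact one_mem _
  obtain ⟨ρ, hk, -⟩ := exists_perm hW4
  set a' : ↥(normalizer (W : Set G)) := ⟨a, hPW ha⟩
  set b' : ↥(normalizer (W : Set G)) := ⟨b, hPW hb⟩
  have h1 : ρ a' ≠ 1 := fun h => hac ((hk a').mp h)
  have h2 : ρ (a' ^ 2) = 1 := (hk _).mpr (hsq a ha)
  have h3 : ρ (b' ^ 2) = 1 := (hk _).mpr (hsq b hb)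
  have h4 : ρ ((a' * b') ^ 2) = 1 := (hk _).mpr (hsq _ (mul_mem ha hb))
  refine (?_ : ρ b' = 1 ∨ ρ (a'⁻¹ * b') = 1).imp (hk b').mp (hk (a'⁻¹ * b')).mp
  simp only [map_pow, map_mul, map_inv] at h2 h3 h4 ⊢
  generalize ρ a' = σ at h1 h2 h4
  generalize ρ b' = τ at h3 h4
  revert σ τ; decide +kernel

/-- An elementary abelian group has at most two cosets of the centralizer of `W`. -/
theorem card_le_two_mul {A : Subgroup G} (hA : IsPGroup 2 A) (hAW : A ≤ normalizer (W : Set G))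
    {a : G} (ha : a ∈ A) (hac : a ∉ centralizer (W : Set G)) :
    Nat.card A ≤ 2 * Nat.card ↥(A ⊓ centralizer (W : Set G)) := by
  have hsub : (A : Set G) ⊆ ((A ⊓ centralizer (W : Set G) : Subgroup G) : Set G) ∪
      (fun c => a * c) '' ((A ⊓ centralizer (W : Set G) : Subgroup G) : Set G) := by
    intro c hc
    rcases two_group_cases hW4 hA hAW ha hac hc with h | h
    · exact Or.inl ⟨hc, h⟩
    · exact Or.inr ⟨a⁻¹ * c, ⟨mul_mem (S := Subgroup G) (inv_mem ha) hc, h⟩,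
        mul_inv_cancel_left a c⟩
  have h1 := (Set.ncard_le_ncard hsub (Set.toFinite _)).trans (Set.ncard_union_le _ _)
  rw [Set.ncard_image_of_injective _ (mul_right_injective a)] at h1
  rw [← SetLike.coe_sort_coe, ← SetLike.coe_sort_coe, Nat.card_coe_set_eq, Nat.card_coe_set_eq]
  omega

/-- A 2-group moving `W` fixes exactly one involution of it. -/
theorem card_fix_eq_two {P : Subgroup G} (hP : IsPGroup 2 P) (hPW : P ≤ normalizer (W : Set G))
    {a : G} (ha : a ∈ P) (hac : a ∉ centralizer (W : Set G)) :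
    Nat.card ↥(W ⊓ centralizer (P : Set G)) = 2 := by
  obtain ⟨ρ, hk, hfix⟩ := exists_perm hW4
  set a' : ↥(normalizer (W : Set G)) := ⟨a, hPW ha⟩
  obtain ⟨k, hk'⟩ := hP ⟨a, ha⟩
  have h2 : ρ (a' ^ 2) = 1 := (hk _).mpr (sq_mem_of_two_pow hW4 (hPW ha) (k := k) (by
    rw [show a ^ 2 ^ k = 1 by simpa using congrArg Subtype.val hk']; exact one_mem _))
  obtain ⟨w, hw, hw1, hwa⟩ := (hfix a').mp (by
    rw [map_pow] at h2
    generalize ρ a' = σ at h2
    revert σ; decide +kernel)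
  have hwP : w ∈ centralizer (P : Set G) := fun b hb => by
    rcases two_group_cases hW4 hP hPW ha hac hb with h | h
    · exact (h w hw).symm
    · have hh : Commute (a * (a⁻¹ * b)) w :=
        (show Commute a w from hwa).mul_left (h w hw).symm
      rwa [mul_inv_cancel_left] at hh
  refine le_antisymm ((card_le_of_le (inf_le_inf_left W ?_)).trans (card_fix_le hW4 hac)) ?_
  · exact centralizer_le (Set.singleton_subset_iff.mpr ha)
  · have : Nontrivial ↥(W ⊓ centralizer (P : Set G)) :=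
      ⟨⟨⟨w, hw, hwP⟩, 1, fun h => hw1 (congrArg Subtype.val h)⟩⟩
    exact Finite.one_lt_card

end Four

theorem Pre.centralizer_wOf_le {K : Subgroup G} (hp : Pre K) (hW4 : Nat.card (wOf K) = 4)
    {J : Subgroup G} (hJ : IsPGroup 2 J) (hn : J ≤ normalizer (K : Set G)) :
    (K ⊔ J) ⊓ centralizer (wOf K : Set G) ≤ pCoreOf 2 (K ⊔ J) := by
  have hKJ : K ⊔ J ≤ normalizer (K : Set G) := sup_le le_normalizer hn
  refine le_pCoreOf inf_le_left (le_normalizer_inf le_normalizer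
    (le_normalizer_centralizer (hKJ.trans le_normalizer_wOf'))) fun ⟨g, hgX, hgc⟩ => ?_
  obtain ⟨m, k, -, -, ho⟩ := exists_two_part g
  refine ⟨k, Subtype.ext ?_⟩
  show g ^ 2 ^ k = 1
  have hK := odd_mem_of_sup hJ hn (pow_mem hgX (2 ^ k)) ho
  have hc : g ^ 2 ^ k ∈ centralizer (wOf K : Set G) := pow_mem hgc _
  refine eq_one_of_isPGroup_odd (isPGroup_pCoreOf 2 K) (by_contra fun hO => ?_) ho
  obtain ⟨y, hy, -, hyO⟩ := hp.exists_three
  have hf := hp.fpf hK hO
  have h0 : wOf K = ⊥ := (eq_bot_iff_forall _).mpr fun w hw => hf.2 w hw (hc w hw)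
  rw [h0, Subgroup.card_bot] at hW4
  omega

section Main

variable {T K : Subgroup G} (hK : IsJComponent T K) (hT : IsPGroup 2 T)
include hK hT

/-- The data of a component: `W ≤ J(T)` and an elementary abelian subgroup moving `W`. -/
theorem comp_data : ∃ S A : Subgroup G, IsSylowTwoIn S (K ⊔ jOf T) ∧ jOf T ≤ S ∧
    PGroup.IsMaxEA 2 S A ∧ PGroup.IsMaxEA 2 (K ⊔ jOf T) A ∧ A ≤ jOf T ∧
    wOf K ≤ jOf T ∧ ¬ A ≤ centralizer (wOf K : Set G) ∧
    Nat.card A ≤ 2 * Nat.card ↥(A ⊓ centralizer (wOf K : Set G)) ∧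
    PGroup.IsMaxEA 2 S ((A ⊓ centralizer (wOf K : Set G)) ⊔ wOf K) := by
  have : Fact (Nat.Prime 2) := ⟨Nat.prime_two⟩
  have hp := IsJComponent.pre hK
  have hW4 : Nat.card (wOf K) = 4 := hK.2.2.2.2.1
  have hn := comp_le_normalizer hK
  set W := wOf K
  set X := K ⊔ jOf T
  have hJW : jOf T ≤ normalizer (W : Set G) := hn.trans le_normalizer_wOf'
  obtain ⟨S, hJS, hS⟩ := exists_sylowTwoIn (isPGroup_j hT) (le_sup_right : jOf T ≤ X)
  have hJ : jOf S = jOf T := hK.2.2.2.1 S hS hJS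
  have hKn : (K.subgroupOf X).IsSubnormal :=
    ((normal_subgroupOf_iff_le_normalizer le_sup_left).mpr (sup_le le_normalizer hn)).isSubnormal
  have hRW := pCoreOf_le_centralizer hp hW4 le_sup_left hKn
  have hWS : W ≤ S := ((wOf_le_omega hp hW4 le_sup_left hKn).trans
    ((omegaCenterOf_le _).trans inf_le_left)).trans (sylowTwoIn_iff.mp hS).pCoreOf_le
  obtain ⟨A, hA, hAW⟩ : ∃ A, PGroup.IsMaxEA 2 S A ∧ ¬ A ≤ centralizer (W : Set G) := by
    by_contra hcon
    push Not at hcon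
    obtain ⟨y, hy, -, hyO⟩ := hp.exists_three
    obtain ⟨j, hj, hjy⟩ := exists_inverting hK hy hyO
    have hJc : jOf S ≤ centralizer (W : Set G) := by
      rw [jOf, PGroup.thompsonSubgroupOf_eq]; exact sSup_le hcon
    have hjc : j ∈ centralizer (W : Set G) := hJc (hJ.ge hj)
    have hOW : pCoreOf 2 K ≤ centralizer (W : Set G) := fun o ho w hw =>
      ((omegaCenterOf_le _ (hp.wOf_le hw)).2 o ho).symm
    have hn' : y ∈ normalizer (centralizer (W : Set G) : Set G) :=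
      le_normalizer_centralizer le_rfl (hp.fpf hy hyO).1
    have h1 : y * j⁻¹ * y⁻¹ ∈ centralizer (W : Set G) :=
      (mem_normalizer_iff.mp hn' _).mp (inv_mem hjc)
    have hy2 : y * y ∈ centralizer (W : Set G) := by
      have h2 := mul_mem (inv_mem (mul_mem hjc h1)) (hOW hjy)
      simpa [mul_assoc] using h2
    have h3 := mul_mem (inv_mem hy2) (hOW (hp.pow_three_mem hy))
    rw [← sq, pow_succ y 2, inv_mul_cancel_left] at h3
    have h0 : W = ⊥ := (eq_bot_iff_forall _).mpr fun w hw => (hp.fpf hy hyO).2 w hw (h3 w hw)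
    rw [h0, Subgroup.card_bot] at hW4
    omega
  obtain ⟨a, ha, hac⟩ := SetLike.not_le_iff_exists.mp hAW
  have hAJ : A ≤ jOf T := hJ ▸ PGroup.le_thompsonSubgroupOf hA
  have h2 := card_le_two_mul hW4 (hS.2.1.to_le hA.1) (hAJ.trans hJW) ha hac
  set C := A ⊓ centralizer (W : Set G) with hC
  have hWe : IsElementaryAbelian 2 W :=
    PGroup.isElementaryAbelian_mono (isElementaryAbelian_omegaCenterOf _) hp.wOf_le
  have hCe := PGroup.isElementaryAbelian_mono hA.2.1 (inf_le_left : C ≤ A)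
  have hCW : PGroup.IsMaxEA 2 S (C ⊔ W) := by
    refine ⟨sup_le (inf_le_left.trans hA.1) hWS, PGroup.isElementaryAbelian_sup hCe hWe
      (fun c hc w hw => (hc.2 w hw).symm), fun B hB hBe => (hA.2.2 B hB hBe).trans ?_⟩
    have hn' : C ≤ normalizer (W : Set G) :=
      inf_le_right.trans (Subgroup.centralizer_le_normalizer _)
    have e := Offender.card_sup_mul_card_inf hn'
    rw [hW4] at e
    have hle : Nat.card ↥(C ⊓ W) ≤ 2 := by
      refine (card_le_of_le ?_).trans (card_fix_le hW4 hac)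
      exact fun v hv => ⟨hv.2, mem_centralizer_singleton_iff.mpr
        (PGroup.mul_comm_of_elementaryAbelian hA.2.1 hv.1.1 ha)⟩
    have := Nat.mul_le_mul_left (Nat.card ↥(C ⊔ W)) hle
    omega
  refine ⟨S, A, hS, hJS, hA, maxEA_of_sylow hS hA, hAJ, ?_, hAW, h2, hCW⟩
  rw [← hJ]
  exact le_sup_right.trans (PGroup.le_thompsonSubgroupOf hCW)

theorem card_omega_inf_wOf :
    Nat.card ↥(omegaCenterOf (jOf T) ⊓ wOf K) = 2 ∧
      wOf K ⊓ centralizer (jOf T : Set G) ≤ omegaCenterOf (jOf T) := by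
  obtain ⟨S, A, -, -, -, -, hAJ, hWJ, hAW, -⟩ := comp_data hK hT
  obtain ⟨a, ha, hac⟩ := SetLike.not_le_iff_exists.mp hAW
  have hW4 : Nat.card (wOf K) = 4 := hK.2.2.2.2.1
  have hle : wOf K ⊓ centralizer (jOf T : Set G) ≤ omegaCenterOf (jOf T) := fun w hw =>
    mem_omegaCenterOf (hWJ hw.1) hw.2 (by rw [sq]; exact hK.2.2.2.2.2 w hw.1)
  refine ⟨?_, hle⟩
  have e : omegaCenterOf (jOf T) ⊓ wOf K = wOf K ⊓ centralizer (jOf T : Set G) :=
    le_antisymm (le_inf inf_le_right (inf_le_left.trans ((omegaCenterOf_le _).trans inf_le_right)))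
      (le_inf hle inf_le_left)
  rw [e]
  exact card_fix_eq_two hW4 (isPGroup_j hT)
    ((comp_le_normalizer hK).trans le_normalizer_wOf') (hAJ ha) hac

theorem omega_decompose {z : G} (hz : z ∈ omegaCenterOf (jOf T)) :
    ∃ f w, f ∈ omegaCenterOf (jOf T) ⊓
      ((K ⊔ jOf T) ⊓ centralizer ((K ⊔ jOf T : Subgroup G) : Set G)) ∧
      w ∈ omegaCenterOf (jOf T) ⊓ wOf K ∧ z = f * w := by
  classical
  have : Fact (Nat.Prime 2) := ⟨Nat.prime_two⟩
  obtain ⟨hc2, hWC⟩ := card_omega_inf_wOf hK hT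
  obtain ⟨S, A, hS, hJS, hA, hAX, hAJ, hWJ, hAW, h2, hCW⟩ := comp_data hK hT
  obtain ⟨a, ha, hac⟩ := SetLike.not_le_iff_exists.mp hAW
  have hp := IsJComponent.pre hK
  have hn := comp_le_normalizer hK
  have hW4 : Nat.card (wOf K) = 4 := hK.2.2.2.2.1
  set W := wOf K with hWdef
  set X := K ⊔ jOf T with hX
  set Z₀ := omegaCenterOf (jOf T) with hZ₀
  set R := pCoreOf 2 X with hR
  set C := A ⊓ centralizer (W : Set G) with hC
  have hKn : (K.subgroupOf X).IsSubnormal :=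
    ((normal_subgroupOf_iff_le_normalizer le_sup_left).mpr (sup_le le_normalizer hn)).isSubnormal
  have hOR := (hp.of_subnormal le_sup_left hKn).1
  have hRW : R ≤ centralizer (W : Set G) := pCoreOf_le_centralizer hp hW4 le_sup_left hKn
  have hXR : X ⊓ centralizer (W : Set G) ≤ R := hp.centralizer_wOf_le hW4 (isPGroup_j hT) hn
  have hRS : R ≤ S := (sylowTwoIn_iff.mp hS).pCoreOf_le
  have hXn : X ≤ normalizer (R : Set G) := le_normalizer_pCoreOf 2 X
  have hJ : jOf S = jOf T := hK.2.2.2.1 S hS hJS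
  have hRJ : R ≤ normalizer (jOf T : Set G) := by
    rw [← hJ]
    exact (hRS.trans le_normalizer).trans (PGroup.normalizer_le_normalizer_thompsonOf S)
  have hWR : W ≤ R :=
    (wOf_le_omega hp hW4 le_sup_left hKn).trans ((omegaCenterOf_le _).trans inf_le_left)
  -- `Z₀ ≤ U := Ω₁Z(J(R))`
  have hCWR : C ⊔ W ≤ R :=
    sup_le (fun c hc => hXR ⟨hAX.1 hc.1, hc.2⟩) hWR
  have hCWm : PGroup.IsMaxEA 2 R (C ⊔ W) := maxEA_anti hCW hCWR hRS
  have hJR : jOf R ≤ jOf T := by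
    rw [← hJ]
    conv_lhs => rw [jOf, PGroup.thompsonSubgroupOf_eq]
    exact sSup_le fun B hB => PGroup.le_thompsonSubgroupOf ⟨hB.1.trans hRS, hB.2.1,
      fun D hD hDe => (hCW.2.2 D hD hDe).trans (hB.2.2 _ hCWR hCW.2.1)⟩
  set U := omegaCenterOf (jOf R) with hU
  have hUe : IsElementaryAbelian 2 U := isElementaryAbelian_omegaCenterOf _
  have hZU : Z₀ ≤ U := by
    intro v hv
    obtain ⟨hvJ, hvc⟩ := omegaCenterOf_le _ hv
    have hv2 : v ^ 2 = 1 := (isElementaryAbelian_omegaCenterOf _).2 v hv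
    have hvR : v ∈ R := hXR ⟨mem_sup_right hvJ, fun w hw => hvc w (hWJ hw)⟩
    refine mem_omegaCenterOf ?_ (fun b hb => hvc b (hJR hb)) hv2
    obtain ⟨B, hB⟩ := PGroup.exists_isMaxEA (p := 2) R
    have hBJ : B ≤ jOf T := (PGroup.le_thompsonSubgroupOf hB).trans hJR
    have hcomm : ∀ b ∈ B, ∀ z ∈ zpowers v, b * z = z * b := by
      intro b hb z hz
      obtain ⟨i, rfl⟩ := mem_zpowers_iff.mp hz
      exact ((show Commute b v from hvc b (hBJ hb)).zpow_right i).eq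
    have hsup := PGroup.isElementaryAbelian_sup hB.2.1 (PGroup.isElementaryAbelian_zpowers hv2) hcomm
    have e : B = B ⊔ zpowers v := eq_of_le_of_card_ge le_sup_left
      (hB.2.2 _ (sup_le hB.1 (zpowers_le.mpr hvR)) hsup)
    exact PGroup.le_thompsonSubgroupOf hB (e.ge (mem_sup_right (mem_zpowers v)))
  have hUR : U ≤ R := ((omegaCenterOf_le _).trans inf_le_left).trans
    (PGroup.thompsonSubgroupOf_le R)
  have hXU : X ≤ normalizer (U : Set G) :=
    hXn.trans ((PGroup.normalizer_le_normalizer_thompsonOf R).trans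
      (normalizer_le_normalizer_omegaCenterOf _))
  have hWU : W ≤ U := fun w hw => mem_omegaCenterOf
    (PGroup.le_thompsonSubgroupOf hCWm (mem_sup_right hw))
    (fun b hb => ((hRW (PGroup.thompsonSubgroupOf_le R hb)) w hw).symm)
    (by rw [sq]; exact hK.2.2.2.2.2 w hw)
  have hUA : Nat.card U ≤ 2 * Nat.card ↥(U ⊓ A) := by
    have hcom : ∀ c ∈ C, ∀ u ∈ U, c * u = u * c := fun c hc u hu =>
      (omegaCenterOf_le _ hu).2 c (PGroup.le_thompsonSubgroupOf hCWm (mem_sup_left hc))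
    have hn' : C ≤ normalizer (U : Set G) := fun c hc => Subgroup.centralizer_le_normalizer _
      fun u hu => (hcom c hc u hu).symm
    have e := Offender.card_sup_mul_card_inf hn'
    have h3 : Nat.card ↥(C ⊔ U) ≤ Nat.card A := hA.2.2 _
      (sup_le (inf_le_left.trans hA.1) (hUR.trans hRS))
      (PGroup.isElementaryAbelian_sup (PGroup.isElementaryAbelian_mono hA.2.1 inf_le_left) hUe hcom)
    have h4 : Nat.card ↥(C ⊓ U) ≤ Nat.card ↥(U ⊓ A) :=
      card_le_of_le fun v hv => ⟨hv.2, hv.1.1⟩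
    have h5 : Nat.card C * Nat.card U ≤ 2 * Nat.card C * Nat.card ↥(U ⊓ A) :=
      e ▸ Nat.mul_le_mul (h3.trans h2) h4
    refine Nat.le_of_mul_le_mul_left ?_ (Nat.card_pos (α := C))
    linarith
  -- an element of order three centralizing a subgroup of index four of `U`
  obtain ⟨y, hy, -, hyO⟩ := hp.exists_three
  have hyX : y ∈ X := mem_sup_left hy
  have hfy := hp.fpf hy hyO
  have haX : a ∈ X := hAX.1 ha
  have haW : a ∈ normalizer (W : Set G) := le_normalizer_wOf' (hn (hAJ ha))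
  have ha2 : a ^ 2 = 1 := hA.2.1.2 a ha
  have hinv := invert_of_sq hW4 haW hac (by rw [ha2]; exact one_mem _) hfy
  set g := a * (y * a * y⁻¹) with hg
  have hgX : g ∈ X := mul_mem haX (mul_mem (mul_mem hyX haX) (inv_mem hyX))
  obtain ⟨m, k, -, -, ho⟩ := exists_two_part g
  set y₁ := g ^ 2 ^ k with hy₁
  have hy₁K : y₁ ∈ K := odd_mem_of_sup (isPGroup_j hT) hn (pow_mem hgX _) ho
  have hgW : g ∈ normalizer (W : Set G) :=
    mul_mem haW (mul_mem (mul_mem hfy.1 haW) (inv_mem hfy.1))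
  have hy₁O : y₁ ∉ pCoreOf 2 K := by
    intro hO
    have e : y₁ = 1 := eq_one_of_isPGroup_odd (isPGroup_pCoreOf 2 K) hO ho
    have hg2 := sq_mem_of_two_pow hW4 hgW (k := k) (by rw [← hy₁, e]; exact one_mem _)
    obtain ⟨ρ, hk, hfix⟩ := exists_perm hW4
    set a' : ↥(normalizer (W : Set G)) := ⟨a, haW⟩
    set y' : ↥(normalizer (W : Set G)) := ⟨y, hfy.1⟩
    have h1 : ρ ((a' * (y' * a' * y'⁻¹)) ^ 2) = 1 := (hk _).mpr hg2
    have h3 : ρ (a' * y' * a'⁻¹ * y') = 1 := (hk _).mpr hinv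
    have hno : ∀ i, ρ y' i ≠ i := fun i hi => by
      obtain ⟨w, hw, hw1, hc⟩ := (hfix y').mp ⟨i, hi⟩
      exact hw1 (hfy.2 w hw hc.symm)
    have h0 : ρ a' ≠ 1 := fun h => hac ((hk a').mp h)
    simp only [map_pow, map_mul, map_inv] at h1 h3
    generalize ρ a' = σ at h0 h1 h3
    generalize ρ y' = τ at h1 h3 hno
    revert σ τ; decide +kernel
  have hy₁3 : y₁ ^ 3 = 1 := eq_one_of_isPGroup_odd (isPGroup_pCoreOf 2 K)
    (hp.pow_three_mem hy₁K) (ho.of_dvd_nat (orderOf_pow_dvd 3))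
  have T' : Tri U y₁ := ⟨hUe, hXU (pow_mem hgX _), by rw [hy₁3]; exact one_mem _⟩
  have hrng : Nat.card T'.rng ≤ 4 := by
    set A' := A.map (MulAut.conj y).toMonoidHom with hA'
    have hUA' : Nat.card U ≤ 2 * Nat.card ↥(U ⊓ A') := by
      refine hUA.trans (Nat.mul_le_mul_left 2 ?_)
      rw [← card_map_of_injective (f := (MulAut.conj y).toMonoidHom) (K := U ⊓ A)
        (MulAut.conj y).injective]
      refine card_le_of_le ?_
      rintro _ ⟨v, hv, rfl⟩
      exact ⟨(mem_normalizer_iff.mp (hXU hyX) v).mp hv.1, v, hv.2, rfl⟩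
    set D := (U ⊓ A) ⊓ (U ⊓ A') with hD
    have hle : D ≤ U ⊓ centralizer ({y₁} : Set G) := fun v hv => by
      refine ⟨hv.1.1, mem_centralizer_singleton_iff.mpr ?_⟩
      obtain ⟨b, hb, e⟩ := hv.2.2
      have h1 : Commute v a := PGroup.mul_comm_of_elementaryAbelian hA.2.1 hv.1.2 ha
      have h3 : Commute v (y * a * y⁻¹) := by
        have := (show Commute b a from PGroup.mul_comm_of_elementaryAbelian hA.2.1 hb ha).map
          (MulAut.conj y).toMonoidHom
        rw [e] at this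
        exact this
      exact ((h1.mul_right h3).pow_right (2 ^ k)).eq
    have hn' : U ⊓ A ≤ normalizer ((U ⊓ A' : Subgroup G) : Set G) := fun v hv =>
      Subgroup.centralizer_le_normalizer _ fun b hb =>
        PGroup.mul_comm_of_elementaryAbelian hUe hb.1 hv.1
    have e := Offender.card_sup_mul_card_inf hn'
    have h6 := card_le_of_le (sup_le inf_le_left inf_le_left : (U ⊓ A) ⊔ (U ⊓ A') ≤ U)
    have h7 := card_le_of_le hle
    have h8 := T'.card_eq
    have hpos : 0 < Nat.card U := Nat.card_pos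
    have hUU : Nat.card U * Nat.card U ≤ 4 * (Nat.card U * Nat.card D) :=
      calc Nat.card U * Nat.card U
          ≤ 2 * Nat.card ↥(U ⊓ A) * (2 * Nat.card ↥(U ⊓ A')) := Nat.mul_le_mul hUA hUA'
        _ = 4 * (Nat.card ↥(U ⊓ A) * Nat.card ↥(U ⊓ A')) := by ring
        _ = 4 * (Nat.card ↥((U ⊓ A) ⊔ (U ⊓ A')) * Nat.card D) := by rw [e]
        _ ≤ 4 * (Nat.card U * Nat.card D) :=
          Nat.mul_le_mul_left 4 (Nat.mul_le_mul_right _ h6)
    have h9 : Nat.card U ≤ 4 * Nat.card ↥(U ⊓ centralizer ({y₁} : Set G)) := by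
      refine Nat.le_of_mul_le_mul_left (hUU.trans ?_) hpos
      rw [mul_left_comm]
      exact Nat.mul_le_mul_left _ (Nat.mul_le_mul_left _ h7)
    rw [h8] at h9
    exact Nat.le_of_mul_le_mul_right h9 Nat.card_pos
  have hf₁ := hp.fpf hy₁K hy₁O
  have hWrng : W ≤ T'.rng := by
    intro w hw
    let φ : W → W := fun v => ⟨⁅(v : G), y₁⁆, by
      rw [commutatorElement_def, show (v : G) * y₁ * (v : G)⁻¹ * y₁⁻¹ = v * (y₁ * (v : G)⁻¹ * y₁⁻¹) by
        group]
      exact mul_mem v.2 ((mem_normalizer_iff.mp hf₁.1 _).mp (inv_mem v.2))⟩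
    have hinj : Function.Injective φ := by
      intro p q e
      have e' : ⁅(p : G), y₁⁆ = ⁅(q : G), y₁⁆ := congrArg Subtype.val e
      have h1 : Commute ((q : G)⁻¹ * p) y₁ := by
        rw [commutatorElement_def, commutatorElement_def] at e'
        have e'' := congrArg (fun s => (q : G)⁻¹ * s * y₁ * p) e'
        show (q : G)⁻¹ * p * y₁ = y₁ * ((q : G)⁻¹ * p)
        simpa [mul_assoc] using e''
      exact Subtype.ext (inv_mul_eq_one.mp (hf₁.2 _ (mul_mem (inv_mem q.2) p.2) h1)).symm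
    obtain ⟨v, hv⟩ := (Finite.injective_iff_surjective.mp hinj) ⟨w, hw⟩
    exact T'.mem_rng.mpr ⟨v, hWU v.2, congrArg Subtype.val hv⟩
  have hrngW : T'.rng = W := (eq_of_le_of_card_ge hWrng (by rw [hW4]; exact hrng)).symm
  obtain ⟨w, hw, hfy₁⟩ := T'.decompose (hZU hz)
  rw [hrngW] at hw
  set f := w⁻¹ * z with hf
  have hzw : z = w * f := (mul_inv_cancel_left w z).symm
  have hRZ : R ≤ normalizer (Z₀ : Set G) := hRJ.trans (normalizer_le_normalizer_omegaCenterOf _)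
  -- `[f, r] ∈ Z₀` is fixed by `y₁`
  have hqZ : ∀ r ∈ R, ⁅f, r⁆ ∈ Z₀ := fun r hr => by
    have hwr : Commute w r := hRW hr w hw
    rw [show ⁅f, r⁆ = w⁻¹ * ⁅z, r⁆ * w * ⁅w⁻¹, r⁆ by simp only [hf, commutatorElement_def]; group,
      commutatorElement_eq_one_iff_mul_comm.mpr hwr.inv_left, mul_one]
    have hzr : ⁅z, r⁆ ∈ Z₀ := by
      rw [commutatorElement_def, show z * r * z⁻¹ * r⁻¹ = z * (r * z⁻¹ * r⁻¹) by group]
      exact mul_mem hz ((mem_normalizer_iff.mp (hRZ hr) _).mp (inv_mem hz))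
    have hc : Commute ⁅z, r⁆ w := ((omegaCenterOf_le _ hzr).2 w (hWJ hw)).symm
    rw [mul_assoc, hc.eq, inv_mul_cancel_left]
    exact hzr
  have hy₁R : ∀ r ∈ R, y₁ * r * y₁⁻¹ ∈ R := fun r hr =>
    (mem_normalizer_iff.mp (hXn (mem_sup_left hy₁K)) r).mp hr
  have hconj : ∀ r, y₁ * ⁅f, r⁆ * y₁⁻¹ = ⁅f, y₁ * r * y₁⁻¹⁆ := fun r => by
    rw [show y₁ * ⁅f, r⁆ * y₁⁻¹ = ⁅y₁ * f * y₁⁻¹, y₁ * r * y₁⁻¹⁆ by
      simp only [commutatorElement_def]; group,
      show y₁ * f * y₁⁻¹ = f from mul_inv_eq_iff_eq_mul.mpr hfy₁.symm.eq]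
  have hqc : ∀ r ∈ R, Commute ⁅f, r⁆ y₁ := by
    intro r hr
    have hbr : ∀ r ∈ R, ⁅⁅f, r⁆, y₁⁆ ∈ Z₀ ⊓ W := fun r hr => by
      refine ⟨?_, hrngW ▸ T'.mem_rng.mpr ⟨_, hZU (hqZ r hr), rfl⟩⟩
      rw [commutatorElement_def ⁅f, r⁆ y₁,
        show ⁅f, r⁆ * y₁ * ⁅f, r⁆⁻¹ * y₁⁻¹ = ⁅f, r⁆ * (y₁ * ⁅f, r⁆ * y₁⁻¹)⁻¹ by group, hconj]
      exact mul_mem (S := Subgroup G) (hqZ r hr) (inv_mem (hqZ _ (hy₁R r hr)))
    set q := ⁅f, r⁆
    set d := ⁅q, y₁⁆ with hd
    have hd1 := hbr r hr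
    have hd2 : y₁ * d * y₁⁻¹ ∈ Z₀ ⊓ W := by
      have := hbr _ (hy₁R r hr)
      rw [← hconj] at this
      convert this using 1
      show y₁ * ⁅q, y₁⁆ * y₁⁻¹ = ⁅y₁ * q * y₁⁻¹, y₁⁆
      simp only [commutatorElement_def]
      group
    refine commutatorElement_eq_one_iff_mul_comm.mp (by_contra fun hne => ?_)
    obtain ⟨x, -, huniq⟩ := (Nat.card_eq_two_iff' (1 : ↥(Z₀ ⊓ W))).mp hc2
    have e : (⟨y₁ * d * y₁⁻¹, hd2⟩ : ↥(Z₀ ⊓ W)) = ⟨d, hd1⟩ :=
      (huniq _ fun h => hne (conj_eq_one_iff.mp (congrArg Subtype.val h))).trans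
        (huniq _ fun h => hne (congrArg Subtype.val h)).symm
    exact hne (hf₁.2 d hd1.2 (mul_inv_eq_iff_eq_mul.mp (congrArg Subtype.val e)).symm)
  have hrfr : ∀ r ∈ R, Commute f (r * y₁ * r⁻¹) := fun r hr => by
    have h1 : Commute (⁅f, r⁻¹⁆⁻¹ * f) y₁ := (hqc _ (inv_mem hr)).inv_left.mul_left hfy₁
    rw [show ⁅f, r⁻¹⁆⁻¹ * f = r⁻¹ * f * r by rw [commutatorElement_def]; group] at h1
    have h2 := h1.map (MulAut.conj r).toMonoidHom
    simpa [mul_assoc] using h2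
  have hfK : ∀ x ∈ K, Commute f x := by
    set Y := closure ((fun r => r * y₁ * r⁻¹) '' (pCoreOf 2 K : Set G)) with hY
    have hyY : y₁ ∈ Y := subset_closure ⟨1, one_mem _, by simp⟩
    have hYK : Y ≤ K := by
      refine (closure_le _).mpr ?_
      rintro _ ⟨r, hr, rfl⟩
      exact mul_mem (mul_mem (pCoreOf_le 2 K hr) hy₁K) (inv_mem (pCoreOf_le 2 K hr))
    have hON : ∀ o ∈ pCoreOf 2 K, o ∈ normalizer (Y : Set G) := fun o ho => by
      refine Subnormal.mem_normalizer_of_cj_le ?_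
      rw [Subnormal.cj, map_le_iff_le_comap, hY, closure_le]
      rintro _ ⟨r, hr, rfl⟩
      exact subset_closure ⟨o * r, mul_mem ho hr, by simp [mul_assoc]⟩
    have hKY : K ≤ normalizer (Y : Set G) := by
      have hy₁N : y₁ ∈ normalizer (Y : Set G) := le_normalizer hyY
      intro x hx
      rcases hp.cases hy₁K hy₁O hx with e | e | e
      · exact hON x e
      · simpa using mul_mem (hON _ e) hy₁N
      · simpa using mul_mem (hON _ e) (inv_mem hy₁N)
    have hYc : Y ≤ centralizer ({f} : Set G) := by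
      refine (closure_le _).mpr ?_
      rintro _ ⟨r, hr, rfl⟩
      exact mem_centralizer_singleton_iff.mpr (hrfr r (hOR hr)).eq.symm
    intro x hx
    rw [← hp.eq_of_normal hYK hKY hyY hy₁O] at hx
    exact (mem_centralizer_singleton_iff.mp (hYc hx)).symm
  have hfJ : ∀ j ∈ jOf T, Commute f j := fun j hj => by
    have hjW : j ∈ normalizer (W : Set G) := le_normalizer_wOf' (hn hj)
    have hzj : Commute z j := ((omegaCenterOf_le _ hz).2 j hj).symm
    refine commutatorElement_eq_one_iff_mul_comm.mp (hf₁.2 _ ?_ ?_)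
    · rw [hf, commutatorElement_def,
        show w⁻¹ * z * j * (w⁻¹ * z)⁻¹ * j⁻¹ = w⁻¹ * ((z * j * z⁻¹) * w * j⁻¹) by group,
        show z * j * z⁻¹ = j from mul_inv_eq_iff_eq_mul.mpr hzj.eq]
      exact mul_mem (inv_mem hw) ((mem_normalizer_iff.mp hjW w).mp hw)
    · have h1 : Commute f (j⁻¹ * y₁ * j) :=
        hfK _ ((mem_normalizer_iff''.mp (hn hj) y₁).mp hy₁K)
      have h2 := h1.map (MulAut.conj j).toMonoidHom
      have h3 : Commute (j * f * j⁻¹) y₁ := by simpa [mul_assoc] using h2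
      rw [show ⁅f, j⁆ = f * (j * f * j⁻¹)⁻¹ by rw [commutatorElement_def]; group]
      exact hfy₁.mul_left h3.inv_left
  have hwJ : w ∈ centralizer (jOf T : Set G) := fun j hj => by
    have h1 : Commute z j := ((omegaCenterOf_le _ hz).2 j hj).symm
    have h2 : Commute (z * f⁻¹) j := h1.mul_left (hfJ j hj).inv_left
    rw [hzw, mul_inv_cancel_right] at h2
    exact h2.symm.eq
  have hwZ : w ∈ Z₀ := hWC ⟨hw, hwJ⟩
  have hfZ : f ∈ Z₀ := mul_mem (inv_mem hwZ) hz
  refine ⟨f, w, ⟨hfZ, mem_sup_right ((omegaCenterOf_le _ hfZ).1), fun x hx => ?_⟩, ⟨hwZ, hw⟩, ?_⟩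
  · have hle : X ≤ centralizer ({f} : Set G) := sup_le
      (fun x hx => mem_centralizer_singleton_iff.mpr (hfK x hx).symm.eq)
      (fun x hx => mem_centralizer_singleton_iff.mpr (hfJ x hx).symm.eq)
    exact mem_centralizer_singleton_iff.mp (hle hx)
  · rw [hzw]
    exact PGroup.mul_comm_of_elementaryAbelian (isElementaryAbelian_omegaCenterOf _) hwZ hfZ

end Main

end Cfsg.Agent.JComponent
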