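import Cfsg.Agent.Lib.JComponent.Straddle
import Cfsg.Agent.Lib.JComponent.Component

/-!
# The maximal 2-local subgroup of a component outside `M`

* `Setting.jOf_le_normalizer_plane`, `Setting.le_comps_sup`
* `clique K`: the join of the components inside `N(W_K)`; `le_normalizer_clique`
* `unique_maximal`: `K J(T)` is in one maximal 2-local subgroup only
-/

set_option autoImplicit false

namespace Cfsg.Agent.JComponent

open Subgroup LocalStructure
open scoped commutatorElement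

universe u

variable {G : Type u} [Group G] [Finite G]

/-- `J(L)` normalizes every plane. -/
theorem Setting.jOf_le_normalizer_plane {T L : Subgroup G} (h : Setting T L) {x : G}
    {W : Subgroup G} (hp : PlaneIn L x W) : jOf L ≤ normalizer (W : Set G) := by
  intro g hg
  have hgL : g ∈ L := PGroup.thompsonSubgroupOf_le L hg
  refine Subnormal.mem_normalizer_of_cj_le ?_
  rintro _ ⟨w, hw, rfl⟩
  show g * w * g⁻¹ ∈ W
  let φ : W → W := fun v => ⟨⁅(v : G), x⁆, hp.comm v (hp.le v.2)⟩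
  have hinj : Function.Injective φ := by
    intro p q e
    have e' : ⁅(p : G), x⁆ = ⁅(q : G), x⁆ := congrArg Subtype.val e
    have h1 : Commute ((q : G)⁻¹ * p) x := by
      rw [commutatorElement_def, commutatorElement_def] at e'
      have e'' := congrArg (fun s => (q : G)⁻¹ * s * x * p) e'
      show (q : G)⁻¹ * p * x = x * ((q : G)⁻¹ * p)
      simpa [mul_assoc] using e''
    exact Subtype.ext (inv_mul_eq_one.mp (hp.fpf.2 _ (mul_mem (inv_mem q.2) p.2) h1)).symm
  obtain ⟨v, hv⟩ := (Finite.injective_iff_surjective.mp hinj) ⟨w, hw⟩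
  have hv' : ⁅(v : G), x⁆ = w := congrArg Subtype.val hv
  rw [← hv', show g * ⁅(v : G), x⁆ * g⁻¹ = ⁅g * (v : G) * g⁻¹, g * x * g⁻¹⁆ by
    simp only [commutatorElement_def]; group]
  set u := g * (v : G) * g⁻¹
  have hu : u ∈ vOf L := (mem_normalizer_iff.mp (le_normalizer_vOf L hgL) _).mp (hp.le v.2)
  have key : ∀ c z : G, c ∈ cOf L → z ∈ L → ⁅u, z⁆ ∈ W → ⁅u, c * z⁆ ∈ W := by
    intro c z hc hz hmem
    have hcu : c * u * c⁻¹ = u := (mem_centralizer_iff_conj.mp hc.2) u hu
    have hcw : c * ⁅u, z⁆ * c⁻¹ = ⁅u, z⁆ := (mem_centralizer_iff_conj.mp hc.2) _ (hp.le hmem)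
    have : ⁅u, c * z⁆ = c * ⁅u, z⁆ * c⁻¹ := by
      calc ⁅u, c * z⁆ = u * c * z * u⁻¹ * z⁻¹ * c⁻¹ := by rw [commutatorElement_def]; group
        _ = c * u * z * u⁻¹ * z⁻¹ * c⁻¹ := by rw [(mul_inv_eq_iff_eq_mul.mp hcu).symm]
        _ = _ := by rw [commutatorElement_def]; group
    rw [this, hcw]
    exact hmem
  have hx := rOf_le L hp.mem
  rcases h.plane_conj hp hg with e | e
  · have := key _ x e hx (hp.comm u hu)
    rwa [inv_mul_cancel_right] at this
  · have hmem : ⁅u, x⁻¹⁆ ∈ W := by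
      rw [show ⁅u, x⁻¹⁆ = x⁻¹ * ⁅u, x⁆⁻¹ * x by simp only [commutatorElement_def]; group]
      exact (mem_normalizer_iff''.mp hp.fpf.1 _).mp (inv_mem (hp.comm u hu))
    have := key _ x⁻¹ e (inv_mem hx) hmem
    rwa [mul_inv_cancel_right] at this

/-- `L` is generated by its components and `N_L(J(T))`. -/
theorem Setting.le_comps_sup {T L : Subgroup G} (h : Setting T L) :
    L ≤ sSup {K : Subgroup G | IsJComponent T K ∧ K ≤ L} ⊔
      (L ⊓ normalizer (jOf T : Set G)) := by
  have : Fact (Nat.Prime 2) := ⟨Nat.prime_two⟩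
  set P := sSup {K : Subgroup G | IsJComponent T K ∧ K ≤ L} ⊔ (L ⊓ normalizer (jOf T : Set G))
  have hC : cOf L ≤ P := le_sup_of_le_right (le_inf inf_le_left
    (h.centr.trans (PGroup.normalizer_le_normalizer_thompsonOf T)))
  have hR : rOf L ≤ P := by
    refine h.rOf_le_closure.trans (sup_le ((closure_le _).mpr ?_) hC)
    rintro x ⟨W, hW⟩
    obtain ⟨K, hK, hKL, hx⟩ := h.exists_component hW
    exact sup_le (le_sup_of_le_left (le_sSup (s := {K | IsJComponent T K ∧ K ≤ L}) ⟨hK, hKL⟩)) hC hx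
  have hjL : jOf L ≤ P := h.jOf_le.trans
    (sup_le hR (le_sup_of_le_right (le_inf h.j_le le_normalizer)))
  obtain ⟨Q, hQ⟩ := h.exists_sylow
  have hsol := h.sol
  have hn : ((jOf L).subgroupOf L).Normal :=
    (normal_subgroupOf_iff_le_normalizer (PGroup.thompsonSubgroupOf_le L)).mpr h.le_normalizer_jOf
  have hle : thompsonSubgroupOf 2 (Q : Subgroup ↥L) ≤ (jOf L).subgroupOf L := fun q hq =>
    h.j_le_jOf ((h.jOf_subgroupOf hQ).le ⟨q, hq, rfl⟩)
  have htop := congrArg (Subgroup.map L.subtype)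
    (Offender.sup_normalizer_thompson_eq_top Q ((jOf L).subgroupOf L) hle)
  rw [Subgroup.map_sup, ← MonoidHom.range_eq_map, range_subtype] at htop
  refine htop.ge.trans (sup_le ((map_le_iff_le_comap.mpr fun _ hx => hjL hx)) ?_)
  refine le_sup_of_le_right (le_inf (map_subtype_le _) ((le_normalizer_map L.subtype).trans ?_))
  rw [h.jOf_subgroupOf hQ]

/-- `M ⊇ N(J(T))` and `J(T)` behaves in every 2-local subgroup outside `M` as in a Sylow one. -/
structure Ref (M T : Subgroup G) : Prop where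
  isP : IsPGroup 2 T
  normJ : normalizer (jOf T : Set G) ≤ M
  sylow : ∀ X : Subgroup G, IsTwoLocal X → ¬ X ≤ M → ∀ T₀ : Subgroup G, IsSylowTwoIn T₀ X →
    jOf T ≤ T₀ → jOf T₀ = jOf T ∧ X ∈ jOvergroups T₀

theorem ref_of_max (hL : IsCharacteristicTwoType G) {M T : Subgroup G}
    (hT : T ∈ maxStraddlingTwoSubgroups M) (hMJT : normalizer (jOf T : Set G) ≤ M) : Ref M T :=
  ⟨hT.1.1, hMJT, fun _ hX hXM _ hT₀ hJ =>
    have h := max_sylow hT hMJT hL hX hXM hT₀ hJ
    ⟨h.1, h.2.2⟩⟩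

/-- A Sylow subgroup of `G` with the normalizer of its Thompson subgroup. -/
theorem ref_of_sylow (hL : IsCharacteristicTwoType G) (S : Sylow 2 G) :
    Ref (normalizer (jOf (S : Subgroup G) : Set G)) (S : Subgroup G) := by
  have : Fact (Nat.Prime 2) := ⟨Nat.prime_two⟩
  refine ⟨S.2, le_rfl, fun X hX hXM T₀ hT₀ hJ => ?_⟩
  obtain ⟨S', hS'⟩ := hT₀.2.1.exists_le_sylow
  obtain ⟨g, hg⟩ := MulAction.exists_smul_eq G S S'
  have hmap : (S' : Subgroup G) = (S : Subgroup G).map (MulAut.conj g).toMonoidHom := by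
    rw [← hg]; rfl
  obtain ⟨A, hA⟩ := PGroup.exists_isMaxEA (p := 2) (S : Subgroup G)
  obtain ⟨B, hB⟩ := PGroup.exists_isMaxEA (p := 2) T₀
  have hA' : PGroup.IsMaxEA 2 (S' : Subgroup G) (A.map (MulAut.conj g).toMonoidHom) :=
    hmap ▸ maxEA_map_conj g hA
  have hAg : Nat.card ↥(A.map (MulAut.conj g).toMonoidHom) = Nat.card A :=
    card_map_of_injective (MulAut.conj g).injective
  have hAB : Nat.card A = Nat.card B := le_antisymm
    (hB.2.2 A ((PGroup.le_thompsonSubgroupOf hA).trans hJ) hA.2.1)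
    (hAg ▸ hA'.2.2 B (hB.1.trans hS') hB.2.1)
  have h1 := j_le_of_card_eq hA hB hAB hJ
  have h2 := j_le_of_card_eq hB hA' (hAB.symm.trans hAg.symm)
    ((PGroup.thompsonSubgroupOf_le T₀).trans hS')
  have h3 : Nat.card (jOf (S' : Subgroup G)) = Nat.card (jOf (S : Subgroup G)) := by
    rw [hmap, ← j_map_conj, card_map_of_injective (MulAut.conj g).injective]
  have hJT₀ : jOf T₀ = jOf (S : Subgroup G) :=
    (eq_of_le_of_card_ge h1 (h3 ▸ card_le_of_le h2)).symm
  refine ⟨hJT₀, hT₀, fun hle => hXM ?_, (cen_of_twoLocal hL hX).1⟩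
  have e : jOf (pCoreOf 2 X) = jOf T₀ :=
    PGroup.thompsonSubgroupOf_eq_of_le hle (sylowTwoIn_iff.mp hT₀).pCoreOf_le
  calc X ≤ normalizer (pCoreOf 2 X : Set G) := le_normalizer_pCoreOf 2 X
    _ ≤ normalizer (jOf (pCoreOf 2 X) : Set G) := PGroup.normalizer_le_normalizer_thompsonOf _
    _ = _ := by rw [e, hJT₀]

section Max

variable (hL : IsCharacteristicTwoType G)
  (hN : ∀ N : Subgroup G, IsTwoLocal N → Group.IsSolvable ↥N)
  (hZ : ∀ S : Sylow 2 G, centralizer (omegaCenterOf (S : Subgroup G) : Set G) ≤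
      normalizer ((S : Subgroup G) : Set G))
  {M T : Subgroup G} (hR : Ref M T)
include hL hN hZ hR

/-- The setting in a 2-local subgroup outside `M` containing `J(T)`. -/
theorem local_setting {X : Subgroup G} (hX : IsTwoLocal X) (hXM : ¬ X ≤ M) (hJ : jOf T ≤ X) :
    ∃ T₀, Setting T₀ X ∧ jOf T₀ = jOf T := by
  obtain ⟨T₀, hJT₀, hT₀⟩ := exists_sylowTwoIn (isPGroup_j hR.isP) hJ
  obtain ⟨h1, h3⟩ := hR.sylow X hX hXM T₀ hT₀ hJT₀
  exact ⟨T₀, setting_of_mem hN hZ h3, h1⟩

theorem comp_subnormal_local {X K : Subgroup G} (hX : IsTwoLocal X) (hXM : ¬ X ≤ M)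
    (hJ : jOf T ≤ X) (hK : IsJComponent T K) (hKX : K ≤ X) : (K.subgroupOf X).IsSubnormal := by
  obtain ⟨T₀, h, e⟩ := local_setting hL hN hZ hR hX hXM hJ
  exact h.comp_subnormal (isJComponent_congr hK e) hKX

/-- Components in a common 2-local subgroup outside `M` normalize each other's four-group. -/
theorem comps_normalize {X K K' : Subgroup G} (hX : IsTwoLocal X) (hXM : ¬ X ≤ M)
    (hJ : jOf T ≤ X) (hK : IsJComponent T K) (hKX : K ≤ X) (hK' : IsJComponent T K')
    (hK'X : K' ≤ X) : K' ≤ normalizer (wOf K : Set G) := by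
  obtain ⟨T₀, h, e⟩ := local_setting hL hN hZ hR hX hXM hJ
  obtain ⟨y, hy, -, hyO⟩ := (IsJComponent.pre hK).exists_three
  have hp := ((h.comp_facts (isJComponent_congr hK e) hKX).2.2.2 y hy hyO).2
  exact (h.comp_facts (isJComponent_congr hK' e) hK'X).1.trans (h.jOf_le_normalizer_plane hp)

omit hL hN hZ hR in
/-- The join of the components inside `N(W_K)`. -/
noncomputable def clique (T K : Subgroup G) : Subgroup G :=
  sSup {K' : Subgroup G | IsJComponent T K' ∧ K' ≤ normalizer (wOf K : Set G)}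

theorem le_normalizer_clique {K X : Subgroup G} (hK : IsJComponent T K) (hKM : ¬ K ≤ M)
    (hX : IsTwoLocal X) (hle : K ⊔ jOf T ≤ X) : X ≤ normalizer (clique T K : Set G) := by
  have hKX : K ≤ X := le_sup_left.trans hle
  have hJX : jOf T ≤ X := le_sup_right.trans hle
  have hXM : ¬ X ≤ M := fun h => hKM (hKX.trans h)
  obtain ⟨T₀, h, e⟩ := local_setting hL hN hZ hR hX hXM hJX
  refine h.le_comps_sup.trans (sup_le (sSup_le ?_) ?_)
  · rintro K' ⟨hK', hK'X⟩
    have hc := isJComponent_congr hK' e.symm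
    exact (le_sSup (s := {K' | IsJComponent T K' ∧ K' ≤ normalizer (wOf K : Set G)})
      ⟨hc, comps_normalize hL hN hZ hR hX hXM hJX hK hKX hc hK'X⟩).trans le_normalizer
  · rw [e]
    rintro g ⟨hgX, hgJ⟩
    have hgM : g ∈ M := hR.normJ hgJ
    have hcomp : ∀ K' : Subgroup G, IsJComponent T K' →
        IsJComponent T (K'.map (MulAut.conj g).toMonoidHom) := fun K' hK' => by
      refine isJComponent_congr (isJComponent_map_conj hK' g) ?_
      rw [← j_map_conj, PGroup.map_conj_eq_of_mem_normalizer hgJ]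
    refine Subnormal.mem_normalizer_of_cj_le ?_
    rw [Subnormal.cj, map_le_iff_le_comap]
    refine sSup_le fun K' hK' => map_le_iff_le_comap.mp ?_
    obtain ⟨hK', hK'N⟩ := hK'
    refine le_sSup (s := {K' | IsJComponent T K' ∧ K' ≤ normalizer (wOf K : Set G)})
      ⟨hcomp K' hK', ?_⟩
    set Kg := K.map (MulAut.conj g).toMonoidHom with hKg
    have hKgX : Kg ≤ X := by
      rintro _ ⟨k, hk, rfl⟩
      exact mul_mem (mul_mem hgX (hKX hk)) (inv_mem hgX)
    have hKgM : ¬ Kg ≤ M := fun h' => hKM fun k hk => by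
      have h1 := mul_mem (mul_mem (inv_mem hgM) (h' ⟨k, hk, rfl⟩)) hgM
      simpa [mul_assoc] using h1
    have hN' := isTwoLocal_normalizer_wOf (hcomp K hK)
    refine comps_normalize hL hN hZ hR hN' (fun h' => hKgM (le_normalizer_wOf.trans h'))
      (j_le_normalizer_wOf (hcomp K hK)) hK
      (comps_normalize hL hN hZ hR hX hXM hJX (hcomp K hK) hKgX hK hKX) (hcomp K' hK') ?_
    rw [← wOf_map_conj]
    exact (map_mono hK'N).trans (le_normalizer_map _)

/-- The normalizer of `O₂` of the clique is the maximal 2-local subgroup. -/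
theorem unique_maximal {K : Subgroup G} (hK : IsJComponent T K) (hKM : ¬ K ≤ M) :
    ∃ L : Subgroup G, IsMaximalTwoLocal L ∧ K ⊔ jOf T ≤ L ∧
      ∀ X : Subgroup G, IsTwoLocal X → K ⊔ jOf T ≤ X → X ≤ L := by
  have hp := IsJComponent.pre hK
  have hW4 : Nat.card (wOf K) = 4 := hK.2.2.2.2.1
  set N := normalizer (wOf K : Set G) with hNdef
  have hN2 : IsTwoLocal N := isTwoLocal_normalizer_wOf hK
  have hKN : K ≤ N := le_normalizer_wOf
  have hle : K ⊔ jOf T ≤ N := sup_le hKN (j_le_normalizer_wOf hK)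
  have hD : clique T K ≤ N := sSup_le fun K' hK' => hK'.2
  have hKD : K ≤ clique T K :=
    le_sSup (s := {K' | IsJComponent T K' ∧ K' ≤ normalizer (wOf K : Set G)}) ⟨hK, hKN⟩
  have hsn : (K.subgroupOf (clique T K)).IsSubnormal := (Subnormal.sn_mono
    ⟨hKN, comp_subnormal_local hL hN hZ hR hN2 (fun h' => hKM (hKN.trans h'))
      (le_sup_right.trans hle) hK hKN⟩ hKD hD).2
  set Q := pCoreOf 2 (clique T K) with hQ
  have hQ1 : Q ≠ ⊥ := fun e => by
    have h1 : wOf K ≤ Q :=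
      (hp.wOf_le.trans ((omegaCenterOf_le _).trans inf_le_left)).trans (hp.of_subnormal hKD hsn).1
    rw [e, le_bot_iff] at h1
    rw [h1, Subgroup.card_bot] at hW4
    omega
  have hΛ : IsTwoLocal (normalizer (Q : Set G)) := ⟨Q, isPGroup_pCoreOf 2 _, hQ1, rfl⟩
  have hmax : ∀ X : Subgroup G, IsTwoLocal X → K ⊔ jOf T ≤ X → X ≤ normalizer (Q : Set G) :=
    fun X hX hXle => (le_normalizer_clique hL hN hZ hR hK hKM hX hXle).trans
      (normalizer_le_normalizer_pCoreOf _)
  exact ⟨_, ⟨hΛ, fun X hX hXle => le_antisymm (hmax X hX ((hle.trans (hmax N hN2 hle)).trans hXle))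
    hXle⟩, hle.trans (hmax N hN2 hle), hmax⟩

end Max

end Cfsg.Agent.JComponent
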