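import Cfsg.Agent.Lib.PGroup.HomCount
import Cfsg.Agent.Lib.LocalStructure.WeaklyClosed
import Cfsg.Agent.Lib.JComponent.Basic

/-!
# Largest elementary abelian subgroups acting next to an element of order three

* `card_rng_le`: if `A` is elementary abelian of largest order, `|A : B| = 2`, `B` centralizes and
  some `a ∈ A` inverts the action of `y` on `Z`, then `|[Z, y]| ≤ 4`.
-/

set_option autoImplicit false

namespace Cfsg.Agent.JComponent

open Subgroup LocalStructure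
open scoped commutatorElement IsMulCommutative

universe u

variable {G : Type u} [Group G] [Finite G]

/-- An abelian 2-group of automorphisms of an elementary abelian 2-group with a single nontrivial
fixed point: `2 |B| ≤ |C_B(M)| |M|`. -/
theorem card_mul_two_le_of_one_fixed {M B : Subgroup G} (hM : IsElementaryAbelian 2 M)
    (hB : IsPGroup 2 B) (hBc : ∀ b ∈ B, ∀ c ∈ B, Commute b c)
    (hBM : B ≤ normalizer (M : Set G)) (hfix : Nat.card ↥(M ⊓ centralizer (B : Set G)) = 2) :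
    2 * Nat.card B ≤ Nat.card ↥(B ⊓ centralizer (M : Set G)) * Nat.card M := by
  classical
  have : Fact (Nat.Prime 2) := ⟨Nat.prime_two⟩
  set Z := M ⊓ centralizer (B : Set G) with hZ
  have hZc : ∀ z ∈ Z, ∀ b ∈ B, b * z * b⁻¹ = z := fun z hz b hb =>
    mul_inv_eq_iff_eq_mul.mpr (hz.2 b hb)
  have hcM : ∀ x ∈ M, ∀ y ∈ M, x * y = y * x := fun x hx y hy =>
    PGroup.mul_comm_of_elementaryAbelian hM hx hy
  -- a hyperplane `K` avoiding the fixed point
  obtain ⟨K, ⟨hKM, hKZ⟩, hKmax⟩ :=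
    (Set.toFinite {K : Subgroup G | K ≤ M ∧ K ⊓ Z = ⊥}).exists_maximal ⟨⊥, bot_le, bot_inf_eq _⟩
  have hdec : ∀ m ∈ M, ∃ z ∈ Z, z * m ∈ K := by
    intro m hm
    by_cases hmK : m ∈ K
    · exact ⟨1, one_mem _, by simpa using hmK⟩
    have hne : (K ⊔ zpowers m) ⊓ Z ≠ ⊥ := fun e => hmK (hKmax
      (⟨sup_le hKM (zpowers_le.mpr hm), e⟩ : K ⊔ zpowers m ≤ M ∧ _) le_sup_left
        (mem_sup_right (mem_zpowers m)))
    obtain ⟨⟨z, hzs, hzZ⟩, hz1⟩ := ne_bot_iff_exists_ne_one.mp hne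
    have hn : zpowers m ≤ normalizer (K : Set G) := zpowers_le.mpr
      (Subgroup.centralizer_le_normalizer _ fun k hk => hcM k (hKM hk) m hm)
    obtain ⟨k, hk, x, ⟨i, rfl⟩, rfl⟩ := (Coprime.mem_sup_iff_of_le_normalizer' hn).mp ((sup_comm K (zpowers m)) ▸ hzs)
    rcases Int.even_or_odd i with ⟨j, rfl⟩ | ⟨j, rfl⟩
    · exfalso
      refine hz1 (Subtype.ext (mem_bot.mp (hKZ.le ⟨?_, hzZ⟩)))
      have : m ^ (j + j) = 1 := by
        rw [← two_mul, zpow_mul, show m ^ (2 : ℤ) = 1 from (zpow_natCast m 2).trans (hM.2 m hm),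
          one_zpow]
      simpa [this] using hk
    · have e : m ^ (2 * j + 1) = m := by
        rw [zpow_add, zpow_mul, show m ^ (2 : ℤ) = 1 from (zpow_natCast m 2).trans (hM.2 m hm),
          one_zpow, one_mul, zpow_one]
      simp only [e] at hzZ
      refine ⟨k * m, hzZ, ?_⟩
      rw [mul_assoc, ← sq, hM.2 m hm, mul_one]
      exact hk
  have hcardK : 2 * Nat.card K ≤ Nat.card M := by
    have h1 := Offender.card_sup_mul_card_inf
      (show K ≤ normalizer (Z : Set G) from fun k hk => Subgroup.centralizer_le_normalizer _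
        fun z hz => hcM z hz.1 k (hKM hk))
    rw [hKZ, Subgroup.card_bot, mul_one, hfix] at h1
    rw [mul_comm, ← h1]
    exact card_le_of_le (sup_le hKM inf_le_left)
  -- the map `b ↦ (complement `K^b`)`
  have hbM : ∀ b ∈ B, ∀ x ∈ M, b * x * b⁻¹ ∈ M := fun b hb x hx =>
    (mem_normalizer_iff.mp (hBM hb) x).mp hx
  have hbM' : ∀ b ∈ B, ∀ x ∈ M, b⁻¹ * x * b ∈ M := fun b hb x hx =>
    (mem_normalizer_iff''.mp (hBM hb) x).mp hx
  have hzuniq : ∀ x ∈ M, ∀ z ∈ Z, ∀ z' ∈ Z, z * x ∈ K → z' * x ∈ K → z = z' := by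
    intro x hx z hz z' hz' h1 h2
    have : z * z'⁻¹ ∈ K := by simpa [mul_assoc] using mul_mem h1 (inv_mem h2)
    exact mul_inv_eq_one.mp (mem_bot.mp (hKZ.le ⟨this, mul_mem (S := Subgroup G) hz (inv_mem hz')⟩))
  choose pr hprZ hpr using hdec
  have hprmul : ∀ x (hx : x ∈ M) y (hy : y ∈ M),
      pr (x * y) (mul_mem hx hy) = pr x hx * pr y hy := by
    intro x hx y hy
    refine hzuniq _ (mul_mem hx hy) _ (hprZ _ _) _ (mul_mem (hprZ _ _) (hprZ _ _)) (hpr _ _) ?_
    have : pr x hx * pr y hy * (x * y) = pr x hx * x * (pr y hy * y) := by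
      rw [mul_assoc, ← mul_assoc (pr y hy), hcM (pr y hy) (hprZ y hy).1 x hx]
      group
    rw [this]
    exact mul_mem (hpr _ _) (hpr _ _)
  have : IsMulCommutative K := PGroup.isMulCommutative_of_forall fun x hx y hy =>
    hcM x (hKM hx) y (hKM hy)
  have : IsMulCommutative Z := PGroup.isMulCommutative_of_forall fun x hx y hy =>
    hcM x hx.1 y hy.1
  let φ : B → (K →* Z) := fun b =>
    { toFun := fun k => ⟨pr (b * k * (b : G)⁻¹) (hbM b b.2 k (hKM k.2)), hprZ _ _⟩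
      map_one' := Subtype.ext (hzuniq _ (hbM b b.2 _ (one_mem M)) _ (hprZ _ _) 1 (one_mem _)
        (hpr _ _) (by simp))
      map_mul' := fun k l => by
        apply Subtype.ext
        simp only [Subgroup.coe_mul]
        rw [← hprmul]
        congr 1
        group }
  obtain ⟨hfin, hle⟩ := PGroup.card_monoidHom_prime_le (A := K) (Z := Z) hfix
  -- fibres lie in cosets of `C_B(M)`
  have hprK : ∀ k (hk : k ∈ K), pr k (hKM hk) = 1 := fun k hk =>
    hzuniq k (hKM hk) _ (hprZ _ _) 1 (one_mem _) (hpr _ _) (by simpa using hk)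
  have hprZ' : ∀ z (hz : z ∈ Z), pr z hz.1 = z := fun z hz =>
    hzuniq z hz.1 _ (hprZ _ _) z hz (hpr _ _)
      (by rw [← sq, hM.2 z hz.1]; exact one_mem _)
  have hfib : ∀ b c : B, φ b = φ c → (b : G)⁻¹ * c ∈ B ⊓ centralizer (M : Set G) := by
    intro b c e
    set g := (b : G)⁻¹ * c with hgdef
    have hg : g ∈ B := mul_mem (inv_mem b.2) c.2
    have hbc : Commute (b : G) c := hBc b b.2 c c.2
    -- the projections of `b v b⁻¹` and `c v c⁻¹` agree
    have hall : ∀ v (hv : v ∈ M),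
        pr (b * v * (b : G)⁻¹) (hbM b b.2 v hv) = pr (c * v * (c : G)⁻¹) (hbM c c.2 v hv) := by
      intro v hv
      have hzv := hprZ v hv
      set z := pr v hv
      have hk : z * v ∈ K := hpr v hv
      have hv' : ∀ d ∈ B, d * v * d⁻¹ = z * (d * (z * v) * d⁻¹) := fun d hd => by
        calc d * v * d⁻¹ = d * z * d⁻¹ * (d * (z * v) * d⁻¹) := by
              rw [show d * z * d⁻¹ * (d * (z * v) * d⁻¹) = d * (z * z * v) * d⁻¹ by group, ← sq,
                hM.2 z hzv.1, one_mul]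
          _ = _ := by rw [hZc z hzv d hd]
      have e1 : pr (b * (z * v) * (b : G)⁻¹) (hbM b b.2 _ (hKM hk)) =
          pr (c * (z * v) * (c : G)⁻¹) (hbM c c.2 _ (hKM hk)) :=
        congrArg Subtype.val (DFunLike.congr_fun e ⟨_, hk⟩)
      simp only [hv' b b.2, hv' c c.2, hprmul z hzv.1 _ (hbM b b.2 _ (hKM hk)),
        hprmul z hzv.1 _ (hbM c c.2 _ (hKM hk)), e1]
    -- so `[g, u]` lies in `K`
    have hin : ∀ u ∈ M, ⁅u, g⁆ ∈ K := by
      intro u hu
      have hgu : g * u⁻¹ * g⁻¹ ∈ M := hbM g hg _ (inv_mem hu)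
      have e2 := hall _ (hbM' b b.2 _ (inv_mem hu))
      have hu1 : (b : G) * ((b : G)⁻¹ * u⁻¹ * b) * (b : G)⁻¹ = u⁻¹ := by group
      have hu2 : (c : G) * ((b : G)⁻¹ * u⁻¹ * b) * (c : G)⁻¹ = g * u⁻¹ * g⁻¹ := by
        rw [hgdef, mul_inv_rev, inv_inv,
          show (b : G)⁻¹ * c = c * (b : G)⁻¹ from hbc.inv_left.eq,
          show (c : G)⁻¹ * b = b * (c : G)⁻¹ from hbc.inv_right.eq.symm]
        group
      simp only [hu1, hu2] at e2
      have h1 := hpr _ (inv_mem hu)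
      have h2 := hpr _ hgu
      rw [← e2] at h2
      have h3 := mul_mem (inv_mem h1) h2
      rw [commutatorElement_def, show u * g * u⁻¹ * g⁻¹ = u * (g * u⁻¹ * g⁻¹) by group]
      simpa [mul_assoc] using h3
    refine ⟨hg, fun u hu => ?_⟩
    set ψ := Offender.commHom M hM.1 g (hBM hg) with hψ
    by_contra hne
    have hR1 : ψ.range ≠ ⊥ := fun e => hne (commutatorElement_eq_one_iff_mul_comm.mp
      (mem_bot.mp (e ▸ MonoidHom.mem_range.mpr ⟨⟨u, hu⟩, rfl⟩)))
    have hRK : ψ.range ≤ K := by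
      rintro _ ⟨⟨v, hv⟩, rfl⟩
      exact hin v hv
    have hn : B ≤ normalizer (ψ.range : Set G) := fun d hd => by
      refine Subnormal.mem_normalizer_of_cj_le ?_
      rintro _ ⟨_, ⟨⟨v, hv⟩, rfl⟩, rfl⟩
      refine ⟨⟨d * v * d⁻¹, hbM d hd v hv⟩, ?_⟩
      show ⁅d * v * d⁻¹, g⁆ = d * ⁅v, g⁆ * d⁻¹
      calc ⁅d * v * d⁻¹, g⁆ = ⁅d * v * d⁻¹, d * g * d⁻¹⁆ := by
            rw [show d * g * d⁻¹ = g from mul_inv_eq_iff_eq_mul.mpr (hBc d hd g hg).eq]
        _ = _ := by simp only [commutatorElement_def]; group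
    refine LocalStructure.inf_centralizer_ne_bot (P := B)
      ((PGroup.isPGroup_of_elementaryAbelian hM).to_le (hRK.trans hKM)) hR1 hB hn ?_
    rw [← le_bot_iff, ← hKZ]
    exact le_inf (inf_le_left.trans hRK) (inf_le_inf_right _ (hRK.trans hKM))
  have key : Nat.card B ≤ Nat.card ↥(B ⊓ centralizer (M : Set G)) * Nat.card (K →* Z) := by
    rw [← Nat.card_prod]
    have hsel : ∀ b : B, φ (Function.invFun φ (φ b)) = φ b := fun b =>
      Function.invFun_eq ⟨b, rfl⟩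
    refine Nat.card_le_card_of_injective (fun b : B =>
      ((⟨((Function.invFun φ (φ b) : B) : G)⁻¹ * b, hfib _ _ (hsel b)⟩ :
        ↥(B ⊓ centralizer (M : Set G))), φ b)) fun b c e => ?_
    simp only [Prod.mk.injEq, Subtype.mk.injEq] at e
    rw [e.2] at e
    exact Subtype.ext (mul_left_cancel e.1)
  nlinarith [Nat.card_pos (α := ↥(B ⊓ centralizer (M : Set G)))]

/-- For an involutory action, `|P| ≤ |C_P(a)|²`. -/
theorem card_le_sq_fixed {P : Subgroup G} (hP : IsElementaryAbelian 2 P) {a : G}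
    (ha : a ∈ normalizer (P : Set G)) (ha2 : a ^ 2 = 1) :
    Nat.card P ≤ Nat.card ↥(P ⊓ centralizer ({a} : Set G)) ^ 2 := by
  set φ := Offender.commHom P hP.1 a ha with hφ
  have hk : φ.ker.map P.subtype ≤ P ⊓ centralizer ({a} : Set G) := by
    rintro _ ⟨v, hv, rfl⟩
    exact ⟨v.2, mem_centralizer_singleton_iff.mpr
      (commutatorElement_eq_one_iff_mul_comm.mp (MonoidHom.mem_ker.mp hv))⟩
  have hr : φ.range ≤ P ⊓ centralizer ({a} : Set G) := by
    rintro _ ⟨⟨v, hv⟩, rfl⟩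
    have hP' : a * v⁻¹ * a⁻¹ ∈ P := (mem_normalizer_iff.mp ha _).mp (inv_mem hv)
    have hw : ⁅v, a⁆ ∈ P := by
      rw [commutatorElement_def, show v * a * v⁻¹ * a⁻¹ = v * (a * v⁻¹ * a⁻¹) by group]
      exact mul_mem hv hP'
    refine ⟨hw, mem_centralizer_singleton_iff.mpr (mul_inv_eq_iff_eq_mul.mp ?_).symm⟩
    have e1 : a * ⁅v, a⁆ * a⁻¹ = a * v * a⁻¹ * (a ^ 2 * v⁻¹ * (a ^ 2)⁻¹) := by
      rw [commutatorElement_def, sq]; group
    have e2 : v⁻¹ = v := inv_eq_of_mul_eq_one_right (by rw [← sq]; exact hP.2 v hv)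
    show a * ⁅v, a⁆ * a⁻¹ = ⁅v, a⁆
    rw [e1, ha2, inv_one, mul_one, one_mul, commutatorElement_def,
      show v * a * v⁻¹ * a⁻¹ = v * (a * v⁻¹ * a⁻¹) by group,
      Offender.commute_mem hP.1 hv hP', e2]
  rw [← φ.ker.card_mul_index, index_ker, sq]
  refine Nat.mul_le_mul ?_ (card_le_of_le hr)
  rw [← card_map_of_injective P.subtype_injective]
  exact card_le_of_le hk

/-- If `A` is elementary abelian of largest order, its index two subgroup `B` centralizes and
`a ∈ A` inverts the action of `y` on `Z`, then `|[Z, y]| ≤ 4`. -/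
theorem card_rng_le {Z A B L : Subgroup G} {y a : G} (h : Tri Z y) (hA : PGroup.IsMaxEA 2 L A)
    (hAZ : A ≤ normalizer (Z : Set G)) (hZL : Z ≤ L) (hBA : B ≤ A) (ha : a ∈ A)
    (hdec : ∀ x ∈ A, x ∈ B ∨ a⁻¹ * x ∈ B)
    (hBy : ∀ b ∈ B, b * y * b⁻¹ * y⁻¹ ∈ centralizer (Z : Set G))
    (hay : a * y * a⁻¹ * y ∈ centralizer (Z : Set G)) : Nat.card h.rng ≤ 4 := by
  have : Fact (Nat.Prime 2) := ⟨Nat.prime_two⟩
  by_contra hlt
  push Not at hlt
  set W := h.rng with hWdef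
  have hWZ : W ≤ Z := h.rng_le
  have hWe : IsElementaryAbelian 2 W := PGroup.isElementaryAbelian_mono h.hV hWZ
  have hconjZ : ∀ g ∈ A, ∀ v ∈ Z, g * v * g⁻¹ ∈ Z := fun g hg v hv =>
    (mem_normalizer_iff.mp (hAZ hg) v).mp hv
  have hcz : ∀ c ∈ centralizer (Z : Set G), ∀ v ∈ Z, c * v * c⁻¹ = v :=
    fun c hc v hv => (mem_centralizer_iff_conj.mp hc) v hv
  have hyZ : ∀ v ∈ Z, y * v * y⁻¹ ∈ Z := fun v hv => (mem_normalizer_iff.mp h.norm v).mp hv
  have hbW : ∀ b ∈ B, ∀ w ∈ W, b * w * b⁻¹ ∈ W := by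
    intro b hb w hw
    obtain ⟨v, hv, rfl⟩ := h.mem_rng.mp hw
    have hv' := hconjZ b (hBA hb) v hv
    refine h.mem_rng.mpr ⟨b * v * b⁻¹, hv', ?_⟩
    calc ⁅b * v * b⁻¹, y⁆
        = b * v * b⁻¹ * (b * y * b⁻¹ * y⁻¹ * (y * (b * v * b⁻¹)⁻¹ * y⁻¹) *
            (b * y * b⁻¹ * y⁻¹)⁻¹) := by
          rw [hcz _ (hBy b hb) _ (hyZ _ (inv_mem hv')), commutatorElement_def]; group
      _ = b * ⁅v, y⁆ * b⁻¹ := by simp only [commutatorElement_def]; group
  have haW : ∀ w ∈ W, a * w * a⁻¹ ∈ W := by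
    intro w hw
    obtain ⟨v, hv, rfl⟩ := h.mem_rng.mp hw
    have hu := hconjZ a ha v hv
    have hu' : y⁻¹ * (a * v * a⁻¹)⁻¹ * y ∈ Z :=
      (mem_normalizer_iff''.mp h.norm _).mp (inv_mem hu)
    refine h.mem_rng.mpr ⟨y⁻¹ * (a * v * a⁻¹)⁻¹ * y, hu', ?_⟩
    calc ⁅y⁻¹ * (a * v * a⁻¹)⁻¹ * y, y⁆
        = (y⁻¹ * (a * v * a⁻¹)⁻¹ * y) * (a * v * a⁻¹) := by
          simp only [commutatorElement_def]; group
      _ = (a * v * a⁻¹) * (y⁻¹ * (a * v * a⁻¹)⁻¹ * y) := Offender.commute_mem h.hV.1 hu' hu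
      _ = (a * v * a⁻¹) * (a * y * a⁻¹ * y * (y⁻¹ * (a * v * a⁻¹)⁻¹ * y) *
            (a * y * a⁻¹ * y)⁻¹) := by rw [hcz _ hay _ hu']
      _ = a * ⁅v, y⁆ * a⁻¹ := by simp only [commutatorElement_def]; group
  have hyW : ∀ w ∈ W, y * w * y⁻¹ ∈ W := fun w hw => h.conj_mem_rng hw
  have hBcomm : ∀ b ∈ B, ∀ c ∈ B, Commute b c := fun b hb c hc =>
    PGroup.mul_comm_of_elementaryAbelian hA.2.1 (hBA hb) (hBA hc)
  have haB : ∀ b ∈ B, Commute a b := fun b hb =>
    PGroup.mul_comm_of_elementaryAbelian hA.2.1 ha (hBA hb)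
  have hB2 : IsPGroup 2 B := (PGroup.isPGroup_of_elementaryAbelian hA.2.1).to_le hBA
  have hAinf : ∀ P : Subgroup G, P ⊓ centralizer (B : Set G) ⊓ centralizer ({a} : Set G) =
      P ⊓ centralizer (A : Set G) := by
    intro P
    refine le_antisymm (fun x hx => ⟨hx.1.1, fun g hg => ?_⟩) (fun x hx => ⟨⟨hx.1, fun g hg =>
      hx.2 g (hBA hg)⟩, mem_centralizer_singleton_iff.mpr (hx.2 a ha).symm⟩)
    have hxa : Commute a x := (mem_centralizer_singleton_iff.mp hx.2 : x * a = a * x).symm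
    rcases hdec g hg with hgB | hgB
    · exact hx.1.2 g hgB
    · have hxg : Commute (a⁻¹ * g) x := hx.1.2 _ hgB
      have := hxa.mul_left hxg
      rwa [mul_inv_cancel_left] at this
  -- `|P| = |C_P(a)|²` for invariant `P`
  have hsq : ∀ P : Subgroup G, P ≤ W → (∀ v ∈ P, y * v * y⁻¹ ∈ P) →
      (∀ v ∈ P, a * v * a⁻¹ ∈ P) →
      Nat.card P = Nat.card ↥(P ⊓ centralizer ({a} : Set G)) ^ 2 := by
    intro P hP hPy hPa
    have hPe := PGroup.isElementaryAbelian_mono hWe hP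
    have han : a ∈ normalizer (P : Set G) :=
      Subnormal.mem_normalizer_of_cj_le (by rintro _ ⟨v, hv, rfl⟩; exact hPa v hv)
    refine le_antisymm (card_le_sq_fixed hPe han (hA.2.1.2 a ha)) ?_
    set M := P ⊓ centralizer ({a} : Set G) with hM
    set M' := M.map (MulAut.conj y).toMonoidHom with hM'
    have hM'P : M' ≤ P := by rintro _ ⟨v, hv, rfl⟩; exact hPy v hv.1
    have hdis : M ⊓ M' = ⊥ := by
      refine (eq_bot_iff_forall _).mpr fun m hm => ?_
      obtain ⟨hm, n, hn, rfl⟩ := hm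
      change y * n * y⁻¹ ∈ M at hm
      show y * n * y⁻¹ = 1
      have hnZ : n ∈ Z := hWZ (hP hn.1)
      have hn' : a * n * a⁻¹ = n :=
        mul_inv_eq_iff_eq_mul.mpr (mem_centralizer_singleton_iff.mp hn.2).symm
      have hm' : a * (y * n * y⁻¹) * a⁻¹ = y * n * y⁻¹ :=
        mul_inv_eq_iff_eq_mul.mpr (mem_centralizer_singleton_iff.mp hm.2).symm
      have hyn : y⁻¹ * n * y ∈ Z := (mem_normalizer_iff''.mp h.norm n).mp hnZ
      have e : y * n * y⁻¹ = y⁻¹ * n * y := by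
        conv_lhs => rw [← hm', show a * (y * n * y⁻¹) * a⁻¹ =
          a * y * a⁻¹ * y * (y⁻¹ * (a * n * a⁻¹) * y) * (a * y * a⁻¹ * y)⁻¹ by group, hn']
        exact hcz _ hay _ hyn
      have e3 : y * y * n * (y * y)⁻¹ = n := by
        calc y * y * n * (y * y)⁻¹ = y * (y * n * y⁻¹) * y⁻¹ := by group
          _ = n := by rw [e]; group
      have hcy : y * n * y⁻¹ = n := by
        have h3 := hcz _ h.cube n hnZ
        calc y * n * y⁻¹ = y * (y * y * n * (y * y)⁻¹) * y⁻¹ := by rw [e3]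
          _ = y ^ 3 * n * (y ^ 3)⁻¹ := by simp only [pow_succ, pow_zero, one_mul]; group
          _ = n := h3
      rw [hcy]
      exact h.eq_one (hP hn.1) (mul_inv_eq_iff_eq_mul.mp hcy).symm
    have hn : M ≤ normalizer (M' : Set G) := fun m hm =>
      Subgroup.centralizer_le_normalizer _ fun v hv =>
        PGroup.mul_comm_of_elementaryAbelian hPe (hM'P hv) hm.1
    have e := Offender.card_sup_mul_card_inf hn
    rw [hdis, Subgroup.card_bot, mul_one, hM', card_map_of_injective (MulAut.conj y).injective,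
      ← sq] at e
    rw [← e]
    exact card_le_of_le (sup_le inf_le_left hM'P)
  -- the fixed points of `B`
  set C := W ⊓ centralizer (B : Set G) with hC
  have hCy : ∀ v ∈ C, y * v * y⁻¹ ∈ C := by
    rintro v ⟨hv, hvB⟩
    refine ⟨hyW v hv, fun b hb => ?_⟩
    show b * (y * v * y⁻¹) = y * v * y⁻¹ * b
    rw [← mul_inv_eq_iff_eq_mul]
    calc b * (y * v * y⁻¹) * b⁻¹
        = b * y * b⁻¹ * y⁻¹ * (y * (b * v * b⁻¹) * y⁻¹) * (b * y * b⁻¹ * y⁻¹)⁻¹ := by group
      _ = y * v * y⁻¹ := by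
          rw [show b * v * b⁻¹ = v from mul_inv_eq_iff_eq_mul.mpr (hvB b hb),
            hcz _ (hBy b hb) _ (hyZ _ (hWZ hv))]
  have hCa : ∀ v ∈ C, a * v * a⁻¹ ∈ C := by
    rintro v ⟨hv, hvB⟩
    refine ⟨haW v hv, fun b hb => ?_⟩
    exact (((haB b hb).symm.mul_right (hvB b hb : Commute b v)).mul_right
      (haB b hb).symm.inv_right).eq
  have hsqC := hsq C inf_le_left hCy hCa
  rw [hC, hAinf W] at hsqC
  set M₀ := W ⊓ centralizer (A : Set G) with hM₀
  -- `B C` is elementary abelian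
  have hBC : IsElementaryAbelian 2 (B ⊔ C) :=
    PGroup.isElementaryAbelian_sup (PGroup.isElementaryAbelian_mono hA.2.1 hBA)
      (PGroup.isElementaryAbelian_mono hWe inf_le_left) fun b hb c hc => hc.2 b hb
  have hBCL : Nat.card ↥(B ⊔ C) ≤ Nat.card A :=
    hA.2.2 _ (sup_le (hBA.trans hA.1) (inf_le_left.trans (hWZ.trans hZL))) hBC
  have hcard2 : Nat.card A ≤ 2 * Nat.card B := by
    classical
    refine (Nat.card_le_card_of_injective (fun x : A =>
      if hx : (x : G) ∈ B then ((false, ⟨x, hx⟩) : Bool × B)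
      else (true, ⟨a⁻¹ * x, (hdec x x.2).resolve_left hx⟩)) fun x x' e => ?_).trans
      (by rw [Nat.card_prod, Nat.card_eq_fintype_card (α := Bool), Fintype.card_bool])
    dsimp only at e
    split_ifs at e with h1 h2 h2 <;>
      simp only [Prod.mk.injEq, Subtype.mk.injEq, reduceCtorEq, false_and, true_and] at e
    · exact Subtype.ext e
    · exact Subtype.ext (mul_left_cancel e)
  have hn : B ≤ normalizer (C : Set G) := fun b hb =>
    Subgroup.centralizer_le_normalizer _ fun c hc => (hc.2 b hb).symm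
  have e := Offender.card_sup_mul_card_inf hn
  have hBC' : Nat.card ↥(B ⊓ C) ≤ Nat.card M₀ := by
    refine card_le_of_le ?_
    rw [hM₀, ← hAinf W]
    exact fun x hx => ⟨hx.2, mem_centralizer_singleton_iff.mpr (haB x hx.1).eq.symm⟩
  have hM₀pos : 0 < Nat.card M₀ := Nat.card_pos
  have hBpos : 0 < Nat.card B := Nat.card_pos
  have hM₀le : Nat.card M₀ ≤ 2 := by
    have h1 : Nat.card B * Nat.card M₀ ^ 2 ≤ 2 * Nat.card B * Nat.card M₀ := by
      rw [← hsqC, ← hC, ← e]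
      exact Nat.mul_le_mul (hBCL.trans hcard2) hBC'
    exact Nat.le_of_mul_le_mul_left
      (by nlinarith : Nat.card B * Nat.card M₀ * Nat.card M₀ ≤ Nat.card B * Nat.card M₀ * 2)
      (Nat.mul_pos hBpos hM₀pos)
  have hWne : W ≠ ⊥ := fun e0 => by rw [e0, Subgroup.card_bot] at hlt; omega
  have hM₀2 : Nat.card M₀ = 2 := by
    by_contra hne
    have h1 : Nat.card M₀ = 1 := by omega
    rw [h1, one_pow] at hsqC
    exact LocalStructure.inf_centralizer_ne_bot (P := B)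
      (PGroup.isPGroup_of_elementaryAbelian hWe) hWne hB2
      (fun b hb => Subnormal.mem_normalizer_of_cj_le
        (by rintro _ ⟨w, hw, rfl⟩; exact hbW b hb w hw)) (card_eq_one.mp hsqC)
  -- the dual count on `M = C_W(a)`
  set M := W ⊓ centralizer ({a} : Set G) with hM
  have hsqW := hsq W le_rfl hyW haW
  rw [← hM] at hsqW
  have hBM : B ≤ normalizer (M : Set G) := fun b hb => Subnormal.mem_normalizer_of_cj_le (by
    rintro _ ⟨w, ⟨hw, hwa⟩, rfl⟩
    refine ⟨hbW b hb w hw, mem_centralizer_singleton_iff.mpr ?_⟩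
    exact ((((haB b hb).mul_right (mem_centralizer_singleton_iff.mp hwa :
      Commute w a).symm).mul_right (haB b hb).inv_right).eq).symm)
  have hfixM : M ⊓ centralizer (B : Set G) = M₀ := by
    rw [hM₀, ← hAinf W, hM, inf_right_comm]
  have hdual := card_mul_two_le_of_one_fixed (PGroup.isElementaryAbelian_mono hWe inf_le_left)
    hB2 hBcomm hBM (hfixM ▸ hM₀2)
  -- `C_B(M) = C_B(W)`
  set B₀ := B ⊓ centralizer (M : Set G) with hB₀
  have hB₀W : B₀ ≤ centralizer (W : Set G) := by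
    set M' := M.map (MulAut.conj y).toMonoidHom with hM'
    have hM'W : M' ≤ W := by rintro _ ⟨v, hv, rfl⟩; exact hyW v hv.1
    have hMc : ∀ b ∈ B₀, b ∈ centralizer (M' : Set G) := by
      rintro b ⟨hb, hbM⟩ _ ⟨v, hv, rfl⟩
      show y * v * y⁻¹ * b = b * (y * v * y⁻¹)
      refine (mul_inv_eq_iff_eq_mul.mp ?_).symm
      calc b * (y * v * y⁻¹) * b⁻¹
          = b * y * b⁻¹ * y⁻¹ * (y * (b * v * b⁻¹) * y⁻¹) * (b * y * b⁻¹ * y⁻¹)⁻¹ := by group
        _ = y * v * y⁻¹ := by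
            rw [show b * v * b⁻¹ = v from mul_inv_eq_iff_eq_mul.mpr (hbM v hv).symm,
              hcz _ (hBy b hb) _ (hyZ _ (hWZ hv.1))]
    have hMM' : M ⊔ M' = W := by
      refine eq_of_le_of_card_ge (sup_le inf_le_left hM'W) ?_
      have hdis : M ⊓ M' ≤ ⊥ := by
        rintro _ ⟨hm, v, hv, rfl⟩
        by_contra hne
        change y * v * y⁻¹ ∈ M at hm
        have hv' : a * v * a⁻¹ = v :=
          mul_inv_eq_iff_eq_mul.mpr (mem_centralizer_singleton_iff.mp hv.2).symm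
        have hm' : a * (y * v * y⁻¹) * a⁻¹ = y * v * y⁻¹ :=
          mul_inv_eq_iff_eq_mul.mpr (mem_centralizer_singleton_iff.mp hm.2).symm
        have hvZ : v ∈ Z := hWZ hv.1
        have hyn : y⁻¹ * v * y ∈ Z := (mem_normalizer_iff''.mp h.norm v).mp hvZ
        have e1 : y * v * y⁻¹ = y⁻¹ * v * y := by
          conv_lhs => rw [← hm', show a * (y * v * y⁻¹) * a⁻¹ =
            a * y * a⁻¹ * y * (y⁻¹ * (a * v * a⁻¹) * y) * (a * y * a⁻¹ * y)⁻¹ by group, hv']
          exact hcz _ hay _ hyn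
        have hcy : y * v * y⁻¹ = v := by
          calc y * v * y⁻¹ = y * (y * (y⁻¹ * v * y) * y⁻¹) * y⁻¹ := by group
            _ = y * (y * (y * v * y⁻¹) * y⁻¹) * y⁻¹ := by rw [e1]
            _ = y ^ 3 * v * (y ^ 3)⁻¹ := by simp only [pow_succ, pow_zero, one_mul]; group
            _ = v := hcz _ h.cube v hvZ
        refine hne (mem_bot.mpr ?_)
        show y * v * y⁻¹ = 1
        rw [hcy]
        exact h.eq_one hv.1 (mul_inv_eq_iff_eq_mul.mp hcy).symm
      have hnM : M ≤ normalizer (M' : Set G) := fun m hm =>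
        Subgroup.centralizer_le_normalizer _ fun v hv =>
          PGroup.mul_comm_of_elementaryAbelian hWe (hM'W hv) hm.1
      have e' := Offender.card_sup_mul_card_inf hnM
      rw [le_bot_iff.mp hdis, Subgroup.card_bot, mul_one, hM',
        card_map_of_injective (MulAut.conj y).injective, ← sq] at e'
      rw [hsqW, e']
    rw [← hMM', Offender.centralizer_sup_eq]
    exact le_inf inf_le_right hMc
  have hBW : IsElementaryAbelian 2 (B₀ ⊔ W) :=
    PGroup.isElementaryAbelian_sup (PGroup.isElementaryAbelian_mono hA.2.1 (inf_le_left.trans hBA))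
      hWe fun b hb w hw => ((hB₀W hb) w hw).symm
  have hBWL : Nat.card ↥(B₀ ⊔ W) ≤ Nat.card A :=
    hA.2.2 _ (sup_le ((inf_le_left.trans hBA).trans hA.1) (hWZ.trans hZL)) hBW
  have hn' : B₀ ≤ normalizer (W : Set G) := hB₀W.trans (Subgroup.centralizer_le_normalizer _)
  have e2 := Offender.card_sup_mul_card_inf hn'
  have hinf : Nat.card ↥(B₀ ⊓ W) ≤ 2 := by
    rw [← hM₀2]
    refine card_le_of_le ?_
    rw [hM₀, ← hAinf W]
    exact fun x hx => ⟨⟨hx.2, fun b hb => (hBcomm b hb x hx.1.1).eq⟩,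
      mem_centralizer_singleton_iff.mpr (haB x hx.1.1).eq.symm⟩
  have h3 : Nat.card B₀ * Nat.card W ≤ 2 * Nat.card B * 2 :=
    e2 ▸ Nat.mul_le_mul (hBWL.trans hcard2) hinf
  have hB₀pos : 0 < Nat.card B₀ := Nat.card_pos
  have hM' : 3 ≤ Nat.card M := by nlinarith
  rw [hsqW] at h3
  nlinarith

end Cfsg.Agent.JComponent
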