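import Cfsg.Agent.Lib.JComponent.Vertex

/-!
# Two vertices over the same `T`

`Edge T L₁ K₁ L₂ K₂`: two vertices with different maximal 2-local subgroups.
`Edge.noNormal`: if `V₁` and `V₂` commute then no odd fixed-point-free element of the second vertex
normalizes `V₁V₂`.
-/

set_option autoImplicit false
set_option synthInstance.maxSize 512

namespace Cfsg.Agent.JComponent

open Subgroup LocalStructure
open scoped commutatorElement

universe u

variable {G : Type u} [Group G] [Finite G]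

/-- Every 2-element lies in `O₂`. -/
def TwoClosed (X : Subgroup G) : Prop :=
  ∀ g ∈ X, ∀ k : ℕ, g ^ 2 ^ k = 1 → g ∈ pCoreOf 2 X

/-- Centralizers of the involutions of `Z₀` are 2-closed or come from a vertex. -/
def Cover (T : Subgroup G) : Prop :=
  ∀ x ∈ omegaCenterOf T, x ≠ 1 →
    TwoClosed (centralizer ({x} : Set G)) ∨ ∃ L K, Vtx T L K ∧ x ∈ hOf T K

theorem TwoClosed.map_conj {X : Subgroup G} (h : TwoClosed X) (g : G) :
    TwoClosed (X.map (MulAut.conj g).toMonoidHom) := by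
  have : Fact (Nat.Prime 2) := ⟨Nat.prime_two⟩
  rintro _ ⟨a, ha, rfl⟩ k hk
  replace hk : a ^ 2 ^ k = 1 := (MulAut.conj g).injective (by simpa using hk)
  rw [pCoreOf_map_conj]
  exact ⟨a, h a ha k hk, rfl⟩

theorem map_centralizer_singleton (g x : G) :
    (centralizer ({x} : Set G)).map (MulAut.conj g).toMonoidHom =
      centralizer ({g * x * g⁻¹} : Set G) := by
  ext a
  rw [mem_map_equiv, mem_centralizer_singleton_iff, mem_centralizer_singleton_iff]
  constructor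
  · intro h
    have := congrArg (MulAut.conj g) h
    simpa [mul_assoc] using this
  · intro h
    have := congrArg (MulAut.conj g).symm h
    simpa [mul_assoc] using this

theorem Cover.map_conj {T : Subgroup G} (h : Cover T) (g : G) :
    Cover (T.map (MulAut.conj g).toMonoidHom) := by
  intro x hx hx1
  rw [← omegaCenterOf_map_conj] at hx
  obtain ⟨z, hz, rfl⟩ := hx
  rcases h z hz (fun e => hx1 (by rw [e]; exact map_one _)) with h2 | ⟨L, K, v, hzK⟩
  · left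
    show TwoClosed (centralizer ({g * z * g⁻¹} : Set G))
    rw [← map_centralizer_singleton]
    exact h2.map_conj g
  · right
    exact ⟨_, _, v.map_conj g, by rw [hOf_map_conj]; exact ⟨z, hzK, rfl⟩⟩

/-- Two vertices over `T`. -/
structure Edge (T L₁ K₁ L₂ K₂ : Subgroup G) : Prop where
  left : Vtx T L₁ K₁
  right : Vtx T L₂ K₂
  ne : L₁ ≠ L₂
  cover : Cover T

theorem not_rotation {W : Subgroup G} (hW4 : Nat.card W = 4) {a y g : G}
    (ha : a ∈ normalizer (W : Set G)) (hac : a ∉ centralizer (W : Set G))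
    (ha2 : a ^ 2 ∈ centralizer (W : Set G)) (hy : Fpf W y)
    (hg : g = y * a * y⁻¹ * a⁻¹) {k : ℕ} (hk : g ^ 2 ^ k = 1) : False := by
  obtain ⟨ρ, hρ, hfix⟩ := exists_perm hW4
  have hgW : g ∈ normalizer (W : Set G) :=
    hg ▸ mul_mem (mul_mem (mul_mem hy.1 ha) (inv_mem hy.1)) (inv_mem ha)
  have h0 := sq_mem_of_two_pow hW4 hgW (k := k) (by rw [hk]; exact one_mem _)
  subst hg
  set a' : ↥(normalizer (W : Set G)) := ⟨a, ha⟩
  set y' : ↥(normalizer (W : Set G)) := ⟨y, hy.1⟩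
  have h1 : ρ ((y' * a' * y'⁻¹ * a'⁻¹) ^ 2) = 1 := (hρ _).mpr h0
  have h2 : ρ (a' ^ 2) = 1 := (hρ _).mpr ha2
  have h3 : ρ a' ≠ 1 := fun h => hac ((hρ a').mp h)
  have hno : ∀ i, ρ y' i ≠ i := fun i hi => by
    obtain ⟨w, hw, hw1, hc⟩ := (hfix y').mp ⟨i, hi⟩
    exact hw1 (hy.2 w hw hc.symm)
  simp only [map_pow, map_mul, map_inv] at h1 h2
  generalize ρ a' = σ at h1 h2 h3
  generalize ρ y' = τ at h1 hno
  revert σ τ; decide +kernel

theorem fpf_pair {W : Subgroup G} (hW4 : Nat.card W = 4) {x y : G} (hx : Fpf W x) (hy : Fpf W y) :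
    x * y⁻¹ ∈ centralizer (W : Set G) ∨ x * y ∈ centralizer (W : Set G) := by
  obtain ⟨ρ, hρ, hfix⟩ := exists_perm hW4
  set x' : ↥(normalizer (W : Set G)) := ⟨x, hx.1⟩
  set y' : ↥(normalizer (W : Set G)) := ⟨y, hy.1⟩
  have hnx : ∀ i, ρ x' i ≠ i := fun i hi => by
    obtain ⟨w, hw, hw1, hc⟩ := (hfix x').mp ⟨i, hi⟩
    exact hw1 (hx.2 w hw hc.symm)
  have hny : ∀ i, ρ y' i ≠ i := fun i hi => by
    obtain ⟨w, hw, hw1, hc⟩ := (hfix y').mp ⟨i, hi⟩
    exact hw1 (hy.2 w hw hc.symm)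
  refine (?_ : ρ (x' * y'⁻¹) = 1 ∨ ρ (x' * y') = 1).imp (hρ _).mp (hρ _).mp
  simp only [map_mul, map_inv]
  generalize ρ x' = σ at hnx
  generalize ρ y' = τ at hny
  revert σ τ; decide +kernel

omit [Finite G] in
theorem mem_of_three {W : Subgroup G} (hW4 : Nat.card W = 4) {w y : G} (hw : w ∈ W) (hw1 : w ≠ 1)
    (hy : Fpf W y) {l : G} (hl : l ∈ W) (hl1 : l ≠ 1) :
    ∃ i : ℕ, y ^ i * w * (y ^ i)⁻¹ = l := by
  have : Finite W := Nat.finite_of_card_ne_zero (by omega)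
  set a := y * w * y⁻¹ with hadef
  set b := y * a * y⁻¹ with hbdef
  have hne : ∀ x ∈ W, x ≠ 1 → y * x * y⁻¹ ≠ x := fun x hx hx1 h =>
    hx1 (hy.2 x hx (mul_inv_eq_iff_eq_mul.mp h).symm)
  have ha : a ∈ W := (mem_normalizer_iff.mp hy.1 w).mp hw
  have hb : b ∈ W := (mem_normalizer_iff.mp hy.1 a).mp ha
  have ha1 : a ≠ 1 := fun h => hw1 (conj_eq_one_iff.mp h)
  have hb1 : b ≠ 1 := fun h => ha1 (conj_eq_one_iff.mp h)
  have hab : b ≠ a := hne a ha ha1
  have haw : a ≠ w := hne w hw hw1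
  have hbw : b ≠ w := by
    intro h
    obtain ⟨ρ, hρ, hfix⟩ := exists_perm hW4
    set y' : ↥(normalizer (W : Set G)) := ⟨y, hy.1⟩
    obtain ⟨i, hi⟩ := (hfix (y' ^ 2)).mpr ⟨w, hw, hw1, by
      show y ^ 2 * w = w * y ^ 2
      refine mul_inv_eq_iff_eq_mul.mp ?_
      conv_rhs => rw [← h]
      rw [hbdef, hadef, sq]; group⟩
    have hno : ∀ i, ρ y' i ≠ i := fun j hj => by
      obtain ⟨x, hx, hx1, hc⟩ := (hfix y').mp ⟨j, hj⟩
      exact hx1 (hy.2 x hx hc.symm)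
    rw [map_pow] at hi
    generalize ρ y' = τ at hi hno
    revert τ i; decide +kernel
  have hs : ({1, w, a, b} : Set G) ⊆ (W : Set G) := by
    intro x hx
    rcases hx with rfl | rfl | rfl | rfl
    exacts [one_mem W, hw, ha, hb]
  have hc : ({1, w, a, b} : Set G).ncard = 4 := by
    rw [Set.ncard_insert_of_notMem, Set.ncard_insert_of_notMem, Set.ncard_pair hab.symm]
    · simp only [Set.mem_insert_iff, Set.mem_singleton_iff, not_or]
      exact ⟨haw.symm, hbw.symm⟩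
    · simp only [Set.mem_insert_iff, Set.mem_singleton_iff, not_or]
      exact ⟨hw1.symm, ha1.symm, hb1.symm⟩
  have e := Set.eq_of_subset_of_ncard_le hs (by
    rw [← Nat.card_coe_set_eq, SetLike.coe_sort_coe, hW4, hc]) (Set.toFinite _)
  rcases (e.ge hl : l ∈ ({1, w, a, b} : Set G)) with rfl | rfl | rfl | rfl
  · exact absurd rfl hl1
  · exact ⟨0, by simp⟩
  · exact ⟨1, by rw [hadef, pow_one]⟩
  · exact ⟨2, by rw [hbdef, hadef, sq]; group⟩

section VtxMore

variable {T L K : Subgroup G} (v : Vtx T L K)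
include v

theorem Vtx.mem_cOf {g : G} (hG : ZN G) (hg : g ∈ pOf T K)
    (hW : g ∈ centralizer (wOf K : Set G)) : g ∈ cOf (pOf T K) := by
  refine ⟨hg, fun x hx => ?_⟩
  obtain ⟨w, hw, f, hf, rfl⟩ := (v.mem_v hG).mp hx
  exact ((show Commute w g from hW w hw).mul_left (hg.2 f hf)).eq

/-- Components in `N(W) ∩ C(H)` agree. -/
theorem Vtx.comp_le_comp (hG : ZN G) {A B : Subgroup G} (hA : IsJComponent T A)
    (hB : IsJComponent T B) (hAP : A ≤ pOf T K) (hBP : B ≤ pOf T K) : A ≤ B := by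
  set P := pOf T K with hP
  have hs := v.setting hG
  obtain ⟨a₁, -, a₃, a₄⟩ := hs.comp_facts hA hAP
  obtain ⟨b₁, -, -, b₄⟩ := hs.comp_facts hB hBP
  obtain ⟨y, hy, -, hyO⟩ := (IsJComponent.pre hB).exists_three
  have hpy := (b₄ y hy hyO).2
  have hWB : wOf B = wOf K := v.plane_unique hs v.k_le_p inf_le_right hpy
  have hQB : pCoreOf 2 P ≤ normalizer (B : Set G) := hs.pCore_le_normalizer hB hBP
  have hsub : ∀ k ∈ A, ∃ b ∈ B, ∃ c ∈ cOf P, k = b * c := by
    intro k hk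
    by_cases hkO : k ∈ pCoreOf 2 A
    · exact ⟨1, one_mem _, k, pCoreOf_le_cOf P (a₃ hkO), (one_mul k).symm⟩
    have hpk := (a₄ k hk hkO).2
    have hWA : wOf A = wOf K := v.plane_unique hs v.k_le_p inf_le_right hpk
    have hfk := hWA ▸ hpk.fpf
    have hfy := hWB ▸ hpy.fpf
    have hyP : y ∈ P := hBP hy
    rcases fpf_pair v.w4 hfk hfy with e | e
    · refine ⟨y, hy, y⁻¹ * k, ?_, (mul_inv_cancel_left y k).symm⟩
      have := (mem_normalizer_iff''.mp (le_normalizer_cOf P hyP) _).mp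
        (v.mem_cOf hG (mul_mem (hAP hk) (inv_mem hyP)) e)
      simpa [mul_assoc] using this
    · refine ⟨y⁻¹, inv_mem hy, y * k, ?_, (inv_mul_cancel_left y k).symm⟩
      have := (mem_normalizer_iff.mp (le_normalizer_cOf P hyP) _).mp
        (v.mem_cOf hG (mul_mem (hAP hk) hyP) e)
      simpa [mul_assoc] using this
  have hle : A ≤ B ⊔ pCoreOf 2 P := by
    conv_lhs => rw [← show ⁅A, jOf T⁆ = A from hA.2.1]
    refine commutator_le.mpr fun k hk j hj => ?_
    obtain ⟨b, hb, c, hc, rfl⟩ := hsub k hk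
    rw [show ⁅b * c, j⁆ = b * ⁅c, j⁆ * b⁻¹ * ⁅b, j⁆ by simp only [commutatorElement_def]; group]
    refine mul_mem (mul_mem (mul_mem (mem_sup_left hb)
      (mem_sup_right (hs.cOf_comm_jOf hc (hs.j_le_jOf hj)))) (inv_mem (mem_sup_left hb)))
      (mem_sup_left ?_)
    exact hB.2.1.le (commutator_mem_commutator hb hj)
  conv_lhs => rw [← (IsJComponent.pre hA).gen]
  rw [closure_le]
  rintro g ⟨hg, ho⟩
  exact odd_mem_of_sup (isPGroup_pCoreOf 2 P) hQB (hle hg) ho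

/-- Two conjugate transvections with different fixed lines give a fixed-point-free element. -/
theorem Vtx.fpf_of_moving {t q : G} (ht : t ∈ T) (htc : t ∉ centralizer (wOf K : Set G))
    (hq : q ∈ pOf T K) (hmove : ∃ l ∈ lineOf T K, q * l * q⁻¹ ∉ lineOf T K) :
    Fpf (wOf K) (t * (q * t * q⁻¹)) := by
  obtain ⟨l, hl, hql⟩ := hmove
  have hqW : q ∈ normalizer (wOf K : Set G) := hq.1
  have hnC : q ∈ normalizer (centralizer (wOf K : Set G) : Set G) :=
    le_normalizer_centralizer le_rfl hqW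
  have htW := v.t_normW ht
  refine fpf_mul v.w4 htW (mul_mem (mul_mem hqW htW) (inv_mem hqW)) htc
    (fun h => htc ((mem_normalizer_iff.mp hnC t).mpr h)) (v.sq_mem ht) ?_ ?_
  · rw [conj_pow]
    exact (mem_normalizer_iff.mp hnC _).mp (v.sq_mem ht)
  · intro h
    refine hql ?_
    have hqlW : q * l * q⁻¹ ∈ wOf K := (mem_normalizer_iff.mp hqW l).mp hl.2
    have h1 : Commute (q * l * q⁻¹) (q * t * q⁻¹) :=
      (v.t_comm_z ht hl.1).symm.map (MulAut.conj q).toMonoidHom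
    have h2 : Commute (q * l * q⁻¹) (t⁻¹ * (q * t * q⁻¹)) := h _ hqlW
    have h3 : Commute (q * l * q⁻¹) t := by
      have := h1.mul_right h2.inv_right
      rwa [mul_inv_rev, inv_inv, mul_inv_cancel_left] at this
    have hsub : lineOf T K ≤ wOf K ⊓ centralizer ({t} : Set G) := fun z hz =>
      ⟨hz.2, mem_centralizer_singleton_iff.mpr (v.t_comm_z ht hz.1).symm.eq⟩
    have e := eq_of_le_of_card_ge hsub (by rw [v.line_card]; exact card_fix_le v.w4 htc)
    exact e.ge ⟨hqlW, mem_centralizer_singleton_iff.mpr h3.eq⟩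

/-- An element of `P` moving the line cannot keep `T` inside a maximal 2-local subgroup other
than `L`. -/
theorem Vtx.not_conj_le (hG : ZN G) {X : Subgroup G} (hX : IsMaximalTwoLocal X) (hTX : T ≤ X)
    (hne : X ≠ L) {q : G} (hq : q ∈ pOf T K)
    (hmove : ∃ l ∈ lineOf T K, q * l * q⁻¹ ∉ lineOf T K) :
    ¬ T.map (MulAut.conj q).toMonoidHom ≤ X := by
  have : Fact (Nat.Prime 2) := ⟨Nat.prime_two⟩
  intro hTqX
  obtain ⟨t, ht, htc⟩ := v.exists_moving
  set t' := q * t * q⁻¹ with ht'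
  have ht'T : t' ∈ T.map (MulAut.conj q).toMonoidHom := ⟨t, ht, rfl⟩
  have hf : Fpf (wOf K) (t * t') := v.fpf_of_moving ht htc hq hmove
  set P := pOf T K with hP
  set Q₁ := P ⊓ X with hQ₁
  have hTQ : T ≤ Q₁ := le_inf v.t_le_p hTX
  have hgQ : t * t' ∈ Q₁ := ⟨P.mul_mem (v.t_le_p ht)
    (P.mul_mem (P.mul_mem hq (v.t_le_p ht)) (P.inv_mem hq)), X.mul_mem (hTX ht) (hTqX ht'T)⟩
  have hmem : Q₁ ∈ jOvergroups T := by
    refine ⟨v.syl_of_le hTQ (inf_le_left.trans v.p_le), fun hle => ?_, ?_⟩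
    · obtain ⟨S, A, -, -, -, -, hAJ, -, hAW, -⟩ := comp_data v.comp v.syl.2.1
      obtain ⟨j, hj, hjc⟩ := SetLike.not_le_iff_exists.mp hAW
      have hj' : j ∈ pCoreOf 2 Q₁ := hle (hAJ hj)
      have hjW := v.t_normW (PGroup.thompsonSubgroupOf_le T (hAJ hj))
      have hmem : t * t' * j * (t * t')⁻¹ * j⁻¹ ∈ pCoreOf 2 Q₁ :=
        mul_mem ((mem_normalizer_iff.mp (le_normalizer_pCoreOf 2 Q₁ hgQ) j).mp hj') (inv_mem hj')
      obtain ⟨k, hk⟩ := isPGroup_pCoreOf 2 Q₁ ⟨_, hmem⟩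
      exact not_rotation v.w4 hjW hjc (v.sq_mem (PGroup.thompsonSubgroupOf_le T (hAJ hj))) hf rfl
        (k := k) (by simpa using congrArg Subtype.val hk)
    · have hQ : pCoreOf 2 P ≤ pCoreOf 2 Q₁ :=
        le_pCoreOf (((v.setting hG).pCore_le).trans hTQ)
          (inf_le_left.trans (le_normalizer_pCoreOf 2 P)) (isPGroup_pCoreOf 2 P)
      exact (centralizer_le (SetLike.coe_subset_coe.mpr hQ)).trans ((v.setting hG).cen.trans hQ)
  have hs := setting_of_mem hG.solv hG.zprop hmem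
  obtain ⟨x, W', hx⟩ := hs.exists_planeIn
  obtain ⟨K', hK', hK'Q, -⟩ := hs.exists_component hx
  have hKX : K ≤ X := (v.comp_le_comp hG v.comp hK' v.k_le_p (hK'Q.trans inf_le_left)).trans
    (hK'Q.trans inf_le_right)
  exact hne (hX.2 L v.max.1
    (v.uniq X hX.1 (sup_le hKX ((PGroup.thompsonSubgroupOf_le T).trans hTX)))).symm

end VtxMore

section EdgeSec

variable {T L₁ K₁ L₂ K₂ : Subgroup G} (e : Edge T L₁ K₁ L₂ K₂)
include e

theorem Edge.symm : Edge T L₂ K₂ L₁ K₁ := ⟨e.right, e.left, e.ne.symm, e.cover⟩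

theorem Edge.map_conj (g : G) : Edge (T.map (MulAut.conj g).toMonoidHom)
    (L₁.map (MulAut.conj g).toMonoidHom) (K₁.map (MulAut.conj g).toMonoidHom)
    (L₂.map (MulAut.conj g).toMonoidHom) (K₂.map (MulAut.conj g).toMonoidHom) :=
  ⟨e.left.map_conj g, e.right.map_conj g,
    fun h => e.ne (map_injective (MulAut.conj g).injective h), e.cover.map_conj g⟩

/-- No 2-local subgroup contains both components and `J(T)`. -/
theorem Edge.no_local {X : Subgroup G} (hX : IsTwoLocal X) (h1 : K₁ ≤ X) (h2 : K₂ ≤ X)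
    (hJ : jOf T ≤ X) : False := by
  have hXL := e.left.uniq X hX (sup_le h1 hJ)
  have h3 := e.right.uniq L₁ e.left.max.1 (sup_le (h2.trans hXL) (hJ.trans hXL))
  exact e.ne (e.left.max.2 L₂ e.right.max.1 h3).symm

theorem Edge.h_inf : hOf T K₁ ⊓ hOf T K₂ = ⊥ := by
  refine (eq_bot_iff_forall _).mpr fun x hx => by_contra fun hx1 => ?_
  have ho : orderOf x = 2 :=
    orderOf_eq_prime ((isElementaryAbelian_omegaCenterOf T).2 x hx.1.1) hx1
  exact e.no_local (isTwoLocal_centralizer ho)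
    (fun k hk => mem_centralizer_singleton_iff.mpr (hx.1.2 k hk))
    (fun k hk => mem_centralizer_singleton_iff.mpr (hx.2.2 k hk))
    (fun j hj => mem_centralizer_singleton_iff.mpr
      (e.left.t_comm_z (PGroup.thompsonSubgroupOf_le T hj) hx.1.1).eq)

theorem Edge.core_ne (hG : ZN G) : pCoreOf 2 (pOf T K₁) ≠ pCoreOf 2 (pOf T K₂) := by
  intro he
  have hne : pCoreOf 2 (pOf T K₁) ≠ ⊥ := fun h0 => by
    have h1 := (e.left.w_le_v hG).trans (vOf_le _)
    rw [h0, le_bot_iff] at h1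
    have := e.left.w4
    rw [h1, Subgroup.card_bot] at this
    omega
  refine e.no_local (X := normalizer (pCoreOf 2 (pOf T K₁) : Set G))
    ⟨_, isPGroup_pCoreOf 2 _, hne, rfl⟩ (e.left.k_le_p.trans (le_normalizer_pCoreOf 2 _)) ?_
    ((PGroup.thompsonSubgroupOf_le T).trans
      (e.left.t_le_p.trans (le_normalizer_pCoreOf 2 _)))
  rw [he]
  exact e.right.k_le_p.trans (le_normalizer_pCoreOf 2 _)

theorem Edge.core_not_le (hG : ZN G) :
    ¬ pCoreOf 2 (pOf T K₁) ≤ pCoreOf 2 (pOf T K₂) := fun hle => by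
  refine e.core_ne hG (eq_of_le_of_card_ge hle ?_)
  have := e.left.card_t hG
  have := e.right.card_t hG
  omega

theorem Edge.v_inf (hG : ZN G) :
    vOf (pOf T K₁) ⊓ vOf (pOf T K₂) = omegaCenterOf T := by
  refine le_antisymm ?_ (le_inf (e.left.z_le_v hG) (e.right.z_le_v hG))
  intro x hx
  by_contra hxz
  set I := vOf (pOf T K₁) ⊓ vOf (pOf T K₂)
  have hlt : omegaCenterOf T < I := lt_of_le_of_ne (le_inf (e.left.z_le_v hG) (e.right.z_le_v hG))
    fun h => hxz (h.ge hx)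
  have h1 : Nat.card ↥(omegaCenterOf T) < Nat.card I := by
    have := (Set.toFinite (I : Set G)).card_lt_card (SetLike.coe_ssubset_coe.mpr hlt)
    exact this
  have hd : Nat.card I ∣ Nat.card ↥(vOf (pOf T K₁)) := card_dvd_of_le inf_le_left
  have hd' : Nat.card ↥(omegaCenterOf T) ∣ Nat.card I := card_dvd_of_le hlt.le
  obtain ⟨c, hc⟩ := hd'
  have hv1 := e.left.v_card hG
  have hv2 := e.right.v_card hG
  have hc2 : 2 ≤ c := by
    by_contra h
    interval_cases c <;> omega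
  have h2 : Nat.card ↥(vOf (pOf T K₁)) ≤ Nat.card I := by
    rw [hv1, hc, mul_comm]
    exact Nat.mul_le_mul_left _ hc2
  have e1 := eq_of_le_of_card_ge (inf_le_left : I ≤ vOf (pOf T K₁)) h2
  have e2 := eq_of_le_of_card_ge (inf_le_right : I ≤ vOf (pOf T K₂)) (by rw [hv2, ← hv1]; exact h2)
  have e3 : vOf (pOf T K₁) = vOf (pOf T K₂) := e1.symm.trans e2
  refine e.core_not_le hG fun r hr => ?_
  refine (e.right.mem_core_iff hG ((e.left.setting hG).pCore_le hr)).mpr fun w hw => ?_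
  exact ((e.left.core_comm hr (e3.ge (e.right.w_le_v hG hw))).symm).eq

/-- No odd fixed-point-free element of the second vertex normalizes `V₁V₂`. -/
theorem Edge.noNormal (hG : ZN G)
    (hcomm : ∀ x ∈ vOf (pOf T K₁), ∀ x' ∈ vOf (pOf T K₂), Commute x x')
    {y : G} (hy : y ∈ pOf T K₂) (ho : Odd (orderOf y)) (hfy : Fpf (wOf K₂) y)
    (hyE : y ∈ normalizer ((vOf (pOf T K₁) ⊔ vOf (pOf T K₂) : Subgroup G) : Set G)) : False := by
  have : Fact (Nat.Prime 2) := ⟨Nat.prime_two⟩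
  have v₁ := e.left
  have v₂ := e.right
  set P₁ := pOf T K₁ with hP₁
  set P₂ := pOf T K₂ with hP₂
  set V₁ := vOf P₁ with hV₁
  set V₂ := vOf P₂ with hV₂
  set Z := omegaCenterOf T with hZ
  have hV₁e : IsElementaryAbelian 2 V₁ := isElementaryAbelian_omegaCenterOf _
  have hV₂e : IsElementaryAbelian 2 V₂ := isElementaryAbelian_omegaCenterOf _
  have hVV : V₁ ≤ normalizer (V₂ : Set G) := fun a ha =>
    Subgroup.centralizer_le_normalizer _ fun b hb => (hcomm a ha b hb).symm.eq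
  -- `v` generates `V₁` over `Z₀`
  obtain ⟨v, hvV, hvZ⟩ : ∃ v ∈ V₁, v ∉ Z := SetLike.not_le_iff_exists.mp fun h => by
    have h1 := card_le_of_le h
    have h2 : Nat.card ↥V₁ = 2 * Nat.card ↥Z := v₁.v_card hG
    have h3 : 0 < Nat.card ↥Z := Nat.card_pos
    omega
  have hvV₂ : v ∉ V₂ := fun h => hvZ ((e.v_inf hG).le ⟨hvV, h⟩)
  have hidx : (Z.subgroupOf V₁).index = 2 := by
    have h1 := relIndex_mul_relIndex ⊥ Z V₁ bot_le (v₁.z_le_v hG)
    rw [relIndex_bot_left, relIndex_bot_left, v₁.v_card hG] at h1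
    show Z.relIndex V₁ = 2
    exact Nat.eq_of_mul_eq_mul_left (Nat.card_pos (α := Z)) (by rw [h1, mul_comm])
  have hsplit : ∀ x ∈ V₁ ⊔ V₂, x ∈ V₂ ∨ v⁻¹ * x ∈ V₂ := by
    intro x hx
    obtain ⟨p, hp, p', hp', rfl⟩ := (Coprime.mem_sup_iff_of_le_normalizer hVV).mp hx
    by_cases hpZ : p ∈ Z
    · exact Or.inl (mul_mem (v₂.z_le_v hG hpZ) hp')
    · right
      rw [← mul_assoc]
      refine mul_mem (v₂.z_le_v hG ?_) hp'
      exact mem_subgroupOf.mp ((Subgroup.mul_mem_iff_of_index_two hidx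
        (a := ⟨v⁻¹, inv_mem hvV⟩) (b := ⟨p, hp⟩)).mpr
        (iff_of_false (fun h => hvZ (inv_mem_iff.mp (mem_subgroupOf.mp h)))
          fun h => hpZ (mem_subgroupOf.mp h)))
  have hyV₂ := le_normalizer_vOf P₂ hy
  obtain ⟨w, hw, f, hf, hwf⟩ : ∃ w ∈ wOf K₂, ∃ f ∈ hOf T K₂, ⁅v, y⁆ = w * f := by
    refine (v₂.mem_v hG).mp ?_
    rcases hsplit _ ((mem_normalizer_iff.mp hyE v).mp (mem_sup_left hvV)) with h | h
    · exact absurd ((mem_normalizer_iff.mp hyV₂ v).mpr h) hvV₂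
    · rw [show ⁅v, y⁆ = v * (v⁻¹ * (y * v * y⁻¹))⁻¹ * v⁻¹ by rw [commutatorElement_def]; group]
      have := (mem_normalizer_iff.mp (hVV hvV) _).mp (inv_mem h)
      exact this
  -- an element `c ∈ v V₂` commuting with `y`
  obtain ⟨u, hu, huw⟩ : ∃ u ∈ wOf K₂, ⁅u, y⁆ = w := by
    let φ : wOf K₂ → wOf K₂ := fun z => ⟨⁅(z : G), y⁆, v₂.comm_mem hG hy (v₂.w_le_v hG z.2)⟩
    have hinj : Function.Injective φ := by
      intro p q h
      have h' : ⁅(p : G), y⁆ = ⁅(q : G), y⁆ := congrArg Subtype.val h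
      have h1 : Commute ((q : G)⁻¹ * p) y := by
        rw [commutatorElement_def, commutatorElement_def] at h'
        have e'' := congrArg (fun s => (q : G)⁻¹ * s * y * p) h'
        show (q : G)⁻¹ * p * y = y * ((q : G)⁻¹ * p)
        simpa [mul_assoc] using e''
      exact Subtype.ext (inv_mul_eq_one.mp (hfy.2 _ (mul_mem (inv_mem q.2) p.2) h1)).symm
    obtain ⟨z, hz⟩ := (Finite.injective_iff_surjective.mp hinj) ⟨w, hw⟩
    exact ⟨z, z.2, congrArg Subtype.val hz⟩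
  have huV : u ∈ V₂ := v₂.w_le_v hG hu
  set c := u⁻¹ * v with hc
  have hcy1 : c * y * c⁻¹ = f * y := by
    have hfu : Commute f u :=
      PGroup.mul_comm_of_elementaryAbelian hV₂e (v₂.z_le_v hG hf.1) huV
    have hfy' : Commute f y := hy.2 f hf
    have h2 : f * (y * u * y⁻¹) = (y * u * y⁻¹) * f := by
      exact ((hfy'.mul_right hfu).mul_right hfy'.inv_right).eq
    calc c * y * c⁻¹ = u⁻¹ * ⁅v, y⁆ * (y * u * y⁻¹) * y := by
          rw [hc, commutatorElement_def]; group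
      _ = u⁻¹ * w * (f * (y * u * y⁻¹)) * y := by rw [hwf]; group
      _ = u⁻¹ * w * ((y * u * y⁻¹) * f) * y := by rw [h2]
      _ = f * y := by rw [← huw, commutatorElement_def]; group
  have hf1 : f = 1 := by
    have hfy' : Commute f y := hy.2 f hf
    have h2 : ∀ n : ℕ, c * y ^ n * c⁻¹ = f ^ n * y ^ n := fun n => by
      rw [← hfy'.mul_pow, ← hcy1, conj_pow]
    have h3 := h2 (orderOf y)
    rw [pow_orderOf_eq_one, mul_one, mul_inv_cancel, mul_one] at h3
    obtain ⟨j, hj⟩ := ho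
    rw [hj, pow_succ, pow_mul, (isElementaryAbelian_omegaCenterOf T).2 f hf.1, one_pow,
      one_mul] at h3
    exact h3.symm
  have hcy : Commute c y := mul_inv_eq_iff_eq_mul.mp (by rw [hcy1, hf1, one_mul])
  -- `[c, O₂P₂] ≤ H₂`
  set l₁ := lineOf T K₁
  have hl₁ : l₁ ≤ hOf T K₂ ∧ ∀ s ∈ pCoreOf 2 P₂, ⁅c, s⁆ ∈ l₁ := by
    have hbr : ∀ s ∈ pCoreOf 2 P₂, ⁅c, s⁆ ∈ l₁ := fun s hs => by
      have hus : Commute u s := (v₂.core_comm hs huV).symm
      have hm := v₁.comm_line hG ((v₂.setting hG).pCore_le hs) hvV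
      have e1 : ⁅c, s⁆ = u⁻¹ * ⁅v, s⁆ * (s * u * s⁻¹) := by
        rw [hc, commutatorElement_def, commutatorElement_def]
        group
      have e2 : s * u * s⁻¹ = u := mul_inv_eq_iff_eq_mul.mpr hus.symm.eq
      have e3 : ⁅v, s⁆ * u = u * ⁅v, s⁆ :=
        PGroup.mul_comm_of_elementaryAbelian hV₂e (v₂.z_le_v hG hm.1) huV
      rw [e1, e2, mul_assoc, e3, inv_mul_cancel_left]
      exact hm
    refine ⟨fun z hz => ?_, hbr⟩
    obtain ⟨s, hs, hsv⟩ : ∃ s ∈ pCoreOf 2 P₂, ⁅c, s⁆ ≠ 1 := by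
      by_contra hcon
      push Not at hcon
      refine e.symm.core_not_le hG fun r hr => ?_
      have hrT := (v₂.setting hG).pCore_le hr
      refine (v₁.setting hG).inf_cOf_le ⟨hrT, v₁.t_le_p hrT, fun x hx => ?_⟩
      have h1 : Commute v r := by
        have hcr : Commute c r := commutatorElement_eq_one_iff_mul_comm.mp (hcon r hr)
        have := (v₂.core_comm hr huV).symm.mul_left hcr
        rwa [hc, mul_inv_cancel_left] at this
      by_cases hxZ : x ∈ Z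
      · exact (v₁.t_comm_z hrT hxZ).symm.eq
      · have hmem : v⁻¹ * x ∈ Z := mem_subgroupOf.mp ((Subgroup.mul_mem_iff_of_index_two hidx
          (a := ⟨v⁻¹, inv_mem hvV⟩) (b := ⟨x, hx⟩)).mpr
          (iff_of_false (fun h => hvZ (inv_mem_iff.mp (mem_subgroupOf.mp h)))
            fun h => hxZ (mem_subgroupOf.mp h)))
        have := h1.mul_left (v₁.t_comm_z hrT hmem).symm
        rw [mul_inv_cancel_left] at this
        exact this.eq
    set d := ⁅c, s⁆
    have hd : d ∈ l₁ := hbr s hs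
    have hd' : y * d * y⁻¹ ∈ l₁ := by
      have h1 := hbr _ ((mem_normalizer_iff.mp (le_normalizer_pCoreOf 2 P₂ hy) s).mp hs)
      rw [show y * d * y⁻¹ = ⁅c, y * s * y⁻¹⁆ by
        rw [show ⁅c, y * s * y⁻¹⁆ = y * ⁅y⁻¹ * c * y, s⁆ * y⁻¹ by
          simp only [commutatorElement_def]; group,
          show y⁻¹ * c * y = c by rw [mul_assoc, hcy.eq, inv_mul_cancel_left]]]
      exact h1
    obtain ⟨x, -, huniq⟩ := (Nat.card_eq_two_iff' (1 : ↥l₁)).mp v₁.line_card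
    have e1 : (⟨y * d * y⁻¹, hd'⟩ : ↥l₁) = ⟨d, hd⟩ :=
      (huniq _ fun h => hsv (conj_eq_one_iff.mp (congrArg Subtype.val h))).trans
        (huniq _ fun h => hsv (congrArg Subtype.val h)).symm
    have hdH : d ∈ hOf T K₂ := v₂.mem_h hd.1 hy hfy
      (mul_inv_eq_iff_eq_mul.mp (congrArg Subtype.val e1)).symm
    by_cases hz1 : z = 1
    · rw [hz1]; exact one_mem _
    · have e2 : (⟨z, hz⟩ : ↥l₁) = ⟨d, hd⟩ :=
        (huniq _ fun h => hz1 (congrArg Subtype.val h)).trans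
          (huniq _ fun h => hsv (congrArg Subtype.val h)).symm
      exact (show z = d from congrArg Subtype.val e2) ▸ hdH
  -- `O₂P₁` centralizes `c`
  have hR₁c : ∀ r ∈ pCoreOf 2 P₁, Commute c r := by
    intro r hr
    have hrT := (v₁.setting hG).pCore_le hr
    have hrv : Commute v r := (v₁.core_comm hr hvV).symm
    by_cases hr2 : r ∈ centralizer (wOf K₂ : Set G)
    · exact ((show Commute u r from hr2 u hu).inv_left).mul_left hrv
    set d := ⁅u⁻¹, r⁆ with hd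
    have hdl : d ∈ lineOf T K₂ := v₂.comm_line hG hrT (inv_mem huV)
    have hdW : d ∈ wOf K₂ := hdl.2
    have hdV : d ∈ V₂ := v₂.w_le_v hG hdW
    have hrc : r * c * r⁻¹ = d⁻¹ * c := by
      rw [hd, hc, commutatorElement_def,
        show r * (u⁻¹ * v) * r⁻¹ = r * u⁻¹ * (v * r⁻¹) by group, hrv.inv_right.eq]
      group
    have hrP : r ∈ P₂ := v₂.t_le_p hrT
    set y' := r * y * r⁻¹ with hy'
    have hy'P : y' ∈ P₂ := mul_mem (mul_mem hrP hy) (inv_mem hrP)
    have hrW := v₂.t_normW hrT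
    have hinv : y' * y ∈ centralizer (wOf K₂ : Set G) :=
      invert_of_sq v₂.w4 hrW hr2 (v₂.sq_mem hrT) hfy
    set ε := y' * y with hε
    have hεC : ε ∈ cOf P₂ := v₂.mem_cOf hG (mul_mem hy'P hy) hinv
    have hrE : r ∈ normalizer ((V₁ ⊔ V₂ : Subgroup G) : Set G) := by
      refine Subnormal.mem_normalizer_of_cj_le ?_
      rw [Subnormal.cj, map_le_iff_le_comap]
      exact sup_le
        (fun x hx => mem_sup_left
          ((mem_normalizer_iff.mp (le_normalizer_vOf P₁ (v₁.t_le_p hrT)) x).mp hx))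
        (fun x hx => mem_sup_right
          ((mem_normalizer_iff.mp (le_normalizer_vOf P₂ hrP) x).mp hx))
    have hεE : ε ∈ normalizer ((V₁ ⊔ V₂ : Subgroup G) : Set G) :=
      mul_mem (mul_mem (mul_mem hrE hyE) (inv_mem hrE)) hyE
    -- `ε` moves `c` into `c H₂`
    obtain ⟨x, hx, hεc⟩ : ∃ x ∈ hOf T K₂, ε * c * ε⁻¹ = c * x := by
      set x := c⁻¹ * (ε * c * ε⁻¹) with hxdef
      have hxV : x ∈ V₂ := by
        have hεV := le_normalizer_vOf P₂ hεC.1
        have hcE : c ∈ V₁ ⊔ V₂ := mul_mem (mem_sup_right (inv_mem huV)) (mem_sup_left hvV)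
        rcases hsplit _ ((mem_normalizer_iff.mp hεE c).mp hcE) with h | h
        · refine absurd ((mem_normalizer_iff.mp hεV c).mpr h) fun h2 => hvV₂ ?_
          have := mul_mem huV h2
          rwa [hc, mul_inv_cancel_left] at this
        · rw [hxdef, hc, mul_inv_rev, inv_inv]
          have h3 : v⁻¹ * u * v = u := by
            rw [mul_assoc, ← (hcomm v hvV u huV).eq, inv_mul_cancel_left]
          rw [show v⁻¹ * u * (ε * (u⁻¹ * v) * ε⁻¹) =
            (v⁻¹ * u * v) * (v⁻¹ * (ε * (u⁻¹ * v) * ε⁻¹)) by group, h3]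
          exact mul_mem huV h
      have hfix : ε * x * ε⁻¹ = x := (mem_centralizer_iff_conj.mp hεC.2) x hxV
      have hεc' : ε * c * ε⁻¹ = c * x := by rw [hxdef, mul_inv_cancel_left]
      have hn : ∀ n : ℕ, ε ^ n * c * (ε ^ n)⁻¹ = c * x ^ n := by
        intro n
        induction n with
        | zero => simp
        | succ n ih =>
          rw [pow_succ', show ε * ε ^ n * c * (ε * ε ^ n)⁻¹ = ε * (ε ^ n * c * (ε ^ n)⁻¹) * ε⁻¹ by
            group, ih, show ε * (c * x ^ n) * ε⁻¹ = (ε * c * ε⁻¹) * (ε * x * ε⁻¹) ^ n by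
              rw [conj_pow]; group, hfix, pow_succ', hεc', mul_assoc]
      obtain ⟨m, k, hm, hk, -⟩ := exists_two_part ε
      have hεR : ε ^ m ∈ pCoreOf 2 P₂ := (v₂.setting hG).two_mem (pow_mem hεC m) hk
      refine ⟨x, ?_, by rw [hxdef, mul_inv_cancel_left]⟩
      have h1 := hl₁.1 (hl₁.2 _ hεR)
      have h2 : ⁅c, ε ^ m⁆ = c * (x ^ m)⁻¹ * c⁻¹ := by
        rw [commutatorElement_def, show c * ε ^ m * c⁻¹ * (ε ^ m)⁻¹ =
          c * (ε ^ m * c * (ε ^ m)⁻¹)⁻¹ by group, hn]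
        group
      rw [h2] at h1
      have hx2 : x ^ m = x := by
        obtain ⟨j, rfl⟩ := hm
        rw [pow_succ, pow_mul, hV₂e.2 x hxV, one_pow, one_mul]
      rw [hx2] at h1
      have hcx : Commute c x :=
        (show Commute u x from
          PGroup.mul_comm_of_elementaryAbelian hV₂e huV hxV).inv_left.mul_left (hcomm v hvV x hxV)
      rw [hcx.inv_right.eq, mul_inv_cancel_right] at h1
      exact inv_mem_iff.mp h1
    -- compare the fixed points of `y` and `y'`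
    have hfixc : y' * (d⁻¹ * c) * y'⁻¹ = d⁻¹ * c := by
      rw [← hrc, hy', show r * y * r⁻¹ * (r * c * r⁻¹) * (r * y * r⁻¹)⁻¹ =
        r * (y * c * y⁻¹) * r⁻¹ by group,
        show y * c * y⁻¹ = c from mul_inv_eq_iff_eq_mul.mpr hcy.symm.eq]
    set d' := y⁻¹ * d⁻¹ * y with hd'
    have hd'W : d' ∈ wOf K₂ := (mem_normalizer_iff''.mp hfy.1 _).mp (inv_mem hdW)
    have hcalc : y' * (d⁻¹ * c) * y'⁻¹ = d' * (c * x) := by
      rw [show y' * (d⁻¹ * c) * y'⁻¹ =
        (ε * d' * ε⁻¹) * (ε * (y⁻¹ * c * y) * ε⁻¹) by rw [hε, hd']; group,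
        show y⁻¹ * c * y = c by rw [mul_assoc, hcy.eq, inv_mul_cancel_left], hεc,
        (mem_centralizer_iff_conj.mp hinv) d' hd'W]
    have hxW : x ∈ hOf T K₂ ⊓ wOf K₂ := by
      refine ⟨hx, ?_⟩
      have h1 := hcalc.symm.trans hfixc
      have h2 : c * x * c⁻¹ = d'⁻¹ * d⁻¹ := by
        rw [eq_inv_mul_iff_mul_eq, ← mul_assoc, mul_inv_eq_iff_eq_mul]
        exact h1
      have hcx : Commute c x := (show Commute u x from PGroup.mul_comm_of_elementaryAbelian hV₂e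
        huV (v₂.z_le_v hG hx.1)).inv_left.mul_left (hcomm v hvV x (v₂.z_le_v hG hx.1))
      rw [hcx.eq, mul_inv_cancel_right] at h2
      rw [h2]
      exact (wOf K₂).mul_mem ((wOf K₂).inv_mem hd'W) ((wOf K₂).inv_mem hdW)
    rw [v₂.h_inf, mem_bot] at hxW
    have h1 := hcalc.symm.trans hfixc
    rw [hxW, mul_one] at h1
    have h2 : d' = d⁻¹ := mul_right_cancel h1
    have hd1 : d = 1 := by
      refine hfy.2 d hdW ?_
      have h3 : y * d' * y⁻¹ = d⁻¹ := by rw [hd']; group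
      rw [h2] at h3
      have h4 : Commute d⁻¹ y := (mul_inv_eq_iff_eq_mul.mp h3).symm
      simpa using h4.inv_left
    exact ((show Commute u⁻¹ r from commutatorElement_eq_one_iff_mul_comm.mp hd1)).mul_left hrv
  -- `c ∈ V₁`
  obtain ⟨a, ha, hanot⟩ := SetLike.not_le_iff_exists.mp (e.core_not_le hG)
  have haT := (v₁.setting hG).pCore_le ha
  have haW2 : a ∉ centralizer (wOf K₂ : Set G) := fun h =>
    hanot ((v₂.mem_core_iff hG haT).mpr h)
  have hua : Commute u a := by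
    have h1 : Commute (u⁻¹ * v) a := hR₁c a ha
    have h2 := (v₁.core_comm ha hvV).symm.mul_left h1.inv_left
    rw [mul_inv_rev, inv_inv, mul_inv_cancel_left] at h2
    exact h2
  have hul : u ∈ lineOf T K₂ := by
    have hsub : lineOf T K₂ ≤ wOf K₂ ⊓ centralizer ({a} : Set G) := fun z hz =>
      ⟨hz.2, mem_centralizer_singleton_iff.mpr (v₂.t_comm_z haT hz.1).symm.eq⟩
    have e' := eq_of_le_of_card_ge hsub (by rw [v₂.line_card]; exact card_fix_le v₂.w4 haW2)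
    exact e'.ge ⟨hu, mem_centralizer_singleton_iff.mpr hua.eq⟩
  have hcV : c ∈ V₁ := mul_mem (inv_mem (v₁.z_le_v hG hul.1)) hvV
  have hcZ : c ∉ Z := fun h => hvZ (by
    have := mul_mem hul.1 h
    rwa [hc, mul_inv_cancel_left] at this)
  -- a conjugate of `c` in `Z₀`
  obtain ⟨w', hw', f', hf', hcwf⟩ := (v₁.mem_v hG).mp hcV
  have hw'l : w' ∉ l₁ := fun h => hcZ (hcwf ▸ mul_mem h.1 hf'.1)
  obtain ⟨y₁, hy₁, -, -, hfy₁⟩ := v₁.exists_y
  obtain ⟨⟨l, hl⟩, hl1⟩ : ∃ l : ↥l₁, l ≠ 1 := by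
    obtain ⟨x, hx, -⟩ := (Nat.card_eq_two_iff' (1 : ↥l₁)).mp v₁.line_card
    exact ⟨x, hx⟩
  have hl1' : l ≠ 1 := fun h => hl1 (Subtype.ext h)
  obtain ⟨i, hi⟩ := mem_of_three v₁.w4 hw' (fun h => hw'l (h ▸ one_mem _)) hfy₁ hl.2 hl1'
  set q := (y₁ ^ i)⁻¹ with hq
  have hqP : q ∈ P₁ := inv_mem (pow_mem (v₁.k_le_p hy₁) i)
  set x := l * f' with hx
  have hxZ : x ∈ Z := mul_mem hl.1 hf'.1
  have hqx : q * x * q⁻¹ = c := by
    rw [hcwf, hx, ← hi, show q * (y₁ ^ i * w' * (y₁ ^ i)⁻¹ * f') * q⁻¹ = w' * (q * f' * q⁻¹) by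
      rw [hq]; group, show q * f' * q⁻¹ = f' from mul_inv_eq_iff_eq_mul.mpr (hqP.2 f' hf').symm]
  have hx1 : x ≠ 1 := fun h => hcZ (by
    rw [← hqx, h, mul_one, mul_inv_cancel]; exact one_mem _)
  have hac : Commute c a := hR₁c a ha
  rcases e.cover x hxZ hx1 with hclosed | ⟨L', K', v', hxH⟩
  · have h2 := hclosed.map_conj q
    rw [map_centralizer_singleton, hqx] at h2
    have hyC : y ∈ centralizer ({c} : Set G) := mem_centralizer_singleton_iff.mpr hcy.symm.eq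
    have haC : a ∈ centralizer ({c} : Set G) := mem_centralizer_singleton_iff.mpr hac.symm.eq
    obtain ⟨k, hk⟩ := v₁.syl.2.1 ⟨a, haT⟩
    have hk' : a ^ 2 ^ k = 1 := by simpa using congrArg Subtype.val hk
    have h3 : y * a * y⁻¹ * a⁻¹ ∈ pCoreOf 2 (centralizer ({c} : Set G)) :=
      mul_mem (h2 _ (mul_mem (mul_mem hyC haC) (inv_mem hyC)) k
        (by rw [conj_pow, hk', mul_one, mul_inv_cancel])) (inv_mem (h2 a haC k hk'))
    obtain ⟨j, hj⟩ := isPGroup_pCoreOf 2 _ ⟨_, h3⟩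
    exact not_rotation v₂.w4 (v₂.t_normW haT) haW2 (v₂.sq_mem haT) hfy rfl (k := j)
      (by simpa using congrArg Subtype.val hj)
  · -- a vertex through `c`
    have v'q := v'.map_conj q
    set T' := T.map (MulAut.conj q).toMonoidHom with hT'
    set K'' := K'.map (MulAut.conj q).toMonoidHom
    set L'' := L'.map (MulAut.conj q).toMonoidHom
    have hcH : c ∈ hOf T' K'' := by
      rw [hT', hOf_map_conj]; exact ⟨x, hxH, hqx⟩
    have hc1 : c ≠ 1 := fun h => hcZ (h ▸ one_mem _)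
    have hyP' : y ∈ pOf T' K'' := by
      rw [← v'q.centralizer_eq hG hcH hc1]
      exact mem_centralizer_singleton_iff.mpr hcy.symm.eq
    -- a nontrivial element of `H₁`
    obtain ⟨h₁, hh₁, hh₁1⟩ : ∃ h ∈ hOf T K₁, h ≠ 1 := by
      refine (Subgroup.bot_or_exists_ne_one _).resolve_left fun h0 => ?_
      have h1 := v₁.card_z
      have h2 := v₂.card_z
      rw [h0, Subgroup.card_bot] at h1
      have h3 : Nat.card ↥(hOf T K₂) = 1 := by omega
      have h4 : l ∈ hOf T K₂ := hl₁.1 hl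
      rw [card_eq_one.mp h3] at h4
      exact hl1' (mem_bot.mp h4)
    have hh₁Z : h₁ ∈ omegaCenterOf T' := by
      rw [hT', ← omegaCenterOf_map_conj]
      exact ⟨h₁, hh₁.1, mul_inv_eq_iff_eq_mul.mpr (hqP.2 h₁ hh₁).symm⟩
    have hd2 : ⁅h₁, y⁆ ∈ wOf K₂ := v₂.comm_mem hG hy (v₂.z_le_v hG hh₁.1)
    have hd' : ⁅h₁, y⁆ ∈ wOf K'' := v'q.comm_mem hG hyP' (v'q.z_le_v hG hh₁Z)
    have hdne : ⁅h₁, y⁆ ≠ 1 := fun h => hh₁1 (mem_bot.mp (e.h_inf.le
      ⟨hh₁, v₂.mem_h hh₁.1 hy hfy (commutatorElement_eq_one_iff_mul_comm.mp h)⟩))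
    have he : wOf K'' ⊓ wOf K₂ = wOf K₂ := eq_of_le_four v₂.w4 inf_le_right
      (fun h => hdne (mem_bot.mp (h.le ⟨hd', hd2⟩))) hfy fun z hz =>
      ⟨(mem_normalizer_iff.mp hyP'.1 z).mp hz.1, (mem_normalizer_iff.mp hfy.1 z).mp hz.2⟩
    have hWeq : wOf K₂ = wOf K'' :=
      eq_of_le_of_card_ge (inf_eq_right.mp he) (by rw [v'q.w4, v₂.w4])
    have hle : K₂ ⊔ jOf T ≤ L'' := by
      refine (sup_le le_normalizer_wOf (j_le_normalizer_wOf v₂.comp)).trans ?_
      rw [hWeq]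
      exact v'q.normW_le
    have hLL : L₂ = L'' := v'q.max.2 L₂ v₂.max.1 (v₂.uniq _ v'q.max.1 hle)
    refine v₁.not_conj_le hG v₂.max v₂.syl.1 e.ne.symm hqP ⟨l, hl, ?_⟩ (hLL ▸ v'q.syl.1)
    intro hql
    refine hcZ ?_
    rw [← hqx, hx, show q * (l * f') * q⁻¹ = (q * l * q⁻¹) * (q * f' * q⁻¹) by group,
      show q * f' * q⁻¹ = f' from mul_inv_eq_iff_eq_mul.mpr (hqP.2 f' hf').symm]
    exact mul_mem hql.1 hf'.1

end EdgeSec

end Cfsg.Agent.JComponent
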