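import Cfsg.Agent.Lib.JComponent.Unique

/-!
# Existence of `J(T)`-components

* `Setting.exists_component`: every plane element comes from a component, modulo `C`
-/

set_option autoImplicit false

namespace Cfsg.Agent.JComponent

open Subgroup LocalStructure
open scoped commutatorElement

universe u

variable {G : Type u} [Group G] [Finite G] {T L : Subgroup G}

/-- `J(T')` is `J(T)` for every Sylow subgroup `T'` of `L` containing `J(T)`. -/
theorem j_eq_of_sylow (hT : IsSylowTwoIn T L) {T' : Subgroup G} (hT' : IsSylowTwoIn T' L)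
    (hle : jOf T ≤ T') : jOf T' = jOf T := by
  have : Fact (Nat.Prime 2) := ⟨Nat.prime_two⟩
  obtain ⟨A, hA⟩ := PGroup.exists_isMaxEA (p := 2) T
  obtain ⟨A', hA'⟩ := PGroup.exists_isMaxEA (p := 2) T'
  have hAL := maxEA_of_sylow hT hA
  have hA'L := maxEA_of_sylow hT' hA'
  have h1 := j_le_of_card_eq hA hA'
    (le_antisymm (hA'L.2.2 A hAL.1 hA.2.1) (hAL.2.2 A' hA'L.1 hA'.2.1)) hle
  obtain ⟨l, -, hl⟩ := (sylowTwoIn_iff.mp hT).exists_conj_eq (sylowTwoIn_iff.mp hT')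
  refine (eq_of_le_of_card_ge h1 ?_).symm
  rw [← hl, ← j_map_conj, card_map_of_injective (MulAut.conj l).injective]

/-- `J(S) = J(T)` for Sylow subgroups `S` of subgroups of `L` containing `J(T)`. -/
theorem j_eq_of_sylow_sub (hT : IsSylowTwoIn T L) {X S : Subgroup G} (hX : X ≤ L)
    (hS : IsSylowTwoIn S X) (hle : jOf T ≤ S) : jOf S = jOf T := by
  obtain ⟨T', h1, h2⟩ := exists_sylowTwoIn hS.2.1 (hS.1.trans hX)
  have e := j_eq_of_sylow hT h2 (hle.trans h1)
  rw [← e] at hle ⊢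
  exact PGroup.thompsonSubgroupOf_eq_of_le hle h1

/-- Each plane element comes from a `J(T)`-component of `L`. -/
theorem Setting.exists_component (h : Setting T L) {x : G} {W : Subgroup G} (hp : PlaneIn L x W) :
    ∃ K : Subgroup G, IsJComponent T K ∧ K ≤ L ∧ x ∈ K ⊔ cOf L := by
  have : Fact (Nat.Prime 2) := ⟨Nat.prime_two⟩
  set Q := pCoreOf 2 L with hQ
  have hLQ : L ≤ normalizer (Q : Set G) := le_normalizer_pCoreOf 2 L
  have hLC := le_normalizer_cOf L
  have hLR := le_normalizer_rOf L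
  obtain ⟨A, hA, a, ha, hax⟩ := h.plane_invert hp
  have haJ : a ∈ jOf T := PGroup.le_thompsonSubgroupOf hA ha
  have haT : a ∈ T := hA.1 ha
  have haL : a ∈ L := h.syl.1 haT
  have ha2 : a ^ 2 = 1 := hA.2.1.2 a ha
  have hainv : a⁻¹ = a := inv_eq_of_mul_eq_one_right (by rw [← sq]; exact ha2)
  have hxR := hp.mem
  have hxL := rOf_le L hxR
  -- replace `x` by a double commutator with `a`
  have hjL := h.le_normalizer_jOf
  have hconjJ : ∀ g ∈ L, ⁅g, a⁆ ∈ jOf L := fun g hg => by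
    rw [commutatorElement_def]
    exact mul_mem ((mem_normalizer_iff.mp (hjL hg) a).mp (h.j_le_jOf haJ))
      (inv_mem (h.j_le_jOf haJ))
  have hconjR : ∀ g ∈ rOf L, ⁅g, a⁆ ∈ rOf L := fun g hg => by
    rw [commutatorElement_def, show g * a * g⁻¹ * a⁻¹ = g * (a * g⁻¹ * a⁻¹) by group]
    exact mul_mem hg ((mem_normalizer_iff.mp (hLR haL) _).mp (inv_mem hg))
  set y0 := ⁅x, a⁆ with hy0
  set y1 := ⁅y0, a⁆ with hy1
  have hy0R : y0 ∈ rOf L := hconjR x hxR
  have hy0L := rOf_le L hy0R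
  have hy1R : y1 ∈ rOf L := hconjR y0 hy0R
  have hy1L := rOf_le L hy1R
  have hy1J : y1 ∈ jOf L := hconjJ y0 hy0L
  -- congruences modulo `C`
  have hCnormal : ((cOf L).subgroupOf L).Normal :=
    (normal_subgroupOf_iff_le_normalizer inf_le_left).mpr hLC
  have hy1x : x⁻¹ * y1 ∈ cOf L := by
    set π := QuotientGroup.mk' ((cOf L).subgroupOf L) with hπ
    have hπ1 : ∀ g : ↥L, π g = 1 ↔ (g : G) ∈ cOf L := fun g =>
      (QuotientGroup.eq_one_iff g).trans mem_subgroupOf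
    set X : ↥L := ⟨x, hxL⟩
    set A' : ↥L := ⟨a, haL⟩
    have e1 : π A' * π X * (π A')⁻¹ = (π X)⁻¹ := by
      rw [eq_inv_iff_mul_eq_one, ← map_inv, ← map_mul, ← map_mul, ← map_mul, hπ1]
      exact hax
    have e2 : (π X) ^ 3 = 1 := by
      rw [← map_pow, hπ1]; exact h.rOf_cube hxR
    have e3 : ∀ z, π A' * z * (π A')⁻¹ = z⁻¹ → ⁅z, π A'⁆ = z * z := fun z hz => by
      rw [commutatorElement_def, show z * π A' * z⁻¹ * (π A')⁻¹ =
        z * (π A' * z * (π A')⁻¹)⁻¹ by group, hz, inv_inv]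
    have e4 : π (⁅⁅X, A'⁆, A'⁆) = π X := by
      have e5 : π X * π X = (π X)⁻¹ := by rw [eq_inv_iff_mul_eq_one, ← sq, ← pow_succ, e2]
      rw [map_commutatorElement, map_commutatorElement, e3 _ e1, e5, e3 _ (by
        rw [show π A' * (π X)⁻¹ * (π A')⁻¹ = (π A' * π X * (π A')⁻¹)⁻¹ by group, e1]),
        ← mul_inv_rev, e5, inv_inv]
    have e6 : π (X⁻¹ * ⁅⁅X, A'⁆, A'⁆) = 1 := by rw [map_mul, map_inv, e4, inv_mul_cancel]
    exact (hπ1 _).mp e6
  -- the odd part `y`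
  obtain ⟨m, k, hm, -, hodd⟩ := exists_two_part y1
  set y := y1 ^ (4 ^ k) with hy
  have hyodd : Odd (orderOf y) := by
    rw [hy, show (4 : ℕ) ^ k = 2 ^ k * 2 ^ k by rw [← mul_pow]; norm_num, pow_mul]
    exact hodd.of_dvd_nat (orderOf_pow_dvd _)
  have hyR : y ∈ rOf L := pow_mem hy1R _
  have hyL := rOf_le L hyR
  have hyJ : y ∈ jOf L := pow_mem hy1J _
  have hyx : x⁻¹ * y ∈ cOf L := by
    set π := QuotientGroup.mk' ((cOf L).subgroupOf L) with hπ
    set X : ↥L := ⟨x, hxL⟩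
    set Y1 : ↥L := ⟨y1, hy1L⟩
    have hπ1 : ∀ g : ↥L, π g = 1 ↔ (g : G) ∈ cOf L := fun g =>
      (QuotientGroup.eq_one_iff g).trans mem_subgroupOf
    have e1 : π Y1 = π X := by
      rw [← inv_mul_eq_one, ← map_inv, ← map_mul, hπ1]
      have := inv_mem hy1x
      simpa [X, Y1] using this
    have e2 : (π X) ^ 3 = 1 := by
      rw [← map_pow, hπ1]; exact h.rOf_cube hxR
    obtain ⟨t, ht⟩ : ∃ t, 4 ^ k = 3 * t + 1 := ⟨4 ^ k / 3, by
      have : 4 ^ k % 3 = 1 := by rw [Nat.pow_mod]; simp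
      omega⟩
    have e3 : π (X⁻¹ * Y1 ^ (4 ^ k)) = 1 := by
      rw [map_mul, map_inv, map_pow, e1, ht, pow_succ, pow_mul, e2, one_pow, one_mul,
        inv_mul_cancel]
    exact (hπ1 _).mp e3
  have hWne : x ∉ cOf L := fun hc => by
    have h0 : W = ⊥ := (eq_bot_iff_forall W).mpr fun w hw => hp.fpf.2 w hw (hc.2 w (hp.le hw))
    have := hp.card
    rw [h0, Subgroup.card_bot] at this
    omega
  have hyC : y ∉ cOf L := fun hc => hWne (by
    have := mul_mem hc (inv_mem hyx)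
    simpa using this)
  have hyQ : y ∉ Q := fun hc => hyC (pCoreOf_le_cOf L hc)
  -- the quotient by `Q`
  have : (Q.subgroupOf L).Normal :=
    (normal_subgroupOf_iff_le_normalizer (pCoreOf_le 2 L)).mpr hLQ
  set π := QuotientGroup.mk' (Q.subgroupOf L) with hπ
  have hπ1 : ∀ g : ↥L, π g = 1 ↔ (g : G) ∈ Q := fun g =>
    (QuotientGroup.eq_one_iff g).trans mem_subgroupOf
  have hoddC : ∀ c : ↥L, (c : G) ∈ cOf L → ∀ i : ℕ, π c ^ 2 ^ i = 1 → π c = 1 := by
    intro c hc i hi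
    rw [← map_pow, hπ1] at hi
    obtain ⟨n, hn⟩ := isPGroup_pCoreOf 2 L ⟨_, hi⟩
    rw [hπ1]
    refine h.two_mem hc (k := i + n) ?_
    rw [pow_add, pow_mul]
    simpa using congrArg Subtype.val hn
  have hcomC : ∀ c : ↥L, (c : G) ∈ cOf L → ∀ g : ↥L, (g : G) ∈ jOf L → Commute (π c) (π g) := by
    intro c hc g hg
    refine commutatorElement_eq_one_iff_mul_comm.mp ?_
    rw [← map_commutatorElement, hπ1]
    exact h.cOf_comm_jOf hc hg
  set Y : ↥L := ⟨y, hyL⟩ with hY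
  set A' : ↥L := ⟨a, haL⟩ with hA'
  have hπa : π A' ^ 2 = 1 := by
    rw [← map_pow, hπ1]; simp [hA', ha2]
  have hay : π A' * π Y * (π A')⁻¹ = (π Y)⁻¹ := by
    have e1 : a * y1 * a⁻¹ = y1⁻¹ := by
      rw [hy1, commutatorElement_def,
        show a * (y0 * a * y0⁻¹ * a⁻¹) * a⁻¹ = a * y0 * a * y0⁻¹ * (a ^ 2)⁻¹ by rw [sq]; group,
        show (y0 * a * y0⁻¹ * a⁻¹)⁻¹ = a * y0 * a⁻¹ * y0⁻¹ by group,
        ha2, inv_one, mul_one, hainv]
    have e2 : a * y * a⁻¹ = y⁻¹ := by rw [hy, ← conj_pow, e1, inv_pow]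
    rw [← map_inv, ← map_mul, ← map_mul, ← map_inv]
    exact congrArg π (Subtype.ext e2)
  have hY3 : π Y ^ 3 = 1 := by
    have hc : (y : G) ^ 3 ∈ cOf L := h.rOf_cube hyR
    have hcm := (hcomC (Y ^ 3) (by simpa [hY] using hc) A' (h.j_le_jOf haJ)).symm
    rw [map_pow] at hcm
    have e1 : π A' * π Y ^ 3 * (π A')⁻¹ = (π Y ^ 3)⁻¹ := by rw [← conj_pow, hay, inv_pow]
    rw [hcm.eq, mul_inv_cancel_right] at e1
    rw [← map_pow]
    refine hoddC (Y ^ 3) (by simpa [hY] using hc) 1 ?_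
    rw [map_pow, pow_one, sq]
    nth_rewrite 1 [e1]
    rw [inv_mul_cancel]
  have hy3Q : y ^ 3 ∈ Q := by
    have := (hπ1 (Y ^ 3)).mp (by rw [map_pow, hY3])
    simpa [hY] using this
  have hy3 : y ^ 3 = 1 :=
    eq_one_of_isPGroup_odd (isPGroup_pCoreOf 2 L) hy3Q (hyodd.of_dvd_nat (orderOf_pow_dvd _))
  have hyord : orderOf y = 3 := orderOf_eq_prime hy3 fun e => hyQ (e ▸ one_mem Q)
  -- `J(T)` normalizes `⟨y⟩ Q`
  set Yg := zpowers y ⊔ Q with hYg
  have hYgL : Yg ≤ L := sup_le (zpowers_le.mpr hyL) (pCoreOf_le 2 L)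
  have hJc : ∀ j ∈ jOf T, j * a * j⁻¹ * a⁻¹ ∈ Q := by
    intro j hj
    have hsq : ∀ g ∈ jOf T, g ^ 2 ∈ Q := fun g hg => by
      obtain ⟨n, hn⟩ := isPGroup_j h.syl.2.1 ⟨g ^ 2, pow_mem hg 2⟩
      have hn' : (g ^ 2) ^ 2 ^ n = 1 := by simpa using congrArg Subtype.val hn
      refine h.inf_cOf_le ⟨pow_mem (PGroup.thompsonSubgroupOf_le T hg) 2, ?_⟩
      obtain ⟨b, hb, rfl⟩ := h.j_le_jOf hg
      refine rOf_two_mem ⟨b ^ 2, sq_mem_rSub _ h.hsep (vOf_subgroupOf_isElementaryAbelian L) h.hO hb,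
        by simp⟩ hn'
    rw [show j * a * j⁻¹ * a⁻¹ = j ^ 2 * (j⁻¹ * a) ^ 2 * (a ^ 2)⁻¹ by simp [sq]; group]
    exact mul_mem (mul_mem (hsq j hj) (hsq _ (mul_mem (inv_mem hj) haJ))) (inv_mem (hsq a haJ))
  have hyplane : ∀ g ∈ jOf L, g * y * g⁻¹ * y⁻¹ ∈ cOf L ∨ g * y * g⁻¹ * y ∈ cOf L := by
    intro g hg
    have hgL : g ∈ L := PGroup.thompsonSubgroupOf_le L hg
    set π' := QuotientGroup.mk' ((cOf L).subgroupOf L) with hπ'
    have hπ'1 : ∀ g : ↥L, π' g = 1 ↔ (g : G) ∈ cOf L := fun g =>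
      (QuotientGroup.eq_one_iff g).trans mem_subgroupOf
    set X : ↥L := ⟨x, hxL⟩
    set g' : ↥L := ⟨g, hgL⟩
    have e1 : π' X = π' Y := by
      rw [← inv_mul_eq_one, ← map_inv, ← map_mul, hπ'1]
      exact hyx
    rcases h.plane_conj hp hg with e | e
    · left
      have e' : π' (g' * X * g'⁻¹ * X⁻¹) = 1 := (hπ'1 _).mpr e
      rw [map_mul, map_mul, map_mul, map_inv, map_inv, e1, ← map_inv, ← map_inv, ← map_mul,
        ← map_mul, ← map_mul, hπ'1] at e'
      exact e'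
    · right
      have e' : π' (g' * X * g'⁻¹ * X) = 1 := (hπ'1 _).mpr e
      rw [map_mul, map_mul, map_mul, map_inv, e1, ← map_inv, ← map_mul, ← map_mul, ← map_mul,
        hπ'1] at e'
      exact e'
  have hJy : ∀ j ∈ jOf T, j * y * j⁻¹ * y⁻¹ ∈ Q ∨ j * y * j⁻¹ * y ∈ Q := by
    intro j hj
    have hjL' : j ∈ L := h.j_le hj
    set J' : ↥L := ⟨j, hjL'⟩
    have hcomm : π J' * π A' = π A' * π J' := by
      refine commutatorElement_eq_one_iff_mul_comm.mp ?_
      rw [← map_commutatorElement, hπ1]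
      simpa [commutatorElement_def] using hJc j hj
    have hinv : π A' * (π J' * π Y * (π J')⁻¹) * (π A')⁻¹ = (π J' * π Y * (π J')⁻¹)⁻¹ := by
      calc π A' * (π J' * π Y * (π J')⁻¹) * (π A')⁻¹
          = π J' * (π A' * π Y * (π A')⁻¹) * (π J')⁻¹ := by
            rw [show π A' * (π J' * π Y * (π J')⁻¹) * (π A')⁻¹ =
              π A' * π J' * π Y * (π A' * π J')⁻¹ by group, ← hcomm]
            group
        _ = _ := by rw [hay]; group
    have key : ∀ (z : ↥L) (s : ↥L ⧸ Q.subgroupOf L), (z : G) ∈ cOf L →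
        π A' * s * (π A')⁻¹ = s⁻¹ → Commute (π z) s →
        π A' * (π z * s) * (π A')⁻¹ = (π z * s)⁻¹ → π z = 1 := by
      intro z s hz hs hcs e
      refine hoddC z hz 1 ?_
      have hca := (hcomC z hz A' (h.j_le_jOf haJ)).symm
      rw [show π A' * (π z * s) * (π A')⁻¹ = (π A' * π z * (π A')⁻¹) * (π A' * s * (π A')⁻¹) by group,
        hca.eq, mul_inv_cancel_right, hs, mul_inv_rev, ← hcs.inv_inv.eq] at e
      rw [pow_one, sq]
      nth_rewrite 2 [mul_right_cancel e]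
      rw [mul_inv_cancel]
    rcases hyplane j (h.j_le_jOf hj) with e | e
    · left
      set z : ↥L := J' * Y * J'⁻¹ * Y⁻¹
      have e2 : π z * π Y = π J' * π Y * (π J')⁻¹ := by simp [z]
      exact (hπ1 z).mp (key z (π Y) e hay (hcomC z e Y hyJ) (e2 ▸ hinv))
    · right
      set z : ↥L := J' * Y * J'⁻¹ * Y
      have e2 : π z * (π Y)⁻¹ = π J' * π Y * (π J')⁻¹ := by simp [z]
      exact (hπ1 z).mp (key z (π Y)⁻¹ e (by
        rw [show π A' * (π Y)⁻¹ * (π A')⁻¹ = (π A' * π Y * (π A')⁻¹)⁻¹ by group, hay])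
        (hcomC z e Y hyJ).inv_right (e2 ▸ hinv))
  have hJY : jOf T ≤ normalizer (Yg : Set G) := by
    intro j hj
    refine Subnormal.mem_normalizer_of_cj_le ?_
    rw [Subnormal.cj, map_le_iff_le_comap]
    refine sup_le (zpowers_le.mpr ?_) fun q hq =>
      mem_sup_right ((mem_normalizer_iff.mp (hLQ (h.j_le hj)) q).mp hq)
    show j * y * j⁻¹ ∈ Yg
    rcases hJy j hj with e | e
    · have := mul_mem (mem_sup_right (S := zpowers y) e) (mem_sup_left (T := Q) (mem_zpowers y))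
      rwa [inv_mul_cancel_right] at this
    · have := mul_mem (mem_sup_right (S := zpowers y) e)
        (mem_sup_left (T := Q) (inv_mem (mem_zpowers y)))
      rwa [mul_inv_cancel_right] at this
  -- `K`
  set K := closure {g : G | g ∈ Yg ∧ Odd (orderOf g)} with hKdef
  have hKY : K ≤ Yg := (closure_le _).mpr fun g hg => hg.1
  have hKL : K ≤ L := hKY.trans hYgL
  have hyK : y ∈ K := subset_closure ⟨mem_sup_left (mem_zpowers y), hyodd⟩
  have hKQ : K ⊔ Q = Yg := le_antisymm (sup_le hKY le_sup_right)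
    (sup_le ((zpowers_le.mpr hyK).trans le_sup_left) le_sup_right)
  have hNK : normalizer (Yg : Set G) ≤ normalizer (K : Set G) := fun n hn => by
    refine Subnormal.mem_normalizer_of_cj_le ?_
    rw [Subnormal.cj, map_le_iff_le_comap, closure_le]
    intro g hg
    refine subset_closure ⟨(mem_normalizer_iff.mp hn g).mp hg.1, ?_⟩
    rw [show (MulAut.conj n).toMonoidHom g = MulAut.conj n g from rfl, MulEquiv.orderOf_eq]
    exact hg.2
  have hyn : zpowers y ≤ normalizer (Q : Set G) := zpowers_le.mpr (hLQ hyL)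
  have hidxY : Q.relIndex Yg = 3 := by
    rw [hYg, Coprime.relIndex_sup_right_of_le_normalizer hyn]
    have hd : Q ⊓ zpowers y = ⊥ := by
      refine (eq_bot_iff_forall _).mpr fun g hg => ?_
      refine eq_one_of_isPGroup_odd (isPGroup_pCoreOf 2 L) hg.1 ?_
      exact hyodd.of_dvd_nat (orderOf_dvd_of_mem_zpowers hg.2)
    rw [← inf_relIndex_right, hd, relIndex_bot_left, Nat.card_zpowers, hyord]
  have hKn : K ≤ normalizer (Q : Set G) := hKL.trans hLQ
  have hidxK : (Q ⊓ K).relIndex K = 3 := by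
    rw [inf_relIndex_right, ← Coprime.relIndex_sup_right_of_le_normalizer hKn, hKQ, hidxY]
  have hO : pCoreOf 2 K = Q ⊓ K := by
    have h1 : Q ⊓ K ≤ pCoreOf 2 K := pCoreOf_inf_le hKL
    have h2 := relIndex_mul_relIndex _ _ K h1 (pCoreOf_le 2 K)
    rw [hidxK] at h2
    have h3 : (pCoreOf 2 K).relIndex K ≠ 1 := fun e => hyQ (by
      have := eq_one_of_isPGroup_odd (isPGroup_pCoreOf 2 K) (relIndex_eq_one.mp e hyK) hyodd
      exact this ▸ one_mem Q)
    rcases (Nat.dvd_prime Nat.prime_three).mp (Dvd.intro_left _ h2) with e | e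
    · exact absurd e h3
    · rw [e] at h2
      refine le_antisymm ?_ h1
      exact relIndex_eq_one.mp (by omega)
  have hpre : Pre K := by
    refine ⟨le_antisymm ((closure_le _).mpr fun g hg => hg.1) ?_, hO ▸ hidxK⟩
    conv_lhs => rw [hKdef]
    rw [closure_le]
    exact fun g hg => subset_closure ⟨subset_closure hg, hg.2⟩
  have hyO : y ∉ pCoreOf 2 K := fun hc => hyQ (hO.le hc).1
  have hJK : jOf T ≤ normalizer (K : Set G) := hJY.trans hNK
  have hKJ : ⁅K, jOf T⁆ = K := by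
    refine hpre.eq_of_normal ?_ (normalizer_commutator_ge_left K (jOf T))
      (commutator_mem_commutator hyK haJ) ?_
    · refine commutator_le.mpr fun k hk j hj => ?_
      rw [commutatorElement_def, show k * j * k⁻¹ * j⁻¹ = k * (j * k⁻¹ * j⁻¹) by group]
      exact mul_mem hk ((mem_normalizer_iff.mp (hJK hj) _).mp (inv_mem hk))
    · intro hc
      refine hyQ ((hπ1 Y).mp ?_)
      have h1 : π ⁅Y, A'⁆ = 1 := by
        rw [hπ1]; simpa [hY, hA', commutatorElement_def] using (hO.le hc).1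
      rw [map_commutatorElement, commutatorElement_def, show π Y * π A' * (π Y)⁻¹ * (π A')⁻¹ =
        π Y * (π A' * π Y * (π A')⁻¹)⁻¹ by group, hay, inv_inv] at h1
      rw [pow_succ, sq, h1, one_mul] at hY3
      exact hY3
  have hXL : K ⊔ jOf T ≤ L := sup_le hKL h.j_le
  -- the four-group
  set Z := omegaCenterOf (pCoreOf 2 K) with hZ
  have hAJ : A ≤ jOf T := PGroup.le_thompsonSubgroupOf hA
  have hnO : jOf T ≤ normalizer (pCoreOf 2 K : Set G) :=
    hJK.trans (normalizer_le_normalizer_pCoreOf K)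
  let B : Subgroup G :=
    { carrier := {b | b ∈ A ∧ b * y * b⁻¹ * y⁻¹ ∈ pCoreOf 2 K}
      one_mem' := ⟨one_mem A, by simp⟩
      mul_mem' := fun {b c} hb hc => ⟨mul_mem hb.1 hc.1, by
        rw [show b * c * y * (b * c)⁻¹ * y⁻¹ =
          b * (c * y * c⁻¹ * y⁻¹) * b⁻¹ * (b * y * b⁻¹ * y⁻¹) by group]
        exact mul_mem ((mem_normalizer_iff.mp (hnO (hAJ hb.1)) _).mp hc.2) hb.2⟩
      inv_mem' := fun {b} hb => ⟨inv_mem hb.1, by
        rw [show b⁻¹ * y * b⁻¹⁻¹ * y⁻¹ = b⁻¹ * (b * y * b⁻¹ * y⁻¹)⁻¹ * b by group]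
        exact (mem_normalizer_iff''.mp (hnO (hAJ hb.1)) _).mp (inv_mem hb.2)⟩ }
  have hayO : a * y * a⁻¹ * y ∈ pCoreOf 2 K := by
    refine hO.ge ⟨(hπ1 (A' * Y * A'⁻¹ * Y)).mp ?_,
      mul_mem ((mem_normalizer_iff.mp (hJK haJ) y).mp hyK) hyK⟩
    rw [map_mul, map_mul, map_mul, map_inv, hay, inv_mul_cancel]
  have hdec : ∀ b ∈ A, b ∈ B ∨ a⁻¹ * b ∈ B := by
    intro b hb
    rcases hpre.cases hyK hyO ((mem_normalizer_iff.mp (hJK (hAJ hb)) y).mp hyK) with e | e | e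
    · exact absurd ((mem_normalizer_iff.mp (hnO (hAJ hb)) y).mpr e) hyO
    · exact Or.inl ⟨hb, e⟩
    · refine Or.inr ⟨mul_mem (inv_mem ha) hb, ?_⟩
      rw [hainv, show a * b * y * (a * b)⁻¹ * y⁻¹ =
        a * (b * y * b⁻¹ * y) * a⁻¹ * (a * y⁻¹ * a⁻¹ * y⁻¹) by group]
      refine mul_mem ((mem_normalizer_iff.mp (hnO haJ) _).mp e) ?_
      rw [show a * y⁻¹ * a⁻¹ * y⁻¹ = (y * (a * y * a⁻¹ * y) * y⁻¹)⁻¹ by group]
      exact inv_mem ((mem_normalizer_iff.mp (le_normalizer_pCoreOf 2 K hyK) _).mp hayO)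
  have hOZ : pCoreOf 2 K ≤ centralizer (Z : Set G) := fun o ho z hz =>
    ((omegaCenterOf_le _ hz).2 o ho).symm
  have hW4 : Nat.card ↥(wOf K) ≤ 4 := by
    rw [hpre.wOf_eq hyK hyO]
    refine card_rng_le (B := B) (hpre.tri hyK) (h.maxEA hA) ?_ ?_ (fun b hb => hb.1) ha hdec
      (fun b hb => hOZ hb.2) (hOZ hayO)
    · exact (hAJ.trans hJK).trans ((normalizer_le_normalizer_pCoreOf K).trans
        (normalizer_le_normalizer_omegaCenterOf _))
    · exact ((omegaCenterOf_le _).trans inf_le_left).trans ((pCoreOf_le 2 K).trans hKL)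
  have hUK : vOf L ≤ normalizer (K : Set G) := by
    exact ((vOf_le L).trans (le_sup_right : Q ≤ Yg)).trans (le_normalizer.trans hNK)
  have hcV : pCoreOf 2 K ≤ centralizer (vOf L : Set G) :=
    ((hO.le.trans inf_le_left).trans (pCoreOf_le_cOf L)).trans inf_le_right
  have hWle : W ≤ wOf K := by
    have he : W ⊓ wOf K = W := by
      refine eq_of_le_four hp.card inf_le_left (fun e => hyC ⟨hyL, fun v hv => ?_⟩) hp.fpf
        fun w hw => ⟨(mem_normalizer_iff.mp hp.fpf.1 w).mp hw.1, ?_⟩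
      · refine commutatorElement_eq_one_iff_mul_comm.mp (mem_bot.mp (e.le ⟨?_, ?_⟩))
        · set c := x⁻¹ * y with hc
          have hv' : c * v⁻¹ * c⁻¹ = v⁻¹ :=
            (mem_centralizer_iff_conj.mp hyx.2) _ (inv_mem hv)
          have e1 : ⁅v, y⁆ = ⁅v, x⁆ := by
            rw [show y = x * c by rw [hc]; group, commutatorElement_def, commutatorElement_def,
              show v * (x * c) * v⁻¹ * (x * c)⁻¹ = v * x * (c * v⁻¹ * c⁻¹) * x⁻¹ by group, hv']
          rw [e1]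
          exact hp.comm v hv
        · exact hpre.bracket_mem (isElementaryAbelian_omegaCenterOf _) hUK
            (hKL.trans (le_normalizer_vOf L)) hcV hyK hyO hv
      · -- `x` acts on `W` as `y`
        have hwv : w ∈ vOf L := hp.le hw.1
        have e2 : x * w * x⁻¹ = y * w * y⁻¹ := by
          conv_rhs => rw [show y = x * (x⁻¹ * y) by group]
          rw [show x * (x⁻¹ * y) * w * (x * (x⁻¹ * y))⁻¹ =
            x * ((x⁻¹ * y) * w * (x⁻¹ * y)⁻¹) * x⁻¹ by group,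
            (mem_centralizer_iff_conj.mp hyx.2) w hwv]
        rw [e2]
        exact (mem_normalizer_iff.mp (hpre.fpf hyK hyO).1 w).mp hw.2
    exact inf_eq_left.mp he
  refine ⟨K, ⟨hpre.gen, hKJ, hpre.idx, fun S hS hle => j_eq_of_sylow_sub h.syl hXL hS hle,
    le_antisymm hW4 ?_, fun w hw => ?_⟩, hKL, ?_⟩
  · rw [← hp.card]
    exact card_le_of_le hWle
  · rw [← sq]
    exact (isElementaryAbelian_omegaCenterOf _).2 w (hpre.wOf_le hw)
  · rw [← mul_inv_cancel_right x (x⁻¹ * y),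
      show x * (x⁻¹ * y) = y by group]
    exact mul_mem (mem_sup_left hyK) (mem_sup_right (inv_mem hyx))

end Cfsg.Agent.JComponent
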