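import Cfsg.Agent.Lib.JComponent.Count
import Cfsg.Agent.Lib.PGroup.Basic
import Cfsg.Agent.Lib.JComponent.Setting

/-!
# Subnormal conjugates of a component under an elementary abelian subgroup of largest order

* `pair_of_isPGroup_three`: two fixed-point-free elements of a 3-group of automorphisms of an
  elementary abelian group with four-groups `[U, a] ≠ [U, b]` generating it
* `le_normalizer_of_maxEA`: such a subgroup normalizes every subnormal `K` with four-group `W`
  whose normalizer normalizes `K`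
-/

set_option autoImplicit false

namespace Cfsg.Agent.JComponent

open Subgroup LocalStructure
open scoped commutatorElement

universe u

variable {G : Type u} [Group G] [Finite G]

/-- An element of order two on `W` inverts a fixed-point-free one. -/
theorem invert_of_sq {W : Subgroup G} (hW4 : Nat.card W = 4) {g x : G}
    (hg : g ∈ normalizer (W : Set G)) (hgc : g ∉ centralizer (W : Set G))
    (hg2 : g ^ 2 ∈ centralizer (W : Set G)) (hx : Fpf W x) :
    g * x * g⁻¹ * x ∈ centralizer (W : Set G) := by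
  obtain ⟨ρ, hk, hfix⟩ := exists_perm hW4
  set g' : ↥(normalizer (W : Set G)) := ⟨g, hg⟩
  refine invert_of_fixed hW4 hg hgc ((hfix g').mp ?_) hx
  have h2 : ρ (g' ^ 2) = 1 := (hk _).mpr hg2
  rw [map_pow] at h2
  generalize ρ g' = σ at h2
  revert σ; decide +kernel

theorem le_normalizer_wOf' {K : Subgroup G} :
    normalizer (K : Set G) ≤ normalizer (wOf K : Set G) := fun g hg =>
  PGroup.mem_normalizer_of_map_conj_eq
    (by rw [wOf_map_conj, PGroup.map_conj_eq_of_mem_normalizer hg])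

/-- A minimal configuration: `P` a 3-group modulo the kernel of the action on `U`. -/
theorem pair_of_isPGroup_three {Γ : Type*} [Group Γ] [Finite Γ] {U W W' : Subgroup Γ}
    {P : Subgroup Γ} {x x' : Γ} (hU : IsElementaryAbelian 2 U) (hP : IsPGroup 3 P)
    (hPU : P ≤ normalizer (U : Set Γ)) (hPc : P ⊓ centralizer (U : Set Γ) = ⊥)
    (hx : x ∈ P) (hx' : x' ∈ P) (hW : W ≤ U) (hW' : W' ≤ U) (hW4 : Nat.card W = 4)
    (hW'4 : Nat.card W' = 4) (hsup : W ⊔ W' = U)
    (hxW : ∀ v ∈ U, ⁅v, x⁆ ∈ W) (hfx : Fpf W x)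
    (hx'W : ∀ v ∈ U, ⁅v, x'⁆ ∈ W') (hfx' : Fpf W' x') :
    W = W' ∨ ∀ w ∈ W', Commute w x := by
  have : Fact (Nat.Prime 3) := ⟨Nat.prime_three⟩
  have hcomU : ∀ v ∈ U, ∀ w ∈ U, Commute v w := fun v hv w hw =>
    PGroup.mul_comm_of_elementaryAbelian hU hv hw
  -- an element of `P` fixing `W` and the quotient is trivial
  have htriv : ∀ g ∈ P, (∀ w ∈ W, Commute w g) → (∀ v ∈ U, ⁅v, g⁆ ∈ W) → g = 1 := by
    intro g hg hgW hgU
    obtain ⟨k, hk⟩ := hP ⟨g, hg⟩
    have hk' : g ^ 3 ^ k = 1 := by simpa using congrArg Subtype.val hk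
    refine mem_bot.mp (hPc.le ⟨hg, fun v hv => ?_⟩)
    set w := ⁅v, g⁆ with hw
    have hpow : ∀ n : ℕ, ⁅v, g ^ n⁆ = w ^ n := by
      intro n
      induction n with
      | zero => simp
      | succ n ih =>
        rw [show ⁅v, g ^ (n + 1)⁆ = ⁅v, g ^ n⁆ * (g ^ n * ⁅v, g⁆ * (g ^ n)⁻¹) by
          simp only [commutatorElement_def, pow_succ]; group, ih, ← hw,
          show g ^ n * w * (g ^ n)⁻¹ = w from
            mul_inv_eq_iff_eq_mul.mpr ((hgW w (hgU v hv)).pow_right n).symm.eq, pow_succ]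
    have h3 := hpow (3 ^ k)
    rw [hk', commutatorElement_one_right] at h3
    have h2 : w ^ 2 = 1 := hU.2 _ (hW (hgU v hv))
    obtain ⟨j, hj⟩ := (Odd.pow (by decide : Odd 3) : Odd (3 ^ k))
    rw [hj, pow_succ, pow_mul, h2, one_pow, one_mul] at h3
    exact commutatorElement_eq_one_iff_mul_comm.mp h3.symm
  -- elements commuting with `x` act on `W`
  have hcomW : ∀ g ∈ P, Commute g x → g ∈ normalizer (W : Set Γ) := by
    intro g hg hgx
    refine Subnormal.mem_normalizer_of_cj_le ?_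
    rintro _ ⟨w, hw, rfl⟩
    have hsurj : ∀ w ∈ W, ∃ v ∈ U, ⁅v, x⁆ = w := by
      intro w hw
      let f : W → W := fun w => ⟨⁅(w : Γ), x⁆, hxW w (hW w.2)⟩
      have hf : Function.Injective f := by
        intro p q e
        have e' : ⁅(p : Γ), x⁆ = ⁅(q : Γ), x⁆ := congrArg Subtype.val e
        have h1 : Commute ((q : Γ)⁻¹ * p) x := by
          rw [commutatorElement_def, commutatorElement_def] at e'
          have e'' := congrArg (fun t => (q : Γ)⁻¹ * t * x * p) e'
          show (q : Γ)⁻¹ * p * x = x * ((q : Γ)⁻¹ * p)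
          simpa [mul_assoc] using e''
        exact Subtype.ext (inv_mul_eq_one.mp (hfx.2 _ (mul_mem (inv_mem q.2) p.2) h1)).symm
      obtain ⟨v, hv⟩ := (Finite.injective_iff_surjective.mp hf) ⟨w, hw⟩
      exact ⟨v, hW v.2, congrArg Subtype.val hv⟩
    obtain ⟨v, hv, rfl⟩ := hsurj w hw
    show g * ⁅v, x⁆ * g⁻¹ ∈ W
    rw [show g * ⁅v, x⁆ * g⁻¹ = ⁅g * v * g⁻¹, g * x * g⁻¹⁆ by
      simp only [commutatorElement_def]; group,
      show g * x * g⁻¹ = x from mul_inv_eq_iff_eq_mul.mpr hgx.eq]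
    exact hxW _ ((mem_normalizer_iff.mp (hPU hg) v).mp hv)
  -- `⟨x⟩` is normal in `P`
  set Z := zpowers x with hZ
  have hx1 : x ≠ 1 := fun e => by
    have h0 : W = ⊥ := (eq_bot_iff_forall W).mpr fun w hw => hfx.2 w hw (e ▸ Commute.one_right w)
    rw [h0, Subgroup.card_bot] at hW4
    omega
  have hx3 : x ^ 3 = 1 := by
    obtain ⟨k, hk⟩ := hP ⟨x, hx⟩
    obtain ⟨e, he⟩ := exists_pow_eq_self_of_coprime (x := x ^ 3) (n := 2) (by
      have : orderOf (x ^ 3) ∣ 3 ^ k := orderOf_dvd_of_pow_eq_one (by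
        rw [← pow_mul, mul_comm, pow_mul,
          show x ^ 3 ^ k = 1 by simpa using congrArg Subtype.val hk, one_pow])
      exact (((by norm_num : Nat.Coprime 2 3).pow_right k)).coprime_dvd_right this)
    rw [← he, ← pow_mul x 3 2]
    have h6 : x ^ (3 * 2) = 1 := by
      refine htriv _ (pow_mem hx _) (fun w hw => ?_) fun v hv => ?_
      · exact ((pow_six_mem hW4 hfx.1) w hw)
      · have : ∀ n : ℕ, ⁅v, x ^ n⁆ ∈ W := fun n => by
          induction n with
          | zero => simp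
          | succ n ih =>
            rw [show ⁅v, x ^ (n + 1)⁆ = ⁅v, x ^ n⁆ * (x ^ n * ⁅v, x⁆ * (x ^ n)⁻¹) by
              simp only [commutatorElement_def, pow_succ]; group]
            exact mul_mem ih ((mem_normalizer_iff.mp (pow_mem hfx.1 n) _).mp (hxW v hv))
        exact this _
    rw [h6, one_pow]
  have hord : orderOf x = 3 := orderOf_eq_prime hx3 hx1
  by_cases hinter : W ⊓ W' = ⊥
  swap
  · -- `W` and `W'` meet
    left
    obtain ⟨⟨w, hwW, hwW'⟩, hw1⟩ := ne_bot_iff_exists_ne_one.mp hinter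
    have h8 : Nat.card ↥U ≤ 8 := by
      have hn : W ≤ normalizer (W' : Set Γ) := fun a ha => Subgroup.centralizer_le_normalizer _
        fun b hb => hcomU b (hW' hb) a (hW ha)
      have e := Offender.card_sup_mul_card_inf hn
      rw [hsup, hW4, hW'4] at e
      have h2 : 2 ≤ Nat.card ↥(W ⊓ W') := by
        have : Nontrivial ↥(W ⊓ W') := ⟨⟨⟨w, hwW, hwW'⟩, 1, hw1⟩⟩
        exact Finite.one_lt_card
      nlinarith
    by_contra hne
    -- both act on `U / (W ∩ W')`; the fixed point `c` of `P`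
    have : Fact (Nat.Prime 2) := ⟨Nat.prime_two⟩
    set C := U ⊓ centralizer (P : Set Γ) with hC
    have hUne : ¬ W ≤ W' := fun hle => hne (eq_of_le_of_card_ge hle (by rw [hW4, hW'4]))
    have hU8 : Nat.card ↥U = 8 := by
      obtain ⟨n, hn⟩ := IsPGroup.iff_card.mp (PGroup.isPGroup_of_elementaryAbelian hU)
      have h4 : 4 < Nat.card ↥U := by
        rw [← hW4]
        refine (Set.toFinite _).card_lt_card (SetLike.coe_ssubset_coe.mpr (lt_of_le_of_ne hW fun e => hUne ?_))
        intro a ha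
        by_contra ha'
        have h1 : W' < W := lt_of_le_of_ne (hW'.trans e.ge) fun e' => ha' (e' ▸ ha)
        have := (Set.toFinite _).card_lt_card (SetLike.coe_ssubset_coe.mpr h1)
        change Nat.card W' < Nat.card W at this
        omega
      rw [hn] at h8 h4 ⊢
      have hn3 : n ≤ 3 := by
        by_contra hh
        push Not at hh
        have := Nat.pow_le_pow_right (show 1 ≤ 2 by norm_num) hh
        omega
      interval_cases n <;> omega
    have hCne : C ≠ ⊥ := by
      intro e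
      -- the 3-group `P` permutes seven involutions
      let act : MulAction ↥P {v : U // v ≠ 1} :=
        { smul := fun g v => ⟨⟨g * (v.1 : Γ) * (g : Γ)⁻¹,
            (mem_normalizer_iff.mp (hPU g.2) _).mp v.1.2⟩,
            fun h => v.2 (Subtype.ext (conj_eq_one_iff.mp (congrArg Subtype.val h)))⟩
          one_smul := fun v => Subtype.ext (Subtype.ext (by
            show ((1 : ↥P) : Γ) * v.1 * ((1 : ↥P) : Γ)⁻¹ = v.1
            simp))
          mul_smul := fun g g' v => Subtype.ext (Subtype.ext (by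
            show ((g * g' : ↥P) : Γ) * v.1 * ((g * g' : ↥P) : Γ)⁻¹ =
              g * (g' * v.1 * (g' : Γ)⁻¹) * (g : Γ)⁻¹
            rw [Subgroup.coe_mul]; group)) }
      classical
      have hc7 : Nat.card {v : U // v ≠ 1} = 7 := by
        have := Fintype.ofFinite U
        rw [Nat.card_eq_fintype_card, Fintype.card_subtype_compl, Fintype.card_subtype_eq,
          ← Nat.card_eq_fintype_card, hU8]
      obtain ⟨v, hv⟩ := hP.nonempty_fixed_point_of_prime_not_dvd_card {v : U // v ≠ 1}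
        (by rw [hc7]; decide)
      have hvc : (v.1 : Γ) ∈ centralizer (P : Set Γ) := fun g hg =>
        mul_inv_eq_iff_eq_mul.mp (congrArg (fun t : {v : U // v ≠ 1} => (t.1 : Γ)) (hv ⟨g, hg⟩))
      exact v.2 (Subtype.ext (mem_bot.mp (e.le (mem_inf.mpr ⟨v.1.2, hvc⟩))))
    obtain ⟨⟨c, hcU, hcP⟩, hc1⟩ := ne_bot_iff_exists_ne_one.mp hCne
    -- `x'` or `x'⁻¹` agrees with `x` on `U / ⟨c⟩`
    have hQ : ∀ g ∈ P, (∀ v ∈ U, ∃ i : ℤ, ⁅v, g⁆ = c ^ i) → g = 1 := by
      intro g hg hgc
      refine mem_bot.mp (hPc.le ⟨hg, fun v hv => ?_⟩)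
      obtain ⟨k, hk⟩ := hP ⟨g, hg⟩
      have hk' : g ^ 3 ^ k = 1 := by simpa using congrArg Subtype.val hk
      obtain ⟨i, hi⟩ := hgc v hv
      have hgc' : Commute g c := hcP g hg
      have hpow : ∀ n : ℕ, ⁅v, g ^ n⁆ = (c ^ i) ^ n := by
        intro n
        induction n with
        | zero => simp
        | succ n ih =>
          rw [show ⁅v, g ^ (n + 1)⁆ = ⁅v, g ^ n⁆ * (g ^ n * ⁅v, g⁆ * (g ^ n)⁻¹) by
            simp only [commutatorElement_def, pow_succ]; group, ih, hi,
            show g ^ n * c ^ i * (g ^ n)⁻¹ = c ^ i from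
              mul_inv_eq_iff_eq_mul.mpr ((hgc'.pow_left n).zpow_right i).eq, pow_succ]
      have h3 := hpow (3 ^ k)
      rw [hk', commutatorElement_one_right] at h3
      have h2 : (c ^ i) ^ 2 = 1 := by
        rw [← zpow_natCast, ← zpow_mul, mul_comm, zpow_mul, zpow_natCast, hU.2 c hcU, one_zpow]
      obtain ⟨j, hj⟩ := (Odd.pow (by decide : Odd 3) : Odd (3 ^ k))
      rw [hj, pow_succ, pow_mul, h2, one_pow, one_mul] at h3
      exact commutatorElement_eq_one_iff_mul_comm.mp (hi.trans h3.symm)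
    -- `P` embeds in the automorphisms of `U / ⟨c⟩`
    set C₀ := zpowers c with hC₀
    have hC₀U : C₀ ≤ U := zpowers_le.mpr hcU
    have hnC : U ⊔ P ≤ normalizer (C₀ : Set Γ) := by
      refine sup_le (fun v hv => ?_) fun g hg => ?_
      · exact Subgroup.centralizer_le_normalizer _ fun b hb => hcomU b (hC₀U hb) v hv
      · refine Subgroup.centralizer_le_normalizer _ ?_
        rintro _ ⟨i, rfl⟩
        exact ((show Commute g c from hcP g hg).zpow_right i).symm
    set H := U ⊔ P with hH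
    have : (C₀.subgroupOf H).Normal :=
      (normal_subgroupOf_iff_le_normalizer (hC₀U.trans le_sup_left)).mpr hnC
    set q := QuotientGroup.mk' (C₀.subgroupOf H) with hq
    have hq1 : ∀ g : ↥H, q g = 1 ↔ (g : Γ) ∈ C₀ := fun g =>
      (QuotientGroup.eq_one_iff g).trans mem_subgroupOf
    set U' := (U.subgroupOf H).map q with hU'
    have hU'4 : Nat.card U' = 4 := by
      have h1 : (q.ker).relIndex (U.subgroupOf H) = 4 := by
        rw [hq, QuotientGroup.ker_mk', subgroupOf, subgroupOf, relIndex_comap,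
          map_comap_eq_self (by rw [range_subtype]; exact le_sup_left)]
        have := relIndex_mul_relIndex ⊥ C₀ U bot_le hC₀U
        rw [relIndex_bot_left, relIndex_bot_left, hU8, Nat.card_zpowers,
          orderOf_eq_prime (hU.2 c hcU) (fun h => hc1 (Subtype.ext h))] at this
        omega
      rw [← relIndex_ker] at *
      exact h1
    have hmemN : ∀ g : ↥H, q g ∈ normalizer (U' : Set (↥H ⧸ C₀.subgroupOf H)) := by
      intro g
      refine le_normalizer_map q ⟨g, ?_, rfl⟩
      refine mem_normalizer_iff.mpr fun w => ?_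
      exact mem_normalizer_iff.mp ((sup_le le_normalizer hPU : H ≤ normalizer (U : Set Γ)) g.2) (w : Γ)
    have hker : ∀ g (hg : g ∈ P),
        q ⟨g, mem_sup_right hg⟩ ∈ centralizer (U' : Set (↥H ⧸ C₀.subgroupOf H)) → g = 1 := by
      intro g hg hgc
      refine hQ g hg fun v hv => ?_
      have h1 : q ⟨v, mem_sup_left hv⟩ ∈ U' := ⟨_, hv, rfl⟩
      have h2 := commutatorElement_eq_one_iff_mul_comm.mpr (hgc _ h1)
      rw [← map_commutatorElement, hq1] at h2
      obtain ⟨i, hi⟩ := mem_zpowers_iff.mp h2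
      exact ⟨i, hi.symm⟩
    obtain ⟨ρ, hk, -⟩ := exists_perm hU'4
    set X : ↥(normalizer (U' : Set (↥H ⧸ C₀.subgroupOf H))) :=
      ⟨q ⟨x, mem_sup_right hx⟩, hmemN _⟩
    set X' : ↥(normalizer (U' : Set (↥H ⧸ C₀.subgroupOf H))) :=
      ⟨q ⟨x', mem_sup_right hx'⟩, hmemN _⟩
    have hx'3 : ρ X' ^ 2 * ρ X' ^ 2 * ρ X' ^ 2 = 1 := by
      generalize ρ X' = σ; revert σ; decide +kernel
    have hxne : ρ X ≠ 1 := fun e => hx1 (hker x hx ((hk X).mp e))
    have hx3' : ρ X ^ 3 = 1 := by
      rw [← map_pow, hk]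
      have : (X : ↥(normalizer (U' : Set (↥H ⧸ C₀.subgroupOf H)))) ^ 3 = 1 := by
        refine Subtype.ext ?_
        show q ⟨x, mem_sup_right hx⟩ ^ 3 = 1
        rw [← map_pow, hq1]
        show x ^ 3 ∈ C₀
        rw [hx3]; exact one_mem _
      rw [this]; exact one_mem _
    obtain ⟨k', hk'⟩ := hP ⟨x', hx'⟩
    have hodd' : ρ X' ^ 3 ^ k' = 1 := by
      rw [← map_pow, hk]
      have : X' ^ 3 ^ k' = 1 := by
        refine Subtype.ext ?_
        show q ⟨x', mem_sup_right hx'⟩ ^ 3 ^ k' = 1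
        rw [← map_pow, hq1]
        show x' ^ 3 ^ k' ∈ C₀
        rw [show x' ^ 3 ^ k' = 1 by simpa using congrArg Subtype.val hk']
        exact one_mem _
      rw [this]; exact one_mem _
    have hcases : ρ X' = 1 ∨ ρ X' = ρ X ∨ ρ X' = (ρ X)⁻¹ := by
      have h3 : ρ X' ^ 3 = 1 := by
        rcases k' with _ | k'
        · rw [pow_zero, pow_one] at hodd'; rw [hodd', one_pow]
        · obtain ⟨j, hj⟩ := (Odd.pow (by decide : Odd 3) : Odd (3 ^ (k' + 1)))
          have hd : ρ X' ^ 6 = 1 := by generalize ρ X' = σ; revert σ; decide +kernel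
          have h33 : ρ X' ^ (3 * (3 ^ k')) = 1 := by rw [← pow_succ']; exact hodd'
          obtain ⟨i, hi⟩ := (Odd.pow (by decide : Odd 3) : Odd (3 ^ k'))
          rw [hi, show 3 * (2 * i + 1) = 6 * i + 3 by ring, pow_add, pow_mul, hd, one_pow,
            one_mul] at h33
          exact h33
      generalize ρ X = σ at hxne hx3'
      generalize ρ X' = τ at h3
      revert σ τ; decide +kernel
    have hx'1 : x' ≠ 1 := fun e => by
      have h0 : W' = ⊥ :=
        (eq_bot_iff_forall W').mpr fun w hw => hfx'.2 w hw (e ▸ Commute.one_right w)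
      rw [h0, Subgroup.card_bot] at hW'4
      omega
    have hcomm_eq : x' = x ∨ x' = x⁻¹ := by
      rcases hcases with e | e | e
      · exact absurd (hker x' hx' ((hk X').mp e)) hx'1
      · left
        refine (inv_mul_eq_one.mp (hker (x⁻¹ * x') (mul_mem (inv_mem hx) hx') ?_)).symm
        have := (hk (X⁻¹ * X')).mp (by rw [map_mul, map_inv, e, inv_mul_cancel])
        exact this
      · right
        refine eq_inv_of_mul_eq_one_right (hker (x * x') (mul_mem hx hx') ?_)
        exact (hk (X * X')).mp (by rw [map_mul, e, mul_inv_cancel])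
    refine hne ?_
    have hWle : W' ≤ W := by
      have he : W' ⊓ W = W' := by
        refine eq_of_le_four hW'4 inf_le_left (fun e => ?_) hfx' fun v hv => ⟨?_, ?_⟩
        · exact hw1 (Subtype.ext (mem_bot.mp (e.le ⟨hwW', hwW⟩)))
        · exact (mem_normalizer_iff.mp hfx'.1 v).mp hv.1
        · rcases hcomm_eq with e | e <;> rw [e]
          · exact (mem_normalizer_iff.mp hfx.1 v).mp hv.2
          · exact (mem_normalizer_iff.mp (inv_mem hfx.1) v).mp hv.2
      exact inf_eq_left.mp he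
    exact (eq_of_le_of_card_ge hWle (by rw [hW4, hW'4])).symm
  -- `W` and `W'` are independent, `|U| = 16`
  right
  have hU16 : Nat.card ↥U = 16 := by
    have hn : W ≤ normalizer (W' : Set Γ) := fun a ha => Subgroup.centralizer_le_normalizer _
      fun b hb => hcomU b (hW' hb) a (hW ha)
    have e := Offender.card_sup_mul_card_inf hn
    rw [hsup, hinter, Subgroup.card_bot, mul_one, hW4, hW'4] at e
    exact e
  have hZP : Z ≤ P := zpowers_le.mpr hx
  set N := P ⊓ normalizer (Z : Set Γ) with hN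
  -- elements of `N` centralize `x`
  have hNc : ∀ g ∈ N, Commute g x := by
    intro g hg
    obtain ⟨hgP, hgZ⟩ := hg
    obtain ⟨i, hi⟩ := mem_zpowers_iff.mp ((mem_normalizer_iff.mp hgZ x).mp (mem_zpowers x))
    have h3 : (x : Γ) ^ (3 : ℤ) = 1 := by rw [show (3:ℤ) = ((3:ℕ):ℤ) from rfl, zpow_natCast, hx3]
    have hmod : x ^ i = x ^ (i % 3) := by
      conv_lhs => rw [show i = i % 3 + 3 * (i / 3) by omega, zpow_add, zpow_mul, h3, one_zpow, mul_one]
    rw [hmod] at hi
    have h0 := Int.emod_nonneg i (show (3 : ℤ) ≠ 0 by norm_num)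
    have h1 := Int.emod_lt_of_pos i (show (0 : ℤ) < 3 by norm_num)
    rcases (show i % 3 = 0 ∨ i % 3 = 1 ∨ i % 3 = 2 by omega) with e | e | e <;> rw [e] at hi
    · rw [zpow_zero] at hi
      exact absurd (conj_eq_one_iff.mp hi.symm) hx1
    · rw [zpow_one] at hi
      exact mul_inv_eq_iff_eq_mul.mp hi.symm
    · -- inversion by an element of odd order
      exfalso
      have hinv : g * x * g⁻¹ = x⁻¹ := by
        rw [← hi, eq_inv_iff_mul_eq_one, ← zpow_add_one]
        exact h3
      obtain ⟨k, hk⟩ := hP ⟨g, hgP⟩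
      have hk' : g ^ 3 ^ k = 1 := by simpa using congrArg Subtype.val hk
      have hiter : ∀ n : ℕ, g ^ (2 * n + 1) * x * (g ^ (2 * n + 1))⁻¹ = x⁻¹ := by
        intro n
        induction n with
        | zero => simpa using hinv
        | succ n ih =>
          rw [show 2 * (n + 1) + 1 = 2 + (2 * n + 1) by ring, pow_add,
            show g ^ 2 * g ^ (2 * n + 1) * x * (g ^ 2 * g ^ (2 * n + 1))⁻¹ =
              g * (g * (g ^ (2 * n + 1) * x * (g ^ (2 * n + 1))⁻¹) * g⁻¹) * g⁻¹ by
              simp only [sq]; group, ih,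
            show g * x⁻¹ * g⁻¹ = (g * x * g⁻¹)⁻¹ by group, hinv, inv_inv, hinv]
      obtain ⟨j, hj⟩ := (Odd.pow (by decide : Odd 3) : Odd (3 ^ k))
      have := hiter j
      rw [← hj, hk', one_mul, inv_one, mul_one] at this
      refine hx1 ?_
      have e2 : x * x = 1 := by nth_rewrite 2 [this]; rw [mul_inv_cancel]
      rw [← hx3, pow_succ, sq, e2, one_mul]
  -- normal in `P`
  have hnorm : P ≤ normalizer (Z : Set Γ) := by
    by_contra hcon
    have hlt : N < P := lt_of_le_of_ne inf_le_left fun e => hcon (e.ge.trans inf_le_right)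
    have hgr : ∃ y ∈ P, y ∉ N ∧ y ∈ normalizer (N : Set Γ) := by
      have h1 : N.subgroupOf P < ⊤ := lt_of_le_of_ne le_top fun e =>
        hlt.not_ge (subgroupOf_eq_top.mp e)
      have h2 := PGroup.lt_normalizer (IsPGroup.of_equiv hP (MulEquiv.refl _)) h1.ne
      obtain ⟨⟨y, hyP⟩, hy1, hy2⟩ := SetLike.exists_of_lt h2
      refine ⟨y, hyP, hy2, mem_normalizer_iff.mpr fun n => ?_⟩
      constructor
      · intro hn
        exact (mem_normalizer_iff.mp hy1 ⟨n, hlt.le hn⟩).mp hn
      · intro hn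
        have hnP : n ∈ P := by
          have := mul_mem (mul_mem (inv_mem hyP) (hlt.le hn)) hyP
          simpa [mul_assoc] using this
        exact (mem_normalizer_iff.mp hy1 ⟨n, hnP⟩).mpr hn
    obtain ⟨y, hyP, hyN, hyn⟩ := hgr
    -- conjugates of `x` by powers of `y` move `W`, or its complement
    have hxN : x ∈ N := ⟨hx, le_normalizer (mem_zpowers x)⟩
    have hyU : ∀ v ∈ U, y * v * y⁻¹ ∈ U := fun v hv => (mem_normalizer_iff.mp (hPU hyP) v).mp hv
    have hyU' : ∀ v ∈ U, y⁻¹ * v * y ∈ U := fun v hv =>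
      (mem_normalizer_iff''.mp (hPU hyP) v).mp hv
    -- data of a conjugate of `x` in `N`
    have hdata : ∀ g ∈ P, g * x * g⁻¹ ∈ N →
        Commute (g * x * g⁻¹) x ∧
        (∀ v ∈ U, ⁅v, g * x * g⁻¹⁆ ∈ W.map (MulAut.conj g).toMonoidHom) ∧
        W.map (MulAut.conj g).toMonoidHom ≤ U ∧
        Fpf (W.map (MulAut.conj g).toMonoidHom) (g * x * g⁻¹) := by
      intro g hg hgN
      have hgU : ∀ v ∈ U, g⁻¹ * v * g ∈ U := fun v hv =>
        (mem_normalizer_iff''.mp (hPU hg) v).mp hv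
      refine ⟨hNc _ hgN, fun v hv => ⟨⁅g⁻¹ * v * g, x⁆, hxW _ (hgU v hv), by
        simp only [MulEquiv.toMonoidHom_eq_coe, MonoidHom.coe_coe, MulAut.conj_apply,
          commutatorElement_def]; group⟩, ?_, ?_, ?_⟩
      · rintro _ ⟨w, hw, rfl⟩
        exact (mem_normalizer_iff.mp (hPU hg) w).mp (hW hw)
      · exact le_normalizer_map _ ⟨x, hfx.1, rfl⟩
      · rintro _ ⟨w, hw, rfl⟩ hc
        have hc' : Commute w x := by
          have := hc.map (MulAut.conj g⁻¹).toMonoidHom
          simpa [mul_assoc] using this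
        rw [hfx.2 w hw hc']
        exact map_one _
    have hyxN : y * x * y⁻¹ ∈ N := (mem_normalizer_iff.mp hyn x).mp hxN
    have hy2xN : y * y * x * (y * y)⁻¹ ∈ N := by
      rw [show y * y * x * (y * y)⁻¹ = y * (y * x * y⁻¹) * y⁻¹ by group]
      exact (mem_normalizer_iff.mp hyn _).mp hyxN
    -- a commuting conjugate with the same four-group gives `g ∈ N`
    have hsame : ∀ g ∈ P, g * x * g⁻¹ ∈ N → W.map (MulAut.conj g).toMonoidHom = W →
        g ∈ N := by
      intro g hg hgN e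
      refine ⟨hg, ?_⟩
      obtain ⟨hc, hcm, -, hf⟩ := hdata g hg hgN
      rw [e] at hf hcm
      set z := g * x * g⁻¹ with hz
      have hfz := hf.1
      have hzP : z ∈ P := hgN.1
      -- on `W` it agrees with `x` or `x⁻¹`
      obtain ⟨ρ, hk, hfix⟩ := exists_perm hW4
      set x₁ : ↥(normalizer (W : Set Γ)) := ⟨x, hfx.1⟩
      set z₁ : ↥(normalizer (W : Set Γ)) := ⟨z, hfz⟩
      have hno : ∀ t : ↥(normalizer (W : Set Γ)), Fpf W (t : Γ) → ∀ i, ρ t i ≠ i := fun t ht i hi => by
        obtain ⟨w, hw, hw1, hc⟩ := (hfix t).mp ⟨i, hi⟩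
        exact hw1 (ht.2 w hw hc.symm)
      have hdis : ρ (z₁ * x₁) = 1 ∨ ρ (z₁ * x₁⁻¹) = 1 := by
        have h1 := hno z₁ hf
        have h2 := hno x₁ hfx
        simp only [map_mul, map_inv]
        generalize ρ z₁ = σ at h1
        generalize ρ x₁ = τ at h2
        revert σ τ; decide +kernel
      have hxinv : ∀ v ∈ U, ⁅v, x⁻¹⁆ ∈ W := fun v hv => by
        rw [show ⁅v, x⁻¹⁆ = x⁻¹ * ⁅v, x⁆⁻¹ * x⁻¹⁻¹ by simp only [commutatorElement_def]; group]
        exact (mem_normalizer_iff.mp (inv_mem hfx.1) _).mp (inv_mem (hxW v hv))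
      have hzx : z = x ∨ z = x⁻¹ := by
        rcases hdis with e' | e'
        · right
          refine eq_inv_of_mul_eq_one_left (htriv _ (mul_mem hzP hx)
            (fun w hw => (hk (z₁ * x₁)).mp e' w hw) fun v hv => ?_)
          rw [show ⁅v, z * x⁆ = ⁅v, z⁆ * (z * ⁅v, x⁆ * z⁻¹) by
            simp only [commutatorElement_def]; group]
          exact mul_mem (hcm v hv) ((mem_normalizer_iff.mp hfz _).mp (hxW v hv))
        · left
          refine mul_inv_eq_one.mp (htriv _ (mul_mem hzP (inv_mem hx))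
            (fun w hw => (hk (z₁ * x₁⁻¹)).mp e' w hw) fun v hv => ?_)
          rw [show ⁅v, z * x⁻¹⁆ = ⁅v, z⁆ * (z * ⁅v, x⁻¹⁆ * z⁻¹) by
            simp only [commutatorElement_def]; group]
          exact mul_mem (hcm v hv) ((mem_normalizer_iff.mp hfz _).mp (hxinv v hv))
      refine Subnormal.mem_normalizer_of_cj_le ?_
      rw [Subnormal.cj, map_le_iff_le_comap, hZ, zpowers_le]
      show g * x * g⁻¹ ∈ zpowers x
      rw [← hz]
      rcases hzx with e' | e' <;> rw [e']
      · exact mem_zpowers x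
      · exact inv_mem (mem_zpowers x)
    -- a commuting conjugate has the same four-group or the centralized complement
    have hdic : ∀ g ∈ P, g * x * g⁻¹ ∈ N → W.map (MulAut.conj g).toMonoidHom = W ∨
        W.map (MulAut.conj g).toMonoidHom = U ⊓ centralizer ({x} : Set Γ) := by
      intro g hg hgN
      obtain ⟨hc, hcm, hle, hf⟩ := hdata g hg hgN
      set Wg := W.map (MulAut.conj g).toMonoidHom with hWg
      have hWg4 : Nat.card Wg = 4 := by
        rw [hWg, card_map_of_injective (MulAut.conj g).injective, hW4]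
      set z := g * x * g⁻¹ with hz
      by_cases hI : Wg ⊓ W = ⊥
      · right
        have hzW : z ∈ normalizer (W : Set Γ) := hcomW z hgN.1 hc
        -- `x` centralizes `W^g` as `x` normalizes it and `[W^g, x] ≤ W`
        have hxWg : x ∈ normalizer (Wg : Set Γ) := by
          refine Subnormal.mem_normalizer_of_cj_le ?_
          rintro _ ⟨w, hw, rfl⟩
          let f : Wg → Wg := fun w => ⟨⁅(w : Γ), z⁆, hcm w (hle w.2)⟩
          have hinj : Function.Injective f := by
            intro p q e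
            have e' : ⁅(p : Γ), z⁆ = ⁅(q : Γ), z⁆ := congrArg Subtype.val e
            have h1 : Commute ((q : Γ)⁻¹ * p) z := by
              rw [commutatorElement_def, commutatorElement_def] at e'
              have e'' := congrArg (fun t => (q : Γ)⁻¹ * t * z * p) e'
              show (q : Γ)⁻¹ * p * z = z * ((q : Γ)⁻¹ * p)
              simpa [mul_assoc] using e''
            exact Subtype.ext (inv_mul_eq_one.mp (hf.2 _ (mul_mem (inv_mem q.2) p.2) h1)).symm
          obtain ⟨v, hv⟩ := (Finite.injective_iff_surjective.mp hinj) ⟨w, hw⟩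
          have hv' : ⁅(v : Γ), z⁆ = w := congrArg Subtype.val hv
          show x * w * x⁻¹ ∈ Wg
          rw [← hv', show x * ⁅(v : Γ), z⁆ * x⁻¹ = ⁅x * v * x⁻¹, x * z * x⁻¹⁆ by
            simp only [commutatorElement_def]; group,
            show x * z * x⁻¹ = z from mul_inv_eq_iff_eq_mul.mpr hc.symm.eq]
          exact hcm _ ((mem_normalizer_iff.mp (hPU hx) _).mp (hle v.2))
        have hWgc : Wg ≤ U ⊓ centralizer ({x} : Set Γ) := fun w hw => ⟨hle hw, by
          refine mem_centralizer_singleton_iff.mpr (commutatorElement_eq_one_iff_mul_comm.mp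
            (mem_bot.mp (hI.le ⟨?_, hxW w (hle hw)⟩)))
          rw [commutatorElement_def, show w * x * w⁻¹ * x⁻¹ = w * (x * w⁻¹ * x⁻¹) by group]
          exact mul_mem hw ((mem_normalizer_iff.mp hxWg _).mp (inv_mem hw))⟩
        refine eq_of_le_of_card_ge hWgc ?_
        have hd : W ⊓ (U ⊓ centralizer ({x} : Set Γ)) = ⊥ := (eq_bot_iff_forall _).mpr fun v hv =>
          hfx.2 v hv.1 (mem_centralizer_singleton_iff.mp hv.2.2)
        have hn : W ≤ normalizer ((U ⊓ centralizer ({x} : Set Γ) : Subgroup Γ) : Set Γ) :=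
          fun a ha => Subgroup.centralizer_le_normalizer _ fun b hb => hcomU b hb.1 a (hW ha)
        have e := Offender.card_sup_mul_card_inf hn
        rw [hd, Subgroup.card_bot, mul_one, hW4] at e
        have := card_le_of_le (sup_le hW inf_le_left :
          W ⊔ U ⊓ centralizer ({x} : Set Γ) ≤ U)
        rw [hWg4]
        omega
      · left
        have hzW : z ∈ normalizer (W : Set Γ) := hcomW z hgN.1 hc
        have he : Wg ⊓ W = Wg := eq_of_le_four hWg4 inf_le_left hI hf fun v hv =>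
          ⟨(mem_normalizer_iff.mp hf.1 v).mp hv.1, (mem_normalizer_iff.mp hzW v).mp hv.2⟩
        exact eq_of_le_of_card_ge (inf_eq_left.mp he) (by rw [hW4, hWg4])
    rcases hdic y hyP hyxN with e | e
    · exact hyN (hsame y hyP hyxN e)
    rcases hdic (y * y) (mul_mem hyP hyP) hy2xN with e2 | e2
    · -- `y² ∈ N`, so `y ∈ N`
      have h2 := hsame _ (mul_mem hyP hyP) hy2xN e2
      obtain ⟨k, hk⟩ := hP ⟨y, hyP⟩
      have hk' : y ^ 3 ^ k = 1 := by simpa using congrArg Subtype.val hk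
      obtain ⟨j, hj⟩ := (Odd.pow (by decide : Odd 3) : Odd (3 ^ k))
      have e3 : y = ((y * y) ^ j)⁻¹ := by
        refine eq_inv_of_mul_eq_one_left ?_
        rw [← sq, ← pow_mul, ← pow_succ', ← hj, hk']
      exact hyN (e3 ▸ inv_mem (pow_mem h2 j))
    · -- `y` would map `C_U(x)` to itself
      refine hyN (hsame y hyP hyxN ?_)
      rw [show W.map (MulAut.conj (y * y)).toMonoidHom =
        (W.map (MulAut.conj y).toMonoidHom).map (MulAut.conj y).toMonoidHom by
          rw [Subgroup.map_map]; congr 1; ext v; simp [mul_assoc], ← e] at e2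
      exact map_injective (MulAut.conj y).injective e2
  have hcx : Commute x' x := hNc x' ⟨hx', hnorm hx'⟩
  have hx'N : x' ∈ normalizer (W : Set Γ) := hcomW x' hx' hcx
  -- `[W, x'] ≤ W ∩ W' = 1`
  intro w hw
  -- `x` normalizes `W'` as well
  let f : W' → W' := fun w => ⟨⁅(w : Γ), x'⁆, hx'W w (hW' w.2)⟩
  have hinj : Function.Injective f := by
    intro p q e
    have e' : ⁅(p : Γ), x'⁆ = ⁅(q : Γ), x'⁆ := congrArg Subtype.val e
    have h1 : Commute ((q : Γ)⁻¹ * p) x' := by
      rw [commutatorElement_def, commutatorElement_def] at e'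
      have e'' := congrArg (fun t => (q : Γ)⁻¹ * t * x' * p) e'
      show (q : Γ)⁻¹ * p * x' = x' * ((q : Γ)⁻¹ * p)
      simpa [mul_assoc] using e''
    exact Subtype.ext (inv_mul_eq_one.mp (hfx'.2 _ (mul_mem (inv_mem q.2) p.2) h1)).symm
  have hxw : x * w * x⁻¹ ∈ W' := by
    obtain ⟨v, hv⟩ := (Finite.injective_iff_surjective.mp hinj) ⟨w, hw⟩
    have hv' : ⁅(v : Γ), x'⁆ = w := congrArg Subtype.val hv
    rw [← hv', show x * ⁅(v : Γ), x'⁆ * x⁻¹ = ⁅x * v * x⁻¹, x * x' * x⁻¹⁆ by
      simp only [commutatorElement_def]; group,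
      show x * x' * x⁻¹ = x' from mul_inv_eq_iff_eq_mul.mpr hcx.symm.eq]
    exact hx'W _ ((mem_normalizer_iff.mp (hPU hx) _).mp (hW' v.2))
  refine commutatorElement_eq_one_iff_mul_comm.mp (mem_bot.mp (hinter.le ⟨hxW w (hW' hw), ?_⟩))
  rw [commutatorElement_def, show w * x * w⁻¹ * x⁻¹ = w * (x * w⁻¹ * x⁻¹) by group]
  refine mul_mem (S := Subgroup Γ) hw ?_
  rw [show x * w⁻¹ * x⁻¹ = (x * w * x⁻¹)⁻¹ by group]
  exact inv_mem hxw


/-- `pair_of_isPGroup_three` for elements acting as a 3-group on `U`. -/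
theorem pair_of_three_power {U W W' : Subgroup G} {x x' : G} (hU : IsElementaryAbelian 2 U)
    (hxU : x ∈ normalizer (U : Set G)) (hx'U : x' ∈ normalizer (U : Set G))
    (h3 : ∀ g ∈ closure ({x, x'} : Set G), ∃ k : ℕ, g ^ 3 ^ k ∈ centralizer (U : Set G))
    (hW : W ≤ U) (hW' : W' ≤ U) (hW4 : Nat.card W = 4) (hW'4 : Nat.card W' = 4)
    (hsup : W ⊔ W' = U) (hxW : ∀ v ∈ U, ⁅v, x⁆ ∈ W) (hfx : Fpf W x)
    (hx'W : ∀ v ∈ U, ⁅v, x'⁆ ∈ W') (hfx' : Fpf W' x') :
    W = W' ∨ ∀ w ∈ W', Commute w x := by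
  set H := normalizer (U : Set G) with hH
  set V := U.subgroupOf H with hV
  have hUH : U ≤ H := le_normalizer
  set Γ := Offender.Model V
  set π := Offender.toModel V
  set ι := Offender.ofV V
  have hι := Offender.ofV_injective V
  let im : Subgroup G → Subgroup Γ := fun W => ((W.subgroupOf H).subgroupOf V).map ι
  have hmem : ∀ (W : Subgroup G) (v : V), ι v ∈ im W ↔ ((v : H) : G) ∈ W := fun W v =>
    mem_model_iff V
  set P := ((closure ({x, x'} : Set G)).subgroupOf H).map π with hP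
  have hcl : closure ({x, x'} : Set G) ≤ H :=
    (closure_le _).mpr (Set.insert_subset hxU (Set.singleton_subset_iff.mpr hx'U))
  have hxy : ∀ g (hg : g ∈ H), g ∈ ({x, x'} : Set G) → π ⟨g, hg⟩ ∈ P := fun g hg h =>
    ⟨⟨g, hg⟩, subset_closure h, rfl⟩
  have hcard : ∀ W : Subgroup G, W ≤ U → Nat.card (im W) = Nat.card W := fun W hW => by
    rw [card_map_of_injective hι,
      Coprime.card_subgroupOf (show W.subgroupOf H ≤ V from fun w hw => hW hw),
      Coprime.card_subgroupOf (hW.trans hUH)]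
  have hU₁ : IsElementaryAbelian 2 (Offender.modelV V) := by
    rw [Offender.modelV, MonoidHom.range_eq_map]
    exact PGroup.isElementaryAbelian_map
      (PGroup.isElementaryAbelian_comap (PGroup.isElementaryAbelian_comap hU H.subtype_injective)
        V.subtype_injective |> fun h => by
          have e : (((U.subgroupOf H)).comap V.subtype) = ⊤ := eq_top_iff.mpr fun v _ => v.2
          exact e ▸ h) _
  have hP3 : IsPGroup 3 P := by
    rintro ⟨_, g, hg, rfl⟩
    obtain ⟨k, hk⟩ := h3 g hg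
    refine ⟨k, Subtype.ext ?_⟩
    show (π g) ^ 3 ^ k = 1
    rw [← map_pow, toModel_eq_one_iff]
    intro v hv
    exact Subtype.ext (by simpa using hk (v : G) hv)
  have hPU : P ≤ normalizer (Offender.modelV V : Set Γ) := by
    rintro _ ⟨g, -, rfl⟩
    refine Subnormal.mem_normalizer_of_cj_le ?_
    rintro _ ⟨_, ⟨v, rfl⟩, rfl⟩
    exact ⟨_, (Offender.toModel_conj V g v).symm⟩
  have hPc : P ⊓ centralizer (Offender.modelV V : Set Γ) = ⊥ := by
    refine (eq_bot_iff_forall _).mpr ?_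
    rintro _ ⟨⟨g, -, rfl⟩, hc⟩
    refine (toModel_eq_one_iff V).mpr fun v hv => ?_
    exact ((commute_toModel_iff V g ⟨v, hv⟩).mp (hc _ ⟨_, rfl⟩)).eq
  have hbr : ∀ (W : Subgroup G) (g : G) (hg : g ∈ H), (∀ v ∈ U, ⁅v, g⁆ ∈ W) →
      ∀ v ∈ Offender.modelV V, ⁅v, π ⟨g, hg⟩⁆ ∈ im W := by
    rintro W g hg hW _ ⟨v, rfl⟩
    rw [bracket_toModel, hmem, bracket_coe]
    exact hW _ v.2
  have hfpf : ∀ (W : Subgroup G) (g : G) (hg : g ∈ H), Fpf W g → Fpf (im W) (π ⟨g, hg⟩) := by
    intro W g hg hf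
    refine ⟨Subnormal.mem_normalizer_of_cj_le ?_, ?_⟩
    · rintro _ ⟨_, ⟨v, hv, rfl⟩, rfl⟩
      show π ⟨g, hg⟩ * ι v * (π ⟨g, hg⟩)⁻¹ ∈ im W
      rw [Offender.toModel_conj, hmem]
      exact (mem_normalizer_iff.mp hf.1 _).mp hv
    · rintro _ ⟨v, hv, rfl⟩ hc
      have h1 := congrArg Subtype.val ((commute_toModel_iff V ⟨g, hg⟩ v).mp hc)
      rw [show v = 1 from Subtype.ext (Subtype.ext (hf.2 _ hv h1)), map_one]
  have hle : ∀ W : Subgroup G, im W ≤ Offender.modelV V := fun W => by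
    rintro _ ⟨v, -, rfl⟩; exact ⟨v, rfl⟩
  have hsup' : im W ⊔ im W' = Offender.modelV V := by
    refine le_antisymm (sup_le (hle W) (hle W')) ?_
    rintro _ ⟨v, rfl⟩
    have hn : W ≤ normalizer (W' : Set G) := fun a ha => Subgroup.centralizer_le_normalizer _
      fun b hb => PGroup.mul_comm_of_elementaryAbelian hU (hW' hb) (hW ha)
    obtain ⟨w, hw, w', hw', e⟩ :=
      (Coprime.mem_sup_iff_of_le_normalizer hn).mp (hsup.ge v.2)
    have e' : v = (⟨⟨w, hUH (hW hw)⟩, hW hw⟩ : V) * ⟨⟨w', hUH (hW' hw')⟩, hW' hw'⟩ :=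
      Subtype.ext (Subtype.ext e.symm)
    rw [e', map_mul]
    exact mul_mem (mem_sup_left ((hmem W _).mpr hw)) (mem_sup_right ((hmem W' _).mpr hw'))
  rcases pair_of_isPGroup_three hU₁ hP3 hPU hPc (hxy x hxU (Set.mem_insert _ _))
      (hxy x' hx'U (Set.mem_insert_of_mem _ rfl)) (hle W) (hle W') (by rw [hcard W hW, hW4])
      (by rw [hcard W' hW', hW'4]) hsup' (hbr W x hxU hxW) (hfpf W x hxU hfx)
      (hbr W' x' hx'U hx'W) (hfpf W' x' hx'U hfx') with e | e
  · left
    refine le_antisymm (fun w hw => ?_) fun w hw => ?_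
    · exact (hmem W' ⟨⟨w, hUH (hW hw)⟩, hW hw⟩).mp (e.le ((hmem W _).mpr hw))
    · exact (hmem W ⟨⟨w, hUH (hW' hw)⟩, hW' hw⟩).mp (e.ge ((hmem W' _).mpr hw))
  · right
    intro w hw
    exact congrArg Subtype.val ((commute_toModel_iff V ⟨x, hxU⟩ ⟨⟨w, hUH (hW' hw)⟩, hW' hw⟩).mp
      (e _ ((hmem W' _).mpr hw)))

section Orbit

variable {X K : Subgroup G} (hp : Pre K) (hW4 : Nat.card (wOf K) = 4) (hKX : K ≤ X)
  (hs : (K.subgroupOf X).IsSubnormal)
include hp hW4 hKX hs

/-- `O₂(X)` centralizes `W`. -/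
theorem pCoreOf_le_centralizer : pCoreOf 2 X ≤ centralizer (wOf K : Set G) := by
  have : Fact (Nat.Prime 2) := ⟨Nat.prime_two⟩
  obtain ⟨y, hy, hy3, hyO⟩ := hp.exists_three
  have hfy := hp.fpf hy hyO
  have hOW : pCoreOf 2 K ≤ centralizer (wOf K : Set G) := fun o ho w hw =>
    ((omegaCenterOf_le _ (hp.wOf_le hw)).2 o ho).symm
  have hRK := (hp.of_subnormal hKX hs).2
  intro r hr
  by_contra hrc
  have hrW : r ∈ normalizer (wOf K : Set G) := le_normalizer_wOf' (hRK hr)
  obtain ⟨k, hk⟩ := isPGroup_pCoreOf 2 X ⟨r, hr⟩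
  have hr2 : r ^ 2 ∈ centralizer (wOf K : Set G) := by
    have h6 := pow_six_mem hW4 hrW
    rw [show (6 : ℕ) = 2 * 3 by norm_num, pow_mul] at h6
    have h2k : (r ^ 2) ^ 2 ^ k = 1 := by
      rw [← pow_mul, mul_comm, pow_mul, show r ^ 2 ^ k = 1 by simpa using congrArg Subtype.val hk,
        one_pow]
    obtain ⟨j, hj⟩ := exists_pow_eq_self_of_coprime (x := r ^ 2) (n := 3)
      (((by norm_num : Nat.Coprime 3 2).pow_right k).coprime_dvd_right
        (orderOf_dvd_of_pow_eq_one h2k))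
    exact hj ▸ pow_mem h6 j
  have hinv := invert_of_sq hW4 hrW hrc hr2 hfy
  have hRX := le_normalizer_pCoreOf 2 X
  have hc : r * y * r⁻¹ * y⁻¹ ∈ pCoreOf 2 K := by
    refine le_pCoreOf inf_le_right (le_normalizer_inf (hKX.trans hRX) le_normalizer)
      ((isPGroup_pCoreOf 2 X).to_le inf_le_left) ⟨?_, ?_⟩
    · rw [show r * y * r⁻¹ * y⁻¹ = r * (y * r⁻¹ * y⁻¹) by group]
      exact mul_mem hr ((mem_normalizer_iff.mp (hRX (hKX hy)) _).mp (inv_mem hr))
    · exact mul_mem (S := Subgroup G) ((mem_normalizer_iff.mp (hRK hr) y).mp hy) (inv_mem hy)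
  have hy2 : y ^ 2 ∈ centralizer (wOf K : Set G) := by
    have := mul_mem (inv_mem (hOW hc)) hinv
    simpa [sq, mul_assoc] using this
  refine absurd (fun w hw => hfy.2 w hw ?_) (fun h : ∀ w ∈ wOf K, w = 1 => ?_)
  · have h1 := mul_mem (inv_mem hy2) (hOW (hp.pow_three_mem hy))
    rw [pow_succ y 2, inv_mul_cancel_left] at h1
    exact h1 w hw
  · rw [(eq_bot_iff_forall _).mpr h, Subgroup.card_bot] at hW4
    omega

theorem wOf_le_omega : wOf K ≤ omegaCenterOf (pCoreOf 2 X) := fun w hw => by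
  refine mem_omegaCenterOf ((hp.of_subnormal hKX hs).1 ((omegaCenterOf_le _ (hp.wOf_le hw)).1))
    (fun r hr => (pCoreOf_le_centralizer hp hW4 hKX hs hr w hw).symm) ?_
  exact (isElementaryAbelian_omegaCenterOf _).2 w (hp.wOf_le hw)

theorem bracket_mem_omega {y : G} (hy : y ∈ K) (hyO : y ∉ pCoreOf 2 K) {v : G}
    (hv : v ∈ omegaCenterOf (pCoreOf 2 X)) : ⁅v, y⁆ ∈ wOf K := by
  obtain ⟨h1, h2⟩ := hp.of_subnormal hKX hs
  refine hp.bracket_mem (isElementaryAbelian_omegaCenterOf _)
    (((omegaCenterOf_le _).trans inf_le_left).trans h2)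
    (hKX.trans (le_normalizer_vOf X)) (fun o ho w hw => ?_) hy hyO hv
  exact ((omegaCenterOf_le _ hw).2 o (h1 ho)).symm

/-- Two conjugates of `W` under `X` are equal or centralized by the other's element of order
three. -/
theorem conj_wOf_eq_or {y : G} (hy : y ∈ K) (hyO : y ∉ pCoreOf 2 K) {x : G} (hx : x ∈ X) :
    (wOf K).map (MulAut.conj x).toMonoidHom = wOf K ∨
      ∀ w ∈ (wOf K).map (MulAut.conj x).toMonoidHom, Commute w y := by
  have : Fact (Nat.Prime 3) := ⟨Nat.prime_three⟩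
  set W := wOf K with hWdef
  set W' := W.map (MulAut.conj x).toMonoidHom with hW'
  set V := omegaCenterOf (pCoreOf 2 X) with hV
  have hVe := isElementaryAbelian_omegaCenterOf (pCoreOf 2 X)
  have hWV : W ≤ V := wOf_le_omega hp hW4 hKX hs
  have hXV : X ≤ normalizer (V : Set G) := le_normalizer_vOf X
  have hW'V : W' ≤ V := by
    rintro _ ⟨w, hw, rfl⟩
    exact (mem_normalizer_iff.mp (hXV hx) w).mp (hWV hw)
  have hW'4 : Nat.card W' = 4 := by rw [hW', card_map_of_injective (MulAut.conj x).injective, hW4]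
  set y' := x * y * x⁻¹ with hy'
  have hy'X : y' ∈ X := mul_mem (mul_mem hx (hKX hy)) (inv_mem hx)
  have hb : ∀ v ∈ V, ⁅v, y⁆ ∈ W := fun v hv => bracket_mem_omega hp hW4 hKX hs hy hyO hv
  have hb' : ∀ v ∈ V, ⁅v, y'⁆ ∈ W' := fun v hv => by
    refine ⟨_, hb _ ((mem_normalizer_iff''.mp (hXV hx) v).mp hv), ?_⟩
    simp only [hy', MulEquiv.toMonoidHom_eq_coe, MonoidHom.coe_coe, MulAut.conj_apply,
      commutatorElement_def]
    group
  have hfy := hp.fpf hy hyO
  have hfy' : Fpf W' y' := by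
    refine ⟨le_normalizer_map _ ⟨y, hfy.1, rfl⟩, ?_⟩
    rintro _ ⟨w, hw, rfl⟩ hc
    have hc' : Commute w y := by
      have := hc.map (MulAut.conj x⁻¹).toMonoidHom
      simpa [hy', mul_assoc] using this
    rw [hfy.2 w hw hc']
    exact map_one _
  set U := W ⊔ W' with hU
  have hUV : U ≤ V := sup_le hWV hW'V
  have hnorm : ∀ (g : G), g ∈ X → ∀ Y, Y ≤ U → (∀ v ∈ V, ⁅v, g⁆ ∈ Y) →
      g ∈ normalizer (U : Set G) := by
    intro g hg Y hY hb
    refine Subnormal.mem_normalizer_of_cj_le ?_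
    rintro _ ⟨u, hu, rfl⟩
    show g * u * g⁻¹ ∈ U
    rw [show g * u * g⁻¹ = u * ⁅u⁻¹, g⁆ by rw [commutatorElement_def]; group]
    exact mul_mem hu (hY (hb _ (inv_mem (hUV hu))))
  -- `⟨y, y'⟩` acts on `V` as a 3-group
  have h3 : ∀ g ∈ closure ({y, y'} : Set G), ∃ k : ℕ, g ^ 3 ^ k ∈ centralizer (V : Set G) := by
    set C := (centralizer (V : Set G)).subgroupOf X with hC
    have : C.Normal := (normal_subgroupOf_iff_le_normalizer_inf).mpr (le_normalizer_inf
      (le_normalizer_centralizer hXV) le_normalizer)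
    have hyK : QuotientGroup.mk' C ⟨y, hKX hy⟩ ∈ pCore 3 (↥X ⧸ C) := by
      refine le_pCore_of_isSubnormal (hs.map (QuotientGroup.mk'_surjective C)) ?_
        ⟨⟨y, hKX hy⟩, hy, rfl⟩
      rintro ⟨_, k, hk, rfl⟩
      refine ⟨1, Subtype.ext ?_⟩
      show (QuotientGroup.mk' C k) ^ 3 ^ 1 = 1
      rw [pow_one, ← map_pow]
      refine (QuotientGroup.eq_one_iff _).mpr fun v hv => ?_
      exact ((omegaCenterOf_le _ hv).2 _ ((hp.of_subnormal hKX hs).1 (hp.pow_three_mem hk))).symm
    intro g hg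
    have hcl : closure ({y, y'} : Set G) ≤
        ((pCore 3 (↥X ⧸ C)).comap (QuotientGroup.mk' C)).map X.subtype := by
      refine (closure_le _).mpr (Set.insert_subset ⟨⟨y, hKX hy⟩, hyK, rfl⟩
        (Set.singleton_subset_iff.mpr ⟨⟨y', hy'X⟩, ?_, rfl⟩))
      show QuotientGroup.mk' C ⟨y', hy'X⟩ ∈ pCore 3 (↥X ⧸ C)
      rw [show (⟨y', hy'X⟩ : ↥X) = ⟨x, hx⟩ * ⟨y, hKX hy⟩ * ⟨x, hx⟩⁻¹ from rfl, map_mul, map_mul,
        map_inv]
      exact (pCore_normal 3 _).conj_mem _ hyK _
    obtain ⟨g', hg', rfl⟩ := hcl hg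
    obtain ⟨k, hk⟩ := PCore.isPGroup_pCore (p := 3) (G := ↥X ⧸ C) ⟨_, hg'⟩
    exact ⟨k, ((QuotientGroup.eq_one_iff _).mp (congrArg Subtype.val hk) :)⟩
  have hUe : IsElementaryAbelian 2 U :=
    PGroup.isElementaryAbelian_sup (PGroup.isElementaryAbelian_mono hVe hWV)
      (PGroup.isElementaryAbelian_mono hVe hW'V)
      fun a ha b hb => PGroup.mul_comm_of_elementaryAbelian hVe (hWV ha) (hW'V hb)
  refine (pair_of_three_power hUe (hnorm y (hKX hy) W le_sup_left hb)
    (hnorm y' hy'X W' le_sup_right hb')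
    (fun g hg => (h3 g hg).imp fun k hk => centralizer_le (SetLike.coe_subset_coe.mpr hUV) hk)
    le_sup_left le_sup_right hW4 hW'4 rfl (fun v hv => hb v (hUV hv)) hfy
    (fun v hv => hb' v (hUV hv)) hfy').imp Eq.symm id

/-- An elementary abelian subgroup of largest order normalizes `W`. -/
theorem le_normalizer_of_maxEA (hN : normalizer (wOf K : Set G) ≤ normalizer (K : Set G))
    {A : Subgroup G} (hA : PGroup.IsMaxEA 2 X A) : A ≤ normalizer (wOf K : Set G) := by
  classical
  have : Fact (Nat.Prime 2) := ⟨Nat.prime_two⟩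
  set W := wOf K with hWdef
  set V := omegaCenterOf (pCoreOf 2 X) with hV
  have hVe := isElementaryAbelian_omegaCenterOf (pCoreOf 2 X)
  have hAe := hA.2.1
  have hcA : ∀ a ∈ A, ∀ b ∈ A, Commute a b := fun a ha b hb =>
    PGroup.mul_comm_of_elementaryAbelian hAe ha hb
  have hXV : X ≤ normalizer (V : Set G) := le_normalizer_vOf X
  have hWV : W ≤ V := wOf_le_omega hp hW4 hKX hs
  obtain ⟨y, hy, -, hyO⟩ := hp.exists_three
  have hfy := hp.fpf hy hyO
  set A₀ := A ⊓ normalizer (W : Set G) with hA₀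
  set C₀ := A ⊓ centralizer (W : Set G) with hC₀
  have hCA₀ : C₀ ≤ A₀ := inf_le_inf_left A (Subgroup.centralizer_le_normalizer _)
  let Q := ↥A ⧸ A₀.subgroupOf A
  have : Fintype Q := Fintype.ofFinite Q
  let f : Q → G := fun q => (q.out : G)
  have hf : ∀ q, f q ∈ A := fun q => q.out.2
  let Wq : Q → Subgroup G := fun q => W.map (MulAut.conj (f q)).toMonoidHom
  let yq : Q → G := fun q => f q * y * (f q)⁻¹
  have hWqV : ∀ q, Wq q ≤ V := fun q => by
    rintro _ ⟨w, hw, rfl⟩
    exact (mem_normalizer_iff.mp (hXV (hA.1 (hf q))) w).mp (hWV hw)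
  have hne : ∀ q q', q ≠ q' → ∀ w ∈ Wq q, Commute w (yq q') := by
    rintro q q' hq _ ⟨w, hw, rfl⟩
    have hx : (f q')⁻¹ * f q ∈ A := mul_mem (inv_mem (hf q')) (hf q)
    rcases conj_wOf_eq_or hp hW4 hKX hs hy hyO (hA.1 hx) with e | e
    · refine absurd ?_ hq
      rw [← Quotient.out_eq' q, ← Quotient.out_eq' q']
      refine (QuotientGroup.eq.mpr (mem_subgroupOf.mpr (mem_inf.mpr ⟨hx, ?_⟩))).symm
      exact PGroup.mem_normalizer_of_map_conj_eq e
    · have h1 := (e _ ⟨w, hw, rfl⟩).map (MulAut.conj (f q')).toMonoidHom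
      simpa [yq, mul_assoc] using h1
  have hdisj : ∀ q, ∀ w ∈ Wq q, Commute w (yq q) → w = 1 := by
    rintro q _ ⟨w, hw, rfl⟩ hc
    have hc' : Commute w y := by
      have := hc.map (MulAut.conj (f q)⁻¹).toMonoidHom
      simpa [yq, mul_assoc] using this
    rw [hfy.2 w hw hc']
    exact map_one _
  -- the span of the orbit
  let Us : Finset Q → Subgroup G := fun s => s.sup Wq
  have hUsV : ∀ s, Us s ≤ V := fun s => Finset.sup_le fun q _ => hWqV q
  have hUs : ∀ s : Finset Q, Nat.card (Us s) = 4 ^ s.card ∧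
      ∀ v ∈ Us s, (∀ q ∈ s, Commute v (yq q)) → v = 1 := by
    intro s
    induction s using Finset.induction with
    | empty =>
      refine ⟨by simp [Us], fun v hv _ => ?_⟩
      simpa [Us] using hv
    | insert q s hqs ih =>
      have hU' : Us (insert q s) = Wq q ⊔ Us s := Finset.sup_insert
      have hc : Us s ≤ centralizer ({yq q} : Set G) := Finset.sup_le fun q' hq' w hw =>
        mem_centralizer_singleton_iff.mpr (hne q' q (fun e => hqs (e ▸ hq')) w hw)
      have hn : Wq q ≤ normalizer (Us s : Set G) := fun a ha =>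
        Subgroup.centralizer_le_normalizer _ fun b hb =>
          PGroup.mul_comm_of_elementaryAbelian hVe (hUsV s hb) (hWqV q ha)
      constructor
      · have e := Offender.card_sup_mul_card_inf hn
        have hbot : Wq q ⊓ Us s = ⊥ := (eq_bot_iff_forall _).mpr fun v hv =>
          hdisj q v hv.1 (mem_centralizer_singleton_iff.mp (hc hv.2))
        rw [hbot, Subgroup.card_bot, mul_one, ← hU', ih.1,
          card_map_of_injective (MulAut.conj (f q)).injective, hW4] at e
        rw [e, Finset.card_insert_of_notMem hqs, pow_succ']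
      · intro v hv hvc
        rw [hU'] at hv
        obtain ⟨w, hw, u, hu, rfl⟩ := (Coprime.mem_sup_iff_of_le_normalizer hn).mp hv
        have hu' : Commute u (yq q) := mem_centralizer_singleton_iff.mp (hc hu)
        have h1 : Commute w (yq q) := by
          simpa using (hvc q (Finset.mem_insert_self q s)).mul_left hu'.inv_left
        rw [hdisj q w hw h1, one_mul]
        refine ih.2 u hu fun q' hq' => ?_
        have := hvc q' (Finset.mem_insert_of_mem hq')
        rwa [hdisj q w hw h1, one_mul] at this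
  set U := Us Finset.univ with hUdef
  set m := Fintype.card Q with hm
  have hUcard : Nat.card U = 4 ^ m := (hUs Finset.univ).1
  have hCU : ∀ c ∈ C₀, ∀ u ∈ U, c * u = u * c := by
    intro c hc
    have hle : U ≤ centralizer ({c} : Set G) := Finset.sup_le fun q _ => by
      rintro _ ⟨w, hw, rfl⟩
      refine mem_centralizer_singleton_iff.mpr ?_
      have h1 : Commute w c := hc.2 w hw
      have h2 : Commute (f q) c := hcA _ (hf q) _ hc.1
      exact ((h2.mul_left h1).mul_left h2.inv_left).eq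
    exact fun u hu => (mem_centralizer_singleton_iff.mp (hle hu)).symm
  -- `C₀ U` is elementary abelian
  have hbig : Nat.card C₀ * 4 ^ m ≤ Nat.card A * Nat.card ↥(A ⊓ U) := by
    have hn : C₀ ≤ normalizer (U : Set G) := fun c hc => Subgroup.centralizer_le_normalizer _
      fun u hu => (hCU c hc u hu).symm
    rw [← hUcard, ← Offender.card_sup_mul_card_inf hn]
    refine Nat.mul_le_mul ?_ (card_le_of_le (inf_le_inf_right U inf_le_left))
    refine hA.2.2 _ (sup_le (inf_le_left.trans hA.1) ((hUsV _).trans ?_)) ?_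
    · exact (vOf_le_self X)
    · exact PGroup.isElementaryAbelian_sup (PGroup.isElementaryAbelian_mono hAe inf_le_left)
        (PGroup.isElementaryAbelian_mono hVe (hUsV _)) hCU
  -- `u ↦ [u, y]` is injective on `A ∩ U`
  have T' : Tri V y := ⟨hVe, hXV (hKX hy), fun v hv =>
    ((omegaCenterOf_le _ hv).2 _ ((hp.of_subnormal hKX hs).1 (hp.pow_three_mem hy))).symm⟩
  have hinj : ∀ Y : Subgroup G, (∀ u ∈ A ⊓ U, ⁅u, y⁆ ∈ Y) → Nat.card ↥(A ⊓ U) ≤ Nat.card Y := by
    intro Y hY
    refine Nat.card_le_card_of_injective (fun u : ↥(A ⊓ U) => (⟨⁅(u : G), y⁆, hY u u.2⟩ : Y)) ?_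
    intro a b e
    have e' : ⁅(a : G), y⁆ = ⁅(b : G), y⁆ := congrArg Subtype.val e
    have h1 := map_mul (Offender.commHom V hVe.1 y T'.norm)
      (⟨a, hUsV _ a.2.2⟩⁻¹ : V) ⟨b, hUsV _ b.2.2⟩
    rw [map_inv, show (Offender.commHom V hVe.1 y T'.norm) ⟨a, hUsV _ a.2.2⟩ = ⁅(a : G), y⁆ from rfl,
      show (Offender.commHom V hVe.1 y T'.norm) ⟨b, hUsV _ b.2.2⟩ = ⁅(b : G), y⁆ from rfl, e',
      inv_mul_cancel] at h1
    have hab : Commute ((a : G)⁻¹ * b) y := commutatorElement_eq_one_iff_mul_comm.mp h1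
    refine Subtype.ext (inv_mul_eq_one.mp ((hUs Finset.univ).2 _
      (mul_mem (inv_mem a.2.2) b.2.2) fun q _ => ?_))
    have h2 : Commute ((a : G)⁻¹ * b) (f q) :=
      hcA _ (mul_mem (inv_mem a.2.1) b.2.1) _ (hf q)
    exact (h2.mul_right hab).mul_right h2.inv_right
  have hbr : ∀ u ∈ A ⊓ U, ⁅u, y⁆ ∈ W := fun u hu =>
    bracket_mem_omega hp hW4 hKX hs hy hyO (hUsV _ hu.2)
  have hidx : Nat.card A = m * Nat.card A₀ := by
    rw [hm, ← Nat.card_eq_fintype_card, ← Coprime.card_subgroupOf (inf_le_left : A₀ ≤ A)]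
    exact card_eq_card_quotient_mul_card_subgroup _
  have hkey : 4 ^ m ≤ 4 * m := by
    refine Nat.le_of_mul_le_mul_left (hbig.trans ?_) Nat.card_pos
    rw [hidx]
    by_cases hAW : A₀ ≤ centralizer (W : Set G)
    · rw [show C₀ = A₀ from le_antisymm hCA₀ (le_inf inf_le_left hAW)]
      calc m * Nat.card A₀ * Nat.card ↥(A ⊓ U) ≤ m * Nat.card A₀ * 4 :=
            Nat.mul_le_mul_left _ ((hinj W hbr).trans hW4.le)
        _ = _ := by ring
    · obtain ⟨b, hb, hbc⟩ := SetLike.not_le_iff_exists.mp hAW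
      have hsq : ∀ c ∈ A₀, c ^ 2 ∈ centralizer (W : Set G) := fun c hc => by
        rw [hAe.2 c hc.1]; exact one_mem _
      have hA₀2 : Nat.card A₀ ≤ 2 * Nat.card C₀ := by
        have hsub : (A₀ : Set G) ⊆ (C₀ : Set G) ∪ (fun c => b * c) '' (C₀ : Set G) := by
          intro c hc
          by_cases hcc : c ∈ centralizer (W : Set G)
          · exact Or.inl ⟨hc.1, hcc⟩
          · refine Or.inr ⟨b⁻¹ * c, ⟨mul_mem (S := Subgroup G) (inv_mem hb.1) hc.1, ?_⟩, mul_inv_cancel_left b c⟩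
            refine same_of_commute hW4 hb.2 hc.2 hbc hcc (hsq b hb) (hsq c hc) ?_
            rw [commutatorElement_eq_one_iff_mul_comm.mpr (hcA b hb.1 c hc.1)]
            exact one_mem _
        have h1 := (Set.ncard_le_ncard hsub (Set.toFinite _)).trans (Set.ncard_union_le _ _)
        rw [Set.ncard_image_of_injective _ (mul_right_injective b)] at h1
        rw [← SetLike.coe_sort_coe, ← SetLike.coe_sort_coe, Nat.card_coe_set_eq,
          Nat.card_coe_set_eq]
        omega
      -- `y b` fixes every `[u, y]`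
      have hinv := invert_of_sq hW4 hb.2 hbc (hsq b hb) hfy
      have hbK : b * y * b⁻¹ ∈ K := (mem_normalizer_iff.mp (hN hb.2) y).mp hy
      have hOW : pCoreOf 2 K ≤ centralizer (W : Set G) := fun o ho w hw =>
        ((omegaCenterOf_le _ (hp.wOf_le hw)).2 o ho).symm
      have hy3 := hp.pow_three_mem hy
      have hy2 : ¬ y ^ 2 ∈ centralizer (W : Set G) := fun h2 => by
        have h1 := mul_mem (inv_mem h2) (hOW hy3)
        rw [pow_succ y 2, inv_mul_cancel_left] at h1
        have h0 : W = ⊥ := (eq_bot_iff_forall _).mpr fun w hw => hfy.2 w hw (h1 w hw)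
        rw [h0, Subgroup.card_bot] at hW4
        omega
      have hky : b * y * b⁻¹ * y ∈ pCoreOf 2 K := by
        rcases hp.cases hy hyO hbK with e | e | e
        · exfalso
          refine hy2 ?_
          have h1 : b * y * b⁻¹ ∈ centralizer (W : Set G) := hOW e
          have h2 := mul_mem (inv_mem h1) hinv
          rw [inv_mul_cancel_left] at h2
          exact pow_mem h2 2
        · exfalso
          refine hy2 ?_
          have := mul_mem (inv_mem (hOW e)) hinv
          simpa [sq, mul_assoc] using this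
        · exact e
      have hfC : y * b ∉ centralizer (W : Set G) := fun h1 => by
        have h2 : b * y ∈ centralizer (W : Set G) := by
          have hn : b ∈ normalizer (centralizer (W : Set G) : Set G) :=
            le_normalizer_centralizer le_rfl hb.2
          have := (mem_normalizer_iff.mp hn _).mp h1
          rwa [← mul_assoc, mul_assoc (b * y), mul_inv_cancel, mul_one] at this
        refine hy2 ?_
        have h3 := mul_mem h1 h2
        rwa [show y * b * (b * y) = y * b ^ 2 * y by rw [sq]; group, hAe.2 b hb.1, mul_one, ← sq] at h3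
      have hfix : ∀ u ∈ A ⊓ U, ⁅u, y⁆ ∈ W ⊓ centralizer ({y * b} : Set G) := by
        intro u hu
        refine ⟨hbr u hu, mem_centralizer_singleton_iff.mpr (mul_inv_eq_iff_eq_mul.mp ?_).symm⟩
        have hconj : b * y * b⁻¹ * u⁻¹ * (b * y * b⁻¹)⁻¹ = y⁻¹ * u⁻¹ * y := by
          have hc : b * y * b⁻¹ * y ∈ centralizer (V : Set G) := fun v hv =>
            ((omegaCenterOf_le _ hv).2 _ ((hp.of_subnormal hKX hs).1 hky)).symm
          have hv' : y⁻¹ * u⁻¹ * y ∈ V :=
            (mem_normalizer_iff''.mp T'.norm _).mp (inv_mem (hUsV _ hu.2))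
          have := (mem_centralizer_iff_conj.mp hc) _ hv'
          simpa [mul_assoc] using this
        have hsq' : ⁅u, y⁆⁻¹ = ⁅u, y⁆ :=
          inv_eq_of_mul_eq_one_right (by rw [← sq]; exact hVe.2 _ (hWV (hbr u hu)))
        have hbu : b * u * b⁻¹ = u := mul_inv_eq_iff_eq_mul.mpr (hcA b hb.1 u hu.1).eq
        calc y * b * ⁅u, y⁆ * (y * b)⁻¹
            = y * ((b * u * b⁻¹) * (b * y * b⁻¹ * (b * u * b⁻¹)⁻¹ * (b * y * b⁻¹)⁻¹)) * y⁻¹ := by
              rw [commutatorElement_def]; group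
          _ = ⁅u, y⁆⁻¹ := by rw [hbu, hconj, commutatorElement_def]; group
          _ = ⁅u, y⁆ := hsq'
      calc m * Nat.card A₀ * Nat.card ↥(A ⊓ U) ≤ m * (2 * Nat.card C₀) * 2 :=
            Nat.mul_le_mul (Nat.mul_le_mul_left _ hA₀2) ((hinj _ hfix).trans (card_fix_le hW4 hfC))
        _ = _ := by ring
  have hm1 : m ≤ 1 := by
    by_contra hcon
    push Not at hcon
    obtain ⟨n, hn⟩ : ∃ n, m = n + 2 := ⟨m - 2, by omega⟩
    have h1 : n < 4 ^ n := Nat.lt_pow_self (by norm_num)
    rw [hn, pow_add] at hkey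
    omega
  intro a ha
  have : Subsingleton Q := Fintype.card_le_one_iff_subsingleton.mp hm1
  have h1 : (QuotientGroup.mk ⟨a, ha⟩ : Q) = QuotientGroup.mk 1 := Subsingleton.elim _ _
  rw [QuotientGroup.eq, mul_one] at h1
  exact inv_mem_iff.mp (mem_subgroupOf.mp h1).2

end Orbit

end Cfsg.Agent.JComponent
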