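import Cfsg.Agent.Lib.JComponent.Edge

/-!
# Two vertices over the same `T` have non-commuting `V`'s

`Edge.pair`: the critical path argument on the graph of conjugates of `N(W) ∩ C(H)`.
-/

set_option autoImplicit false
set_option synthInstance.maxSize 512

namespace Cfsg.Agent.JComponent

open Subgroup LocalStructure
open scoped commutatorElement

universe u

variable {G : Type u} [Group G] [Finite G]

/-- The `V`'s commute. -/
def CommV (X Y : Subgroup G) : Prop := ∀ x ∈ vOf X, ∀ y ∈ vOf Y, Commute x y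

/-- An edge whose `V`'s commute. -/
def Adj (X Y : Subgroup G) : Prop :=
  ∃ T L K L' K', Edge T L K L' K' ∧ pOf T K = X ∧ pOf T K' = Y ∧ CommV X Y

/-- A path of length `n`. -/
def Path (n : ℕ) (f : ℕ → Subgroup G) : Prop := ∀ i < n, Adj (f i) (f (i + 1))

/-- A shortest path between non-commuting `V`'s. -/
structure Crit (b : ℕ) (f : ℕ → Subgroup G) : Prop where
  path : Path b f
  bad : ¬ CommV (f 0) (f b)
  small : ∀ m < b, ∀ g : ℕ → Subgroup G, Path m g → CommV (g 0) (g m)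

omit [Finite G] in
theorem CommV.symm {X Y : Subgroup G} (h : CommV X Y) : CommV Y X :=
  fun y hy x hx => (h x hx y hy).symm

theorem CommV.map_conj {X Y : Subgroup G} (h : CommV X Y) (g : G) :
    CommV (X.map (MulAut.conj g).toMonoidHom) (Y.map (MulAut.conj g).toMonoidHom) := by
  intro x hx y hy
  rw [vOf_map_conj] at hx hy
  obtain ⟨x, hx, rfl⟩ := hx
  obtain ⟨y, hy, rfl⟩ := hy
  exact (h x hx y hy).map _

theorem commV_self (X : Subgroup G) : CommV X X := fun _ hx _ hy =>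
  haveI : Fact (Nat.Prime 2) := ⟨Nat.prime_two⟩
  PGroup.mul_comm_of_elementaryAbelian (isElementaryAbelian_omegaCenterOf _) hx hy

theorem Adj.symm {X Y : Subgroup G} (h : Adj X Y) : Adj Y X := by
  obtain ⟨T, L, K, L', K', e, hX, hY, hc⟩ := h
  exact ⟨T, L', K', L, K, e.symm, hY, hX, hc.symm⟩

theorem Adj.map_conj {X Y : Subgroup G} (h : Adj X Y) (g : G) :
    Adj (X.map (MulAut.conj g).toMonoidHom) (Y.map (MulAut.conj g).toMonoidHom) := by
  obtain ⟨T, L, K, L', K', e, hX, hY, hc⟩ := h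
  exact ⟨_, _, _, _, _, e.map_conj g, by rw [pOf_map_conj, hX], by rw [pOf_map_conj, hY],
    hc.map_conj g⟩

omit [Finite G] in
theorem map_conj_self {X : Subgroup G} {q : G} (hq : q ∈ X) :
    X.map (MulAut.conj q).toMonoidHom = X := by
  ext a
  rw [mem_map_equiv]
  exact ⟨fun h => by simpa [mul_assoc] using mul_mem (mul_mem hq h) (inv_mem hq),
    fun h => by simpa [mul_assoc] using mul_mem (mul_mem (inv_mem hq) h) hq⟩

omit [Finite G] in
theorem eq_of_two {A B : Subgroup G} (hA : Nat.card A = 2) (hB : Nat.card B ≤ 2) {x : G}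
    (hxA : x ∈ A) (hxB : x ∈ B) (hx : x ≠ 1) [Finite B] : A = B := by
  have : Finite A := Nat.finite_of_card_ne_zero (by omega)
  have hle : A ≤ B := fun a ha => by
    by_cases ha1 : a = 1
    · rw [ha1]; exact one_mem B
    obtain ⟨c, -, huniq⟩ := (Nat.card_eq_two_iff' (1 : ↥A)).mp hA
    have e : (⟨a, ha⟩ : ↥A) = ⟨x, hxA⟩ :=
      (huniq _ fun h => ha1 (congrArg Subtype.val h)).trans
        (huniq _ fun h => hx (congrArg Subtype.val h)).symm
    exact (show a = x from congrArg Subtype.val e) ▸ hxB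
  exact eq_of_le_of_card_ge hle (by omega)

theorem Vtx.moves {T L K : Subgroup G} (v : Vtx T L K) {y : G} (hy : Fpf (wOf K) y) :
    ∃ l ∈ lineOf T K, y * l * y⁻¹ ∉ lineOf T K := by
  obtain ⟨⟨l, hl⟩, hne, huniq⟩ := (Nat.card_eq_two_iff' (1 : ↥(lineOf T K))).mp v.line_card
  have hl1 : l ≠ 1 := fun h => hne (Subtype.ext h)
  refine ⟨l, hl, fun h => hl1 (hy.2 l hl.2 ?_)⟩
  have e := huniq ⟨_, h⟩ fun e => hl1 (conj_eq_one_iff.mp (congrArg Subtype.val e))
  exact (mul_inv_eq_iff_eq_mul.mp (congrArg Subtype.val e)).symm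

theorem Path.core (hG : ZN G) {f : ℕ → Subgroup G} {n : ℕ} (hf : Path n f)
    (hc : ∀ j ≤ n, CommV (f 0) (f j)) : vOf (f 0) ≤ pCoreOf 2 (f n) := by
  induction n with
  | zero => exact vOf_le _
  | succ n ih =>
    replace ih := ih (fun i hi => hf i (by omega)) fun j hj => hc j (by omega)
    obtain ⟨T, L, K, L', K', e, hX, hY, -⟩ := hf n (by omega)
    intro x hx
    have hxT : x ∈ T := (e.left.setting hG).pCore_le (hX ▸ ih hx)
    rw [← hY]
    refine (e.right.setting hG).inf_cOf_le ⟨hxT, e.right.t_le_p hxT, fun z hz => ?_⟩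
    exact ((hc (n + 1) le_rfl x hx z (hY ▸ hz)).symm).eq

theorem Path.reverse {n : ℕ} {f : ℕ → Subgroup G} (h : Path n f) : Path n fun k => f (n - k) :=
  fun i hi => by
    have := (h (n - (i + 1)) (by omega)).symm
    rwa [show n - (i + 1) + 1 = n - i by omega] at this

section CritSec

variable {b : ℕ} {f : ℕ → Subgroup G} (h : Crit b f)
include h

theorem Crit.two_le : 2 ≤ b := by
  by_contra hb
  interval_cases b
  · exact h.bad (commV_self _)
  · obtain ⟨T, L, K, L', K', -, -, -, hc⟩ := h.path 0 (by omega)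
    exact h.bad hc

theorem Crit.comm {i j : ℕ} (hij : i ≤ j) (hj : j ≤ b) (hd : j - i < b) : CommV (f i) (f j) := by
  have := h.small (j - i) hd (fun k => f (i + k)) fun k hk => by
    have := h.path (i + k) (by omega)
    exact this
  rwa [Nat.add_zero, Nat.add_sub_cancel' hij] at this

theorem Crit.reverse : Crit b fun k => f (b - k) :=
  ⟨h.path.reverse, fun hc => h.bad (by simpa using hc.symm), h.small⟩

theorem Crit.core (hG : ZN G) : vOf (f 0) ≤ pCoreOf 2 (f (b - 1)) := by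
  have := h.two_le
  exact Path.core hG (fun i hi => h.path i (by omega)) fun j hj =>
    h.comm (Nat.zero_le _) (by omega) (by omega)

theorem Crit.core' (hG : ZN G) : vOf (f b) ≤ pCoreOf 2 (f 1) := by
  have := h.two_le
  have h1 := h.reverse.core hG
  simp only [Nat.sub_zero] at h1
  rwa [show b - (b - 1) = 1 by omega] at h1

variable {T L K L' K' : Subgroup G} (e : Edge T L K L' K') (h0 : pOf T K = f 0)
  (h1 : pOf T K' = f 1)
include e h0 h1

theorem Crit.le_first (hG : ZN G) : vOf (f b) ≤ T :=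
  (h.core' hG).trans (h1 ▸ (e.right.setting hG).pCore_le)

theorem Crit.exists_moving (hG : ZN G) :
    ∃ x ∈ vOf (f b), x ∈ T ∧ x ∉ centralizer (wOf K : Set G) ∧
      ∃ z ∈ vOf (f 0), ¬ Commute z x := by
  by_contra hcon
  push Not at hcon
  refine h.bad fun z hz x hx => ?_
  have hxT := h.le_first e h0 h1 hG hx
  by_cases hxc : x ∈ centralizer (wOf K : Set G)
  · exact (e.left.core_comm ((e.left.mem_core_iff hG hxT).mpr hxc) (h0 ▸ hz)).symm
  · exact hcon x hx hxT hxc z hz

/-- The two lines of a critical path agree. -/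
theorem Crit.lines (hG : ZN G) {T₂ M N M' N' : Subgroup G} (e₂ : Edge T₂ M N M' N')
    (h2 : pOf T₂ N = f (b - 1)) (h3 : pOf T₂ N' = f b) : lineOf T₂ N' = lineOf T K := by
  obtain ⟨x, hxV, hxT, -, z, hz, hzx⟩ := h.exists_moving e h0 h1 hG
  have hzT : z ∈ T₂ := (e₂.left.setting hG).pCore_le (h2 ▸ h.core hG hz)
  have ha := e.left.comm_line hG hxT (h0 ▸ hz)
  have hb := e₂.right.comm_line hG hzT (h3 ▸ hxV)
  refine eq_of_two e₂.right.line_card e.left.line_card.le (x := ⁅z, x⁆) ?_ ha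
    fun he => hzx (commutatorElement_eq_one_iff_mul_comm.mp he)
  rw [← commutatorElement_inv]
  exact inv_mem hb

/-- The path through a neighbour of `f 0` is again critical. -/
theorem Crit.shift (hG : ZN G) {q : G} (hq : q ∈ pOf T K)
    (hmove : ∃ l ∈ lineOf T K, q * l * q⁻¹ ∉ lineOf T K) :
    Crit b fun k => if k = 0 then (f 1).map (MulAut.conj q).toMonoidHom else f (k - 1) := by
  have hb2 := h.two_le
  set g : ℕ → Subgroup G :=
    fun k => if k = 0 then (f 1).map (MulAut.conj q).toMonoidHom else f (k - 1) with hg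
  have hP : (f 0).map (MulAut.conj q).toMonoidHom = f 0 := map_conj_self (h0 ▸ hq)
  have hpath : Path b g := by
    intro i hi
    rcases i with _ | i
    · show Adj ((f 1).map (MulAut.conj q).toMonoidHom) (f 0)
      have := (h.path 0 (by omega)).symm.map_conj q
      rwa [hP] at this
    · exact h.path i (by omega)
  refine ⟨hpath, fun hc => ?_, h.small⟩
  have hgb : g b = f (b - 1) := if_neg (by omega)
  have hall : ∀ j ≤ b, CommV (g 0) (g j) := fun j hj => by
    rcases eq_or_lt_of_le hj with rfl | hj'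
    · exact hc
    · exact h.small j hj' g fun i hi => hpath i (by omega)
  have hcore := Path.core hG hpath hall
  rw [hgb] at hcore
  obtain ⟨T₂, M, N, M', N', e₂, h2, h3, -⟩ := h.path (b - 1) (by omega)
  rw [Nat.sub_add_cancel (by omega : 1 ≤ b)] at h3
  have hline := h.lines e h0 h1 hG e₂ h2 h3
  obtain ⟨x, hxV, hxT, hxW, -⟩ := h.exists_moving e h0 h1 hG
  have ec := (e.symm.map_conj q)
  set X := (f 1).map (MulAut.conj q).toMonoidHom with hX
  have eX : pOf (T.map (MulAut.conj q).toMonoidHom) (K'.map (MulAut.conj q).toMonoidHom) = X := by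
    rw [pOf_map_conj, h1]
  have eP : pOf (T.map (MulAut.conj q).toMonoidHom) (K.map (MulAut.conj q).toMonoidHom) = f 0 := by
    rw [pOf_map_conj, h0, hP]
  set t' := q * x * q⁻¹
  have ht' : t' ∈ T.map (MulAut.conj q).toMonoidHom := ⟨x, hxT, rfl⟩
  have hf := e.left.fpf_of_moving hxT hxW hq hmove
  set E := vOf X ⊔ vOf (f 0) with hE
  have hxP : x ∈ normalizer (vOf (f 0) : Set G) :=
    le_normalizer_vOf _ (h0 ▸ e.left.t_le_p hxT)
  have hxE : x ∈ normalizer (E : Set G) := by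
    refine Subnormal.mem_normalizer_of_cj_le ?_
    rw [Subnormal.cj, map_le_iff_le_comap]
    refine sup_le (fun v hv => ?_) fun v hv =>
      mem_sup_right ((mem_normalizer_iff.mp hxP v).mp hv)
    show x * v * x⁻¹ ∈ E
    have hv' : v ∈ T₂ := (e₂.left.setting hG).pCore_le (h2 ▸ hcore (show v ∈ vOf (g 0) from hv))
    have hl := e₂.right.comm_line hG hv' (h3 ▸ hxV)
    rw [hline] at hl
    rw [show x * v * x⁻¹ = ⁅x, v⁆ * v by rw [commutatorElement_def]; group]
    exact mul_mem (mem_sup_right (h0 ▸ e.left.z_le_v hG hl.1)) (mem_sup_left hv)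
  have ht'E : t' ∈ normalizer (E : Set G) := by
    refine Subnormal.mem_normalizer_of_cj_le ?_
    rw [Subnormal.cj, map_le_iff_le_comap]
    exact sup_le
      (fun v hv => mem_sup_left ((mem_normalizer_iff.mp
        (le_normalizer_vOf _ (eX ▸ ec.left.t_le_p ht')) v).mp hv))
      (fun v hv => mem_sup_right ((mem_normalizer_iff.mp
        (le_normalizer_vOf _ (eP ▸ ec.right.t_le_p ht')) v).mp hv))
  obtain ⟨m, k, hm, hk, hpow⟩ := exists_two_part (x * t')
  have hdvd : orderOf ((x * t') ^ 2 ^ k) ∣ m :=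
    orderOf_dvd_of_pow_eq_one (by rw [← pow_mul, mul_comm, pow_mul]; exact hk)
  have hWq : wOf (K.map (MulAut.conj q).toMonoidHom) = wOf K := by
    rw [← wOf_map_conj]
    exact PGroup.map_conj_eq_of_mem_normalizer hq.1
  refine ec.noNormal hG (y := (x * t') ^ 2 ^ k) ?_ ?_ (hm.of_dvd_nat hdvd) ?_ ?_
  · rw [eX, eP]
    have := (h.comm (Nat.zero_le 1) (by omega) (by omega)).symm.map_conj q
    rwa [hP] at this
  · rw [eP, ← h0]
    exact pow_mem (mul_mem (e.left.t_le_p hxT)
      (mul_mem (mul_mem hq (e.left.t_le_p hxT)) (inv_mem hq))) _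
  · rw [hWq]
    exact fpf_two_pow e.left.w4 hf k
  · rw [eX, eP]
    exact pow_mem (mul_mem hxE ht'E) _

/-- Across the first edge the line is `H`. -/
theorem Crit.line_eq_h (hG : ZN G) :
    lineOf T K' = hOf T K ∧
      ∀ {T₁ M N M' N' : Subgroup G}, Edge T₁ M N M' N' → pOf T₁ N = f (b - 2) →
        pOf T₁ N' = f (b - 1) → lineOf T₁ N' = lineOf T K' := by
  have hb2 := h.two_le
  obtain ⟨y, hy, -, -, hfy⟩ := e.left.exists_y
  have hyP := e.left.k_le_p hy
  have hy2 : y ^ 2 ∈ pOf T K := pow_mem hyP 2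
  have hfy2 : Fpf (wOf K) (y ^ 2) := by simpa using fpf_two_pow e.left.w4 hfy 1
  obtain ⟨T₁, M, N, M', N', e₁, h2, h3, -⟩ := h.path (b - 2) (by omega)
  rw [show b - 2 + 1 = b - 1 by omega] at h3
  -- every conjugate of the line is the line at the other end
  have key : ∀ {T₁ M N M' N' : Subgroup G}, Edge T₁ M N M' N' → pOf T₁ N = f (b - 2) →
      pOf T₁ N' = f (b - 1) → ∀ q ∈ pOf T K, Fpf (wOf K) q →
      (lineOf T K').map (MulAut.conj q).toMonoidHom = lineOf T₁ N' := by
    intro T₁ M N M' N' e₁ h2 h3 q hq hfq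
    have hs := h.shift e h0 h1 hG hq (e.left.moves hfq)
    have h4 := hs.lines (e.symm.map_conj q) (by rw [pOf_map_conj, h1]; rfl)
      (by rw [pOf_map_conj, h0, map_conj_self (h0 ▸ hq)]; rfl) hG e₁
      (by rw [h2, if_neg (by omega), show b - 1 - 1 = b - 2 by omega])
      (by rw [h3, if_neg (by omega)])
    rw [h4, lineOf_map_conj]
  obtain ⟨⟨d, hd⟩, hdne, huniq⟩ := (Nat.card_eq_two_iff' (1 : ↥(lineOf T K'))).mp e.right.line_card
  have hd1 : d ≠ 1 := fun he => hdne (Subtype.ext he)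
  have hA := key e₁ h2 h3 y hyP hfy
  have hB := key e₁ h2 h3 _ hy2 hfy2
  obtain ⟨d', hd', hdd⟩ : y * d * y⁻¹ ∈ (lineOf T K').map (MulAut.conj (y ^ 2)).toMonoidHom := by
    rw [hB, ← hA]; exact ⟨d, hd, rfl⟩
  have hd'1 : d' ≠ 1 := fun he => hd1 (conj_eq_one_iff.mp (hdd.symm.trans (by rw [he]; exact map_one _)))
  have e1 : d' = d := congrArg Subtype.val (huniq ⟨d', hd'⟩ fun he => hd'1 (congrArg Subtype.val he))
  have hc : Commute d y := by
    have h5 : y ^ 2 * d * (y ^ 2)⁻¹ = y * d * y⁻¹ := e1 ▸ hdd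
    refine (mul_inv_eq_iff_eq_mul.mp (?_ : y * d * y⁻¹ = d)).symm
    have h6 := congrArg (fun s => y⁻¹ * s * y) h5
    simpa [sq, mul_assoc] using h6
  have hdH := e.left.mem_h hd.1 hyP hfy hc
  have hLH : lineOf T K' = hOf T K :=
    eq_of_two e.right.line_card e.left.h_card hd hdH hd1
  have hfix : (lineOf T K').map (MulAut.conj y).toMonoidHom = lineOf T K' := by
    rw [hLH]
    exact PGroup.map_conj_eq_of_mem_normalizer
      (Subgroup.centralizer_le_normalizer _ hyP.2)
  exact ⟨hLH, fun e₁ h2 h3 => ((key e₁ h2 h3 y hyP hfy).symm.trans hfix)⟩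

/-- The other line. -/
theorem Crit.line_eq_h' (hG : ZN G) : lineOf T K = hOf T K' := by
  obtain ⟨y, hy, -, -, hfy⟩ := e.left.exists_y
  have hyP := e.left.k_le_p hy
  have := ((h.shift e h0 h1 hG hyP (e.left.moves hfy)).line_eq_h (e.symm.map_conj y)
    (by rw [pOf_map_conj, h1]; rfl)
    (by rw [pOf_map_conj, h0, map_conj_self (h0 ▸ hyP)]; rfl) hG).1
  rw [lineOf_map_conj, hOf_map_conj] at this
  exact map_injective (MulAut.conj y).injective this

end CritSec

/-- A shortest path has length two. -/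
theorem Crit.eq_two {b : ℕ} {f : ℕ → Subgroup G} (h : Crit b f) (hG : ZN G) : b = 2 := by
  have hb2 := h.two_le
  by_contra hb
  obtain ⟨T, L, K, L', K', e, h0, h1, -⟩ := h.path 0 (by omega)
  obtain ⟨T₁, M, N, M', N', e₁, h2, h3, -⟩ := h.path (b - 2) (by omega)
  rw [show b - 2 + 1 = b - 1 by omega] at h3
  have r := h.reverse
  -- `H(T, K) = H(T₁, N)`
  have hH : hOf T₁ N = hOf T K := by
    obtain ⟨hA, hB⟩ := h.line_eq_h e h0 h1 hG
    rw [← hA, ← hB e₁ h2 h3]
    -- the claim for the reversed path, shifted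
    obtain ⟨y, hy, -, -, hfy⟩ := e.left.exists_y
    have hyP := e.left.k_le_p hy
    have hs := h.shift e h0 h1 hG hyP (e.left.moves hfy)
    have := hs.reverse.line_eq_h' e₁.symm (by
      rw [h3, if_neg (by omega)]; simp) (by
      rw [h2, if_neg (by omega)]; congr 1) hG
    exact this.symm
  obtain ⟨⟨x, hx⟩, hxne, -⟩ := (Nat.card_eq_two_iff' (1 : ↥(lineOf T K'))).mp e.right.line_card
  rw [(h.line_eq_h e h0 h1 hG).1] at hx
  have hx1 : x ≠ 1 := fun he => hxne (Subtype.ext he)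
  have heq : f (b - 2) = f 0 := by
    rw [← h0, ← h2, ← e.left.centralizer_eq hG hx hx1,
      ← e₁.left.centralizer_eq hG (hH.ge hx) hx1]
  refine h.bad ?_
  have := h.small 2 (by omega) (fun k => f (b - 2 + k)) fun k hk => h.path (b - 2 + k) (by omega)
  rwa [Nat.add_zero, heq, show b - 2 + 2 = b by omega] at this

omit [Finite G] in
theorem commute_mul_comm {v w z : G} (hz : ∀ x : G, x = v ∨ x = w → Commute z x)
    (h : ⁅v, w⁆ = z) : v * w = z * w * v := by
  have : v * w * v⁻¹ * w⁻¹ = z := by rw [← commutatorElement_def]; exact h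
  rw [← this]
  group

theorem Crit.false_of_two (hG : ZN G) {f : ℕ → Subgroup G} (h : Crit 2 f) : False := by
  obtain ⟨T, L, K, L', K', e, h0, h1, hc01⟩ := h.path 0 (by omega)
  obtain ⟨T₁, M, N, M', N', e₁, h2, h3, hc12⟩ := h.path 1 (by omega)
  have hv := e.left
  have hv' := e.right
  obtain ⟨hA, hB⟩ := h.line_eq_h e h0 h1 hG
  have hA' := h.line_eq_h' e h0 h1 hG
  obtain ⟨y, hy, -, -, hfy⟩ := hv.exists_y
  have hyP := hv.k_le_p hy
  obtain ⟨a, haV, haT, haW, -⟩ := h.exists_moving e h0 h1 hG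
  set Z := omegaCenterOf T with hZ
  set H := hOf T K with hH
  -- `v` generates `V₁` over `Z₀`
  obtain ⟨v, hvV, hvZ⟩ : ∃ v ∈ vOf (f 1), v ∉ Z := SetLike.not_le_iff_exists.mp fun hle => by
    have h5 := card_le_of_le hle
    have h6 : Nat.card ↥(vOf (f 1)) = 2 * Nat.card ↥Z := h1 ▸ hv'.v_card hG
    have h7 : 0 < Nat.card ↥Z := Nat.card_pos
    omega
  have hZ₁ : Z ≤ vOf (f 1) := h1 ▸ hv'.z_le_v hG
  have hidx : (Z.subgroupOf (vOf (f 1))).index = 2 := by
    have h5 := relIndex_mul_relIndex ⊥ Z (vOf (f 1)) bot_le hZ₁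
    rw [relIndex_bot_left, relIndex_bot_left, show Nat.card ↥(vOf (f 1)) = 2 * Nat.card ↥Z from
      h1 ▸ hv'.v_card hG] at h5
    exact Nat.eq_of_mul_eq_mul_left (Nat.card_pos (α := Z)) (by
      rw [show (Z.subgroupOf (vOf (f 1))).index = Z.relIndex (vOf (f 1)) from rfl, h5, mul_comm])
  have hsplit : ∀ x ∈ vOf (f 1), x ∈ Z ∨ v⁻¹ * x ∈ Z := fun x hx => by
    by_cases hxZ : x ∈ Z
    · exact Or.inl hxZ
    · exact Or.inr (mem_subgroupOf.mp ((Subgroup.mul_mem_iff_of_index_two hidx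
        (a := ⟨v⁻¹, inv_mem hvV⟩) (b := ⟨x, hx⟩)).mpr
        (iff_of_false (fun h => hvZ (inv_mem_iff.mp (mem_subgroupOf.mp h)))
          fun h => hxZ (mem_subgroupOf.mp h))))
  -- conjugates of `v` by moving elements
  have hkey : ∀ q ∈ pOf T K, (∃ l ∈ lineOf T K, q * l * q⁻¹ ∉ lineOf T K) →
      ⁅v, q * v * q⁻¹⁆ ∈ H ∧ ⁅v, q * v * q⁻¹⁆ ≠ 1 := by
    intro q hq hmove
    have hs := h.shift e h0 h1 hG hq hmove
    have hq0 : (f 0).map (MulAut.conj q).toMonoidHom = f 0 := map_conj_self (h0 ▸ hq)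
    have hqV : q * v * q⁻¹ ∈ vOf ((f 1).map (MulAut.conj q).toMonoidHom) := by
      rw [vOf_map_conj]; exact ⟨v, hvV, rfl⟩
    refine ⟨?_, fun h1' => hs.bad ?_⟩
    · have hqT : q * v * q⁻¹ ∈ T := hs.reverse.le_first e.symm h1 h0 hG hqV
      exact hA ▸ hv'.comm_line hG hqT (h1 ▸ hvV)
    · have hcq : Commute v (q * v * q⁻¹) := commutatorElement_eq_one_iff_mul_comm.mp h1'
      have hc' : CommV (f 0) ((f 1).map (MulAut.conj q).toMonoidHom) :=
        hq0 ▸ hc01.map_conj q
      have hZ₀ : Z ≤ vOf (f 0) := h0 ▸ hv.z_le_v hG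
      intro x hx z hz
      change x ∈ vOf ((f 1).map (MulAut.conj q).toMonoidHom) at hx
      change z ∈ vOf (f 1) at hz
      rw [vOf_map_conj] at hx
      obtain ⟨x, hx, rfl⟩ := hx
      show Commute (q * x * q⁻¹) z
      -- conjugates of `Z₀` lie in `V₀`
      have hqZ : ∀ w ∈ Z, q * w * q⁻¹ ∈ vOf (f 0) := fun w hw => by
        rw [← hq0, vOf_map_conj]; exact ⟨w, hZ₀ hw, rfl⟩
      have hz' : Commute (q * v * q⁻¹) z := by
        rcases hsplit z hz with hzZ | hzZ
        · exact (hc' z (hZ₀ hzZ) _ hqV).symm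
        · have := hcq.symm.mul_right (hc' _ (hZ₀ hzZ) _ hqV).symm
          rwa [mul_inv_cancel_left] at this
      rcases hsplit x hx with hxZ | hxZ
      · exact hc01 _ (hqZ x hxZ) z hz
      · rw [show q * x * q⁻¹ = (q * v * q⁻¹) * (q * (v⁻¹ * x) * q⁻¹) by group]
        exact hz'.mul_left (hc01 _ (hqZ _ hxZ) z hz)
  obtain ⟨x₀, -, huniq⟩ := (Nat.card_eq_two_iff' (1 : ↥H)).mp
    (show Nat.card ↥H = 2 by rw [← hA]; exact hv'.line_card)
  set z : G := (x₀ : G) with hzdef
  have hzH : z ∈ H := x₀.2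
  have hone : ∀ c ∈ H, c ≠ 1 → c = z := fun c hc hc1 =>
    congrArg Subtype.val (huniq ⟨c, hc⟩ fun he => hc1 (congrArg Subtype.val he))
  have hzc : ∀ g ∈ pOf T K, Commute z g := fun g hg => hg.2 z hzH
  have hz2 : z * z = 1 := by rw [← sq]; exact (isElementaryAbelian_omegaCenterOf T).2 z hzH.1
  -- the three conjugates
  set w := y * v * y⁻¹ with hw
  set u := a * w * a⁻¹ with hu
  have haP : a ∈ pOf T K := hv.t_le_p haT
  have hav : Commute a v := (hc12 v hvV a haV).symm
  have ha2 : a * a = 1 := by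
    rw [← sq]; exact (isElementaryAbelian_omegaCenterOf _).2 a haV
  have hainv : a⁻¹ = a := inv_eq_of_mul_eq_one_left ha2
  have hfix : ∀ l ∈ lineOf T K, a * l * a⁻¹ = l := fun l hl =>
    mul_inv_eq_iff_eq_mul.mpr (hv.t_comm_z haT hl.1).eq
  have hcw : ⁅v, w⁆ = z := hone _ (hkey y hyP (hv.moves hfy)).1 (hkey y hyP (hv.moves hfy)).2
  have hcu : ⁅v, u⁆ = z := by
    rw [hu, hw, show a * (y * v * y⁻¹) * a⁻¹ = (a * y) * v * (a * y)⁻¹ by group]
    have := hkey (a * y) (mul_mem haP hyP) (by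
      obtain ⟨l, hl, hyl⟩ := hv.moves hfy
      refine ⟨l, hl, fun h' => hyl ?_⟩
      have h5 := hfix _ h'
      have h6 : y * l * y⁻¹ = a * (a * y * l * (a * y)⁻¹) * a⁻¹ := by
        rw [show a * (a * y * l * (a * y)⁻¹) * a⁻¹ = (a * a) * (y * l * y⁻¹) * (a * a)⁻¹ by group,
          ha2]; group
      rw [h6, h5]; exact h')
    exact hone _ this.1 this.2
  have hwu : ⁅w, u⁆ = z := by
    have := hkey (y⁻¹ * a * y) (mul_mem (mul_mem (inv_mem hyP) haP) hyP) (by
      obtain ⟨l, hl, hyl⟩ := hv.moves hfy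
      refine ⟨l, hl, fun h' => hyl ?_⟩
      have hlW : y * l * y⁻¹ ∈ wOf K := (mem_normalizer_iff.mp hfy.1 l).mp hl.2
      obtain ⟨⟨l₀, hl₀⟩, hl₀ne, hlu⟩ :=
        (Nat.card_eq_two_iff' (1 : ↥(lineOf T K))).mp hv.line_card
      have hl1 : l ≠ 1 := fun he => by rw [he] at hyl; simp at hyl
      have h5 : y⁻¹ * a * y * l * (y⁻¹ * a * y)⁻¹ = l := by
        have e1 := hlu ⟨_, h'⟩ fun he => hl1 (conj_eq_one_iff.mp (congrArg Subtype.val he))
        have e2 := hlu ⟨l, hl⟩ fun he => hl1 (congrArg Subtype.val he)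
        exact congrArg Subtype.val (e1.trans e2.symm)
      have h6 : Commute a (y * l * y⁻¹) := by
        have := congrArg (fun s => y * s * y⁻¹ * a) h5
        simpa [mul_assoc, commute_iff_eq] using this
      have hsub : lineOf T K ≤ wOf K ⊓ centralizer ({a} : Set G) := fun x hx =>
        ⟨hx.2, mem_centralizer_singleton_iff.mpr (hv.t_comm_z haT hx.1).symm.eq⟩
      exact (eq_of_le_of_card_ge hsub (by rw [hv.line_card]; exact card_fix_le hv.w4 haW)).ge
        ⟨hlW, mem_centralizer_singleton_iff.mpr h6.symm.eq⟩)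
    rw [hu, hw, show ⁅y * v * y⁻¹, a * (y * v * y⁻¹) * a⁻¹⁆ =
      y * ⁅v, (y⁻¹ * a * y) * v * (y⁻¹ * a * y)⁻¹⁆ * y⁻¹ by
        simp only [commutatorElement_def]; group, hone _ this.1 this.2]
    exact mul_inv_eq_iff_eq_mul.mpr (hzc y hyP).symm.eq
  set d := v * w * u with hd
  have hvR : v ∈ pCoreOf 2 (pOf T K) := by
    refine (hv.setting hG).inf_cOf_le ⟨(e.right.setting hG).pCore_le (h1 ▸ vOf_le _ hvV), ?_, ?_⟩
    · exact hv.t_le_p ((e.right.setting hG).pCore_le (h1 ▸ vOf_le _ hvV))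
    · exact fun x hx => (hc01 x (h0 ▸ hx) v hvV).eq
  have hwR : w ∈ pCoreOf 2 (pOf T K) :=
    (mem_normalizer_iff.mp (le_normalizer_pCoreOf 2 _ hyP) v).mp hvR
  have huR : u ∈ pCoreOf 2 (pOf T K) :=
    (mem_normalizer_iff.mp (le_normalizer_pCoreOf 2 _ haP) w).mp hwR
  have hdT : d ∈ T := (hv.setting hG).pCore_le (mul_mem (mul_mem hvR hwR) huR)
  have hvP : v ∈ pOf T K := (pCoreOf_le 2 _) hvR
  have hwP : w ∈ pOf T K := (pCoreOf_le 2 _) hwR
  have huP : u ∈ pOf T K := (pCoreOf_le 2 _) huR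
  have e1 : v * w = z * w * v :=
    commute_mul_comm (by rintro x (rfl | rfl); exacts [hzc _ hvP, hzc _ hwP]) hcw
  have e2 : v * u = z * u * v :=
    commute_mul_comm (by rintro x (rfl | rfl); exacts [hzc _ hvP, hzc _ huP]) hcu
  have e3 : w * u = z * u * w :=
    commute_mul_comm (by rintro x (rfl | rfl); exacts [hzc _ hwP, hzc _ huP]) hwu
  have hdv : Commute v d := by
    show v * (v * w * u) = v * w * u * v
    calc v * (v * w * u) = v * ((z * w * v) * u) := by rw [← e1]
      _ = v * (z * w) * (v * u) := by group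
      _ = v * (z * w) * (z * u * v) := by rw [e2]
      _ = v * (z * w * z) * (u * v) := by group
      _ = v * w * (u * v) := by
          rw [show z * w * z = w from by rw [mul_assoc, ← (hzc w hwP).eq, ← mul_assoc, hz2, one_mul]]
      _ = v * w * u * v := by group
  -- `d` lies in `O₂P₁`
  have hdR : d ∈ pCoreOf 2 (pOf T K') := by
    refine (hv'.setting hG).inf_cOf_le ⟨hdT, hv'.t_le_p hdT, fun x hx => ?_⟩
    rcases hsplit x (h1 ▸ hx) with hxZ | hxZ
    · exact (hv'.t_comm_z hdT hxZ).symm.eq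
    · have := hdv.mul_left (hv'.t_comm_z hdT hxZ).symm
      rw [mul_inv_cancel_left] at this
      exact this.eq
  have hdT₁ : d ∈ T₁ := (e₁.left.setting hG).pCore_le (by rw [h2, ← h1]; exact hdR)
  have hline := h.lines e h0 h1 hG e₁ (by rw [h2]) h3
  have hcl : ⁅a, d⁆ ∈ hOf T K' := hA' ▸ hline ▸ e₁.right.comm_line hG hdT₁ (h3 ▸ haV)
  have hau : a * u * a⁻¹ = w := by
    rw [hu, hainv, show a * (a * w * a) * a = (a * a) * w * (a * a) by group, ha2, one_mul, mul_one]
  have hconj : a * d * a⁻¹ = v * u * w := by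
    rw [hd, show a * (v * w * u) * a⁻¹ = (a * v * a⁻¹) * (a * w * a⁻¹) * (a * u * a⁻¹) by group,
      hau, ← hu, show a * v * a⁻¹ = v from mul_inv_eq_iff_eq_mul.mpr hav.eq]
  have hval : ⁅a, d⁆ = z := by
    rw [show ⁅a, d⁆ = (a * d * a⁻¹) * d⁻¹ from commutatorElement_def a d, hconj, mul_inv_eq_iff_eq_mul,
      hd, show z * (v * w * u) = z * v * (w * u) by group, e3,
      show z * v * (z * u * w) = (z * v * z) * (u * w) by group,
      show z * v * z = v from by rw [mul_assoc, ← (hzc v hvP).eq, ← mul_assoc, hz2, one_mul],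
      mul_assoc]
  have : z ∈ hOf T K ⊓ hOf T K' := ⟨hzH, hval ▸ hcl⟩
  rw [e.h_inf, mem_bot] at this
  exact (hkey y hyP (hv.moves hfy)).2 (hcw.trans this)

/-- Two vertices over `T` do not commute. -/
theorem Edge.pair {T L₁ K₁ L₂ K₂ : Subgroup G} (e : Edge T L₁ K₁ L₂ K₂) (hG : ZN G) :
    ¬ CommV (pOf T K₁) (pOf T K₂) := by
  classical
  have : Fact (Nat.Prime 2) := ⟨Nat.prime_two⟩
  intro hcomm
  suffices hbad : ∃ n, ∃ f : ℕ → Subgroup G, Path n f ∧ ¬ CommV (f 0) (f n) by
    obtain ⟨f, hf, hb⟩ := Nat.find_spec hbad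
    have hc : Crit (Nat.find hbad) f := ⟨hf, hb, fun m hm g hg => by
      by_contra hcon
      exact Nat.find_min hbad hm ⟨g, hg, hcon⟩⟩
    exact Crit.false_of_two hG (hc.eq_two hG ▸ hc)
  by_contra hno
  push Not at hno
  set R : Set (Subgroup G) := {X | Relation.ReflTransGen Adj (pOf T K₁) X} with hR
  have hpath : ∀ {X Y : Subgroup G}, Relation.ReflTransGen Adj X Y →
      ∃ n, ∃ f : ℕ → Subgroup G, Path n f ∧ f 0 = X ∧ f n = Y := by
    intro X Y hXY
    induction hXY with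
    | refl => exact ⟨0, fun _ => X, fun i hi => absurd hi (by omega), rfl, rfl⟩
    | @tail Y Z _ hYZ ih =>
      obtain ⟨n, f, hf, h0, hn⟩ := ih
      refine ⟨n + 1, fun k => if k ≤ n then f k else Z, fun i hi => ?_, by simp [h0], by simp⟩
      rcases eq_or_lt_of_le (Nat.lt_succ_iff.mp hi) with rfl | hi'
      · simpa [hn] using hYZ
      · simpa [hi'.le, Nat.succ_le_of_lt hi'] using hf i hi'
  have hsymm : ∀ {X Y : Subgroup G}, Relation.ReflTransGen Adj X Y →
      Relation.ReflTransGen Adj Y X := fun {X Y} h => by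
    induction h with
    | refl => exact Relation.ReflTransGen.refl
    | tail _ h ih => exact Relation.ReflTransGen.head h.symm ih
  have hcR : ∀ X ∈ R, ∀ Y ∈ R, CommV X Y := fun X hX Y hY => by
    have hXY : Relation.ReflTransGen Adj X Y :=
      (hsymm hX).trans hY
    obtain ⟨n, f, hf, rfl, rfl⟩ := hpath hXY
    exact hno n f hf
  set E : Subgroup G := closure (⋃ X ∈ R, (vOf X : Set G)) with hE
  have hgen2 : ∀ x ∈ ⋃ X ∈ R, (vOf X : Set G), x ^ 2 = 1 := fun x hx => by
    obtain ⟨X, hX, hx⟩ := Set.mem_iUnion₂.mp hx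
    exact (isElementaryAbelian_omegaCenterOf _).2 x hx
  have hab : ∀ x ∈ E, ∀ z ∈ E, Commute x z := by
    intro x hx z hz
    induction hx, hz using Subgroup.closure_induction₂ with
    | mem x z hx hz =>
      obtain ⟨X, hX, hx⟩ := Set.mem_iUnion₂.mp hx
      obtain ⟨Z', hZ', hz⟩ := Set.mem_iUnion₂.mp hz
      exact hcR X hX Z' hZ' x hx z hz
    | one_left _ _ => exact Commute.one_left _
    | one_right _ _ => exact Commute.one_right _
    | mul_left _ _ _ _ _ _ h1 h2 => exact h1.mul_left h2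
    | mul_right _ _ _ _ _ _ h1 h2 => exact h1.mul_right h2
    | inv_left _ _ _ _ h => exact h.inv_left
    | inv_right _ _ _ _ h => exact h.inv_right
  have hexp : ∀ x ∈ E, x ^ 2 = 1 := fun x hx => by
    induction hx using Subgroup.closure_induction with
    | mem x hx => exact hgen2 x hx
    | one => exact one_pow _
    | mul x z hx hz h1 h2 => rw [(hab x hx z hz).mul_pow, h1, h2, one_mul]
    | inv x hx h => rw [inv_pow, h, inv_one]
  have hEp : IsPGroup 2 E := fun x => ⟨1, Subtype.ext (by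
    simpa using hexp x x.2)⟩
  have hle : ∀ {X}, X ∈ R → vOf X ≤ E := fun {X} hX x hx =>
    subset_closure (Set.mem_biUnion hX hx)
  have hmem : pOf T K₂ ∈ R := Relation.ReflTransGen.single ⟨_, _, _, _, _, e, rfl, rfl, hcomm⟩
  have hne : E ≠ ⊥ := fun h0 => by
    have h5 := (e.left.w_le_v hG).trans (hle (X := pOf T K₁) Relation.ReflTransGen.refl)
    rw [h0, le_bot_iff] at h5
    have := e.left.w4
    rw [h5, Subgroup.card_bot] at this
    omega
  have hnorm : ∀ {P}, P ∈ R → ∀ g ∈ P, g ∈ normalizer (E : Set G) := fun {P} hP g hg => by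
    refine Subnormal.mem_normalizer_of_cj_le ?_
    rw [Subnormal.cj, map_le_iff_le_comap, hE, closure_le]
    rintro x hx
    obtain ⟨X, hX, hx⟩ := Set.mem_iUnion₂.mp hx
    have hPX : Relation.ReflTransGen Adj P (X.map (MulAut.conj g).toMonoidHom) := by
      have h5 : Relation.ReflTransGen Adj P X :=
        (hsymm hP).trans hX
      have h6 : Relation.ReflTransGen Adj (P.map (MulAut.conj g).toMonoidHom)
          (X.map (MulAut.conj g).toMonoidHom) := h5.lift (fun X : Subgroup G => X.map (MulAut.conj g).toMonoidHom)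
        fun _ _ h => h.map_conj g
      rwa [map_conj_self hg] at h6
    refine hle (hP.trans hPX) ?_
    rw [vOf_map_conj]
    exact ⟨x, hx, rfl⟩
  exact e.no_local (X := normalizer (E : Set G)) ⟨E, hEp, hne, rfl⟩
    (fun k hk => hnorm Relation.ReflTransGen.refl k (e.left.k_le_p hk))
    (fun k hk => hnorm hmem k (e.right.k_le_p hk))
    (fun j hj => hnorm hmem j (e.right.t_le_p (PGroup.thompsonSubgroupOf_le T hj)))

end Cfsg.Agent.JComponent
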