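import Cfsg.Agent.Lib.JComponent.Amalgam
import Cfsg.Agent.Lib.Transfer.Thompson

/-!
# The two vertices inside `O²(G)`

* `tZero`: the dihedral group `W₁W₂`
* `Edge.h_not_mem`: for `|H₁| = 2` transfer into `S/W₁W₂` moves `H₁` outside `O²(G)`
* `residual_locals`: the two maximal 2-local subgroups of `O²(G)`
-/

set_option autoImplicit false
set_option synthInstance.maxSize 512

namespace Cfsg.Agent.JComponent

open Subgroup LocalStructure
open scoped commutatorElement

universe u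

variable {G : Type u} [Group G] [Finite G]

/-- The dihedral subgroup generated by the two four-groups. -/
def tZero (K₁ K₂ : Subgroup G) : Subgroup G := wOf K₁ ⊔ wOf K₂

section EdgeTwo

variable {T L₁ K₁ L₂ K₂ : Subgroup G} (e : Edge T L₁ K₁ L₂ K₂) (hG : ZN G)
include e hG

theorem Edge.exists_w : ∃ a ∈ wOf K₂, a ∈ T ∧ a ∉ centralizer (wOf K₁ : Set G) ∧ a ^ 2 = 1 := by
  obtain ⟨a, haV, haT, haW, -⟩ := e.exists_a hG
  obtain ⟨w, hw, f, hf, rfl⟩ := (e.right.mem_v hG).mp haV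
  have hfT : f ∈ T := (omegaCenterOf_le _ hf.1).1
  have hfc : f ∈ centralizer (wOf K₁ : Set G) := fun x hx =>
    PGroup.mul_comm_of_elementaryAbelian (isElementaryAbelian_omegaCenterOf _)
      (e.left.w_le_v hG hx) (e.left.z_le_v hG hf.1)
  refine ⟨w, hw, ?_, fun h => haW (mul_mem h hfc),
    (isElementaryAbelian_omegaCenterOf _).2 w (e.right.w_le_v hG hw)⟩
  simpa using mul_mem haT (inv_mem hfT)

theorem Edge.line_eq : lineOf T K₁ = lineOf T K₂ := by
  obtain ⟨a, ha, haT, haW, -⟩ := e.exists_w hG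
  obtain ⟨w, hw, hwa⟩ : ∃ w ∈ wOf K₁, ¬ Commute w a := by
    by_contra hcon
    push Not at hcon
    exact haW fun w hw => hcon w hw
  have hwT : w ∈ T :=
    (e.left.setting hG).pCore_le (vOf_le _ (e.left.w_le_v hG hw))
  have h1 := e.left.comm_line hG haT (e.left.w_le_v hG hw)
  have h2 := e.right.comm_line hG hwT (e.right.w_le_v hG ha)
  refine eq_of_two e.left.line_card e.right.line_card.le (x := ⁅w, a⁆) h1 ?_
    fun he => hwa (commutatorElement_eq_one_iff_mul_comm.mp he)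
  rw [← commutatorElement_inv]
  exact inv_mem h2

/-- The involutions of `T` lie in `V₁ ∪ V₂`. -/
theorem Edge.inv_mem {x : G} (hxT : x ∈ T) (hx2 : x ^ 2 = 1) :
    x ∈ vOf (pOf T K₁) ∨ x ∈ vOf (pOf T K₂) := by
  have v := e.left
  obtain ⟨a, haW2, haT, haW, ha2⟩ := e.exists_w hG
  by_cases hxW : x ∈ centralizer (wOf K₁ : Set G)
  · left
    rw [← e.core_eq hG]
    exact (v.mem_core_iff hG hxT).mpr hxW
  right
  rcases two_group_cases v.w4 v.syl.2.1 v.t_normW haT haW hxT with h1 | h1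
  · exact absurd h1 hxW
  set b := a⁻¹ * x with hb
  have hbT : b ∈ T := mul_mem (Subgroup.inv_mem _ haT) hxT
  have hbE : b ∈ vOf (pOf T K₁) := by
    rw [← e.core_eq hG]
    exact (v.mem_core_iff hG hbT).mpr h1
  have hab : Commute a b := by
    have hb2 : b ^ 2 = 1 := (isElementaryAbelian_omegaCenterOf _).2 b hbE
    have hx' : (a * b) ^ 2 = 1 := by rw [hb, mul_inv_cancel_left]; exact hx2
    rw [sq] at ha2 hb2 hx'
    show a * b = b * a
    calc a * b = (a * b)⁻¹ := eq_inv_of_mul_eq_one_left hx'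
      _ = b⁻¹ * a⁻¹ := mul_inv_rev _ _
      _ = b * a := by rw [inv_eq_of_mul_eq_one_left ha2, inv_eq_of_mul_eq_one_left hb2]
  obtain ⟨w, hw, f, hf, hwf⟩ := (v.mem_v hG).mp hbE
  have hwc : Commute w a := by
    have h2 : Commute (w * f) a := hwf ▸ hab.symm
    have h3 := h2.mul_left (v.t_comm_z haT hf.1).symm.inv_left
    rwa [mul_inv_cancel_right] at h3
  have hsub : lineOf T K₁ ≤ wOf K₁ ⊓ centralizer ({a} : Set G) := fun z hz =>
    ⟨hz.2, mem_centralizer_singleton_iff.mpr (v.t_comm_z haT hz.1).symm.eq⟩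
  have hwl : w ∈ lineOf T K₁ :=
    (eq_of_le_of_card_ge hsub (by rw [v.line_card]; exact card_fix_le v.w4 haW)).ge
      ⟨hw, mem_centralizer_singleton_iff.mpr hwc.eq⟩
  have hbZ : b ∈ omegaCenterOf T := hwf ▸ mul_mem hwl.1 hf.1
  rw [show x = a * b by rw [hb, mul_inv_cancel_left]]
  exact mul_mem (e.right.w_le_v hG haW2) (e.right.z_le_v hG hbZ)

theorem Edge.tZero_le : tZero K₁ K₂ ≤ T :=
  sup_le (((e.left.w_le_v hG).trans (vOf_le _)).trans (e.left.setting hG).pCore_le)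
    (((e.right.w_le_v hG).trans (vOf_le _)).trans (e.right.setting hG).pCore_le)

theorem Edge.tZero_facts : (∀ x ∈ tZero K₁ K₂, x ∈ vOf (pOf T K₁) → x ∈ wOf K₁) ∧
    Nat.card ↥(tZero K₁ K₂) = 8 := by
  have : Fact (Nat.Prime 2) := ⟨Nat.prime_two⟩
  obtain ⟨a, ha, haT, haW, ha2⟩ := e.exists_w hG
  have ha1 : a ≠ 1 := fun h => haW (h ▸ one_mem _)
  have hza : Nat.card (zpowers a) = 2 := by rw [Nat.card_zpowers, orderOf_eq_prime ha2 ha1]
  have haV1 : a ∉ vOf (pOf T K₁) := fun h => haW fun x hx =>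
    PGroup.mul_comm_of_elementaryAbelian (isElementaryAbelian_omegaCenterOf _)
      (e.left.w_le_v hG hx) h
  have hpow : ∀ y ∈ zpowers a, y = 1 ∨ y = a := fun y hy => by
    obtain ⟨c, -, huniq⟩ := (Nat.card_eq_two_iff' (1 : ↥(zpowers a))).mp hza
    by_cases hy1 : y = 1
    · exact Or.inl hy1
    · exact Or.inr (congrArg Subtype.val ((huniq ⟨y, hy⟩ fun h => hy1 (congrArg Subtype.val h)).trans
        (huniq ⟨a, mem_zpowers a⟩ fun h => ha1 (congrArg Subtype.val h)).symm))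
  have hn : zpowers a ≤ normalizer (wOf K₁ : Set G) := zpowers_le.mpr (e.left.t_normW haT)
  have hlW : ∀ {x : G}, x ∈ lineOf T K₂ → x ∈ wOf K₁ := fun hx => ((e.line_eq hG).ge hx).2
  have hsup : tZero K₁ K₂ = zpowers a ⊔ wOf K₁ := by
    refine le_antisymm (sup_le le_sup_right ?_)
      (sup_le ((zpowers_le.mpr ha).trans le_sup_right) le_sup_left)
    intro w hw
    have hidx : ((lineOf T K₂).subgroupOf (wOf K₂)).index = 2 := by
      have h1 := relIndex_mul_relIndex ⊥ (lineOf T K₂) (wOf K₂) bot_le inf_le_right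
      rw [relIndex_bot_left, relIndex_bot_left, e.right.line_card, e.right.w4] at h1
      show (lineOf T K₂).relIndex (wOf K₂) = 2
      omega
    by_cases hwl : w ∈ lineOf T K₂
    · exact mem_sup_right (hlW hwl)
    · have hal : a ∉ lineOf T K₂ := fun h => haV1 (e.left.w_le_v hG (hlW h))
      have h1 : a⁻¹ * w ∈ lineOf T K₂ := mem_subgroupOf.mp
        ((Subgroup.mul_mem_iff_of_index_two hidx (a := ⟨a⁻¹, Subgroup.inv_mem _ ha⟩)
          (b := ⟨w, hw⟩)).mpr (iff_of_false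
            (fun h => hal (inv_mem_iff.mp (mem_subgroupOf.mp h)))
            fun h => hwl (mem_subgroupOf.mp h)))
      rw [← mul_inv_cancel_left a w]
      exact mul_mem (mem_sup_left (mem_zpowers a)) (mem_sup_right (hlW h1))
  refine ⟨fun x hx hxV => ?_, ?_⟩
  · rw [hsup] at hx
    obtain ⟨p, hp, w, hw, rfl⟩ := exists_mul_of_mem_sup hn hx
    rcases hpow p hp with rfl | rfl
    · rwa [one_mul]
    · refine absurd ?_ haV1
      simpa using mul_mem hxV (Subgroup.inv_mem _ (e.left.w_le_v hG hw))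
  · have h1 := Offender.card_sup_mul_card_inf hn
    have h2 : zpowers a ⊓ wOf K₁ = ⊥ := by
      refine (eq_bot_iff_forall _).mpr fun y hy => ?_
      rcases hpow y hy.1 with h | h
      · exact h
      · exact absurd (e.left.w_le_v hG (h ▸ hy.2)) haV1
    rw [h2, Subgroup.card_bot, mul_one, hza, e.left.w4, ← hsup] at h1
    exact h1

theorem Edge.twoClosed_line {z : G} (hz : z ∈ lineOf T K₁) (hz1 : z ≠ 1) :
    TwoClosed (centralizer ({z} : Set G)) := by
  rcases e.cover z hz.1 hz1 with h | ⟨L₃, K₃, v₃, hz₃⟩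
  · exact h
  exfalso
  by_cases hL : L₁ = L₃
  · have hP : L₁ = pOf T K₁ := (e.local_eq hG).1
    have hK₃ : K₃ ≤ pOf T K₁ := hP ▸ hL ▸ le_sup_left.trans v₃.le
    have hKK : K₁ ≤ K₃ := e.left.comp_le_comp hG e.left.comp v₃.comp e.left.k_le_p hK₃
    have h1 : z ∈ hOf T K₁ ⊓ wOf K₁ :=
      ⟨⟨hz.1, centralizer_le (SetLike.coe_subset_coe.mpr hKK) hz₃.2⟩, hz.2⟩
    rw [e.left.h_inf, mem_bot] at h1
    exact hz1 h1
  · have e' : Edge T L₁ K₁ L₃ K₃ := ⟨e.left, v₃, hL, e.cover⟩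
    have h1 : z ∈ hOf T K₃ ⊓ wOf K₃ := ⟨hz₃, ((e'.line_eq hG).le hz).2⟩
    rw [v₃.h_inf, mem_bot] at h1
    exact hz1 h1

theorem Edge.twoClosed_w {x : G} (hx : x ∈ wOf K₁) (hx1 : x ≠ 1) :
    TwoClosed (centralizer ({x} : Set G)) := by
  obtain ⟨⟨z, hz⟩, hzne, -⟩ := (Nat.card_eq_two_iff' (1 : ↥(lineOf T K₁))).mp e.left.line_card
  have hz1 : z ≠ 1 := fun h => hzne (Subtype.ext h)
  obtain ⟨y, -, -, -, hf⟩ := e.left.exists_y
  obtain ⟨i, hi⟩ := mem_of_three e.left.w4 hz.2 hz1 hf hx hx1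
  have h := (e.twoClosed_line hG hz hz1).map_conj (y ^ i)
  rwa [map_centralizer_singleton, hi] at h

omit hG in
theorem Edge.h_not_closed {x : G} (hx : x ∈ hOf T K₁) :
    ¬ TwoClosed (centralizer ({x} : Set G)) :=
  comp_not_closed e.left.comp e.left.syl.2.1 (sup_le
    (fun k hk => mem_centralizer_singleton_iff.mpr (hx.2 k hk))
    fun j hj => mem_centralizer_singleton_iff.mpr
      (e.left.t_comm_z (PGroup.thompsonSubgroupOf_le T hj) hx.1).eq)

/-- A conjugate of an element of `H₁` is not an element of `W₁W₂`. -/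
theorem Edge.conj_not_mem {h c : G} (hh : h ∈ hOf T K₁) (hh1 : h ≠ 1) :
    c * h * c⁻¹ ∉ tZero K₁ K₂ := by
  intro hx
  set x := c * h * c⁻¹ with hxdef
  have hx1 : x ≠ 1 := fun h' => hh1 (conj_eq_one_iff.mp h')
  have hx2 : x ^ 2 = 1 := by
    rw [hxdef, conj_pow, (isElementaryAbelian_omegaCenterOf T).2 h hh.1]; group
  have hcl : TwoClosed (centralizer ({x} : Set G)) := by
    rcases e.inv_mem hG (e.tZero_le hG hx) hx2 with h1 | h1
    · exact e.twoClosed_w hG ((e.tZero_facts hG).1 x hx h1) hx1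
    · refine e.symm.twoClosed_w hG ((e.symm.tZero_facts hG).1 x ?_ h1) hx1
      rw [tZero, sup_comm]
      exact hx
  have h2 := hcl.map_conj c⁻¹
  rw [map_centralizer_singleton, show c⁻¹ * x * c⁻¹⁻¹ = h by rw [hxdef]; group] at h2
  exact e.h_not_closed hh h2

/-- Transfer: `H₁` is outside `O²(G)`. -/
theorem Edge.h_not_mem (h2 : Nat.card ↥(hOf T K₁) = 2) {S : Sylow 2 G}
    (hTS : T ≤ (S : Subgroup G)) (hn : (S : Subgroup G) ≤ normalizer (tZero K₁ K₂ : Set G))
    (hS : Nat.card ↥(S : Subgroup G) ≤ 32) {h : G} (hh : h ∈ hOf T K₁) (hh1 : h ≠ 1)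
    (hconj : ∀ c : G, c * h * c⁻¹ ∈ (S : Subgroup G) → c * h * c⁻¹ ∈ T) :
    h ∉ Subgroup.closure {g : G | Odd (orderOf g)} := by
  have : Fact (Nat.Prime 2) := ⟨Nat.prime_two⟩
  set D := tZero K₁ K₂ with hD
  have hD8 : Nat.card D = 8 := (e.tZero_facts hG).2
  have hDS : D ≤ (S : Subgroup G) := (e.tZero_le hG).trans hTS
  have : (D.subgroupOf (S : Subgroup G)).Normal :=
    (normal_subgroupOf_iff_le_normalizer hDS).mpr hn
  -- the quotient is abelian
  set Q := ↥(S : Subgroup G) ⧸ D.subgroupOf (S : Subgroup G)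
  have hQp : IsPGroup 2 Q := S.2.to_quotient _
  have hQc : Nat.card Q ≤ 4 := by
    have h3 := card_eq_card_quotient_mul_card_subgroup (D.subgroupOf (S : Subgroup G))
    rw [Coprime.card_subgroupOf hDS, hD8] at h3
    have : Nat.card ↥(S : Subgroup G) = Nat.card Q * 8 := h3
    omega
  have hcomm : ∀ a b : Q, a * b = b * a := by
    obtain ⟨n, hn'⟩ := IsPGroup.iff_card.mp hQp
    have hn2 : n ≤ 2 := by
      by_contra hcon
      have : 2 ^ 3 ≤ 2 ^ n := Nat.pow_le_pow_right (by omega) (by omega)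
      omega
    intro a b
    interval_cases n
    · have : Subsingleton Q := (Nat.card_eq_one_iff_unique.mp (by simpa using hn')).1
      exact Subsingleton.elim _ _
    · have : IsCyclic Q := isCyclic_of_prime_card (p := 2) (by simpa using hn')
      exact IsCyclic.commutative.is_comm.comm a b
    · exact (IsPGroup.isMulCommutative_of_card_eq_prime_sq (p := 2) hn').is_comm.comm a b
  letI : CommGroup Q := { (inferInstance : Group Q) with mul_comm := hcomm }
  set φ : ↥(S : Subgroup G) →* Q := QuotientGroup.mk' _ with hφ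
  have hker : ∀ (x : G) (hx : x ∈ (S : Subgroup G)), φ ⟨x, hx⟩ = 1 ↔ x ∈ D := fun x hx => by
    rw [hφ, QuotientGroup.mk'_apply, QuotientGroup.eq_one_iff, mem_subgroupOf]
  have hhT : h ∈ T := (omegaCenterOf_le _ hh.1).1
  have hhS : h ∈ (S : Subgroup G) := hTS hhT
  have hhD : h ∉ D := by
    have := e.conj_not_mem hG (c := 1) hh hh1
    simpa using this
  have hh2 : h ^ 2 = 1 := (isElementaryAbelian_omegaCenterOf T).2 h hh.1
  have hT16 : Nat.card T = 16 := by rw [(e.local_eq hG).2.2.2.2, h2]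
  have hidx : (D.subgroupOf T).index = 2 := by
    have h3 := relIndex_mul_relIndex ⊥ D T bot_le (e.tZero_le hG)
    rw [relIndex_bot_left, relIndex_bot_left, hD8, hT16] at h3
    show D.relIndex T = 2
    omega
  obtain ⟨f, hf⟩ := Transfer.exists_hom_ne_one_of_conj S φ h hhS
    (fun h' => hhD ((hker h hhS).mp h'))
    (fun g hg => by
      have hx : g⁻¹ * h * g⁻¹⁻¹ ∈ (S : Subgroup G) := by rwa [inv_inv]
      have hxT : g⁻¹ * h * g ∈ T := by simpa using hconj g⁻¹ hx
      have hxD : g⁻¹ * h * g ∉ D := by simpa using e.conj_not_mem hG (c := g⁻¹) hh hh1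
      have h5 : h * (g⁻¹ * h * g) ∈ D := mem_subgroupOf.mp
        ((Subgroup.mul_mem_iff_of_index_two hidx (a := ⟨h, hhT⟩) (b := ⟨_, hxT⟩)).mpr
          (iff_of_false (fun h' => hhD (mem_subgroupOf.mp h'))
            fun h' => hxD (mem_subgroupOf.mp h')))
      have h6 := (hker _ (mul_mem hhS hg)).mpr h5
      rw [show (⟨h * (g⁻¹ * h * g), mul_mem hhS hg⟩ : ↥(S : Subgroup G)) =
        ⟨h, hhS⟩ * ⟨_, hg⟩ from rfl, map_mul] at h6
      have h7 : φ ⟨h, hhS⟩ * φ ⟨h, hhS⟩ = 1 := by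
        rw [← map_mul]
        refine (hker _ (mul_mem hhS hhS)).mpr ?_
        rw [← sq, hh2]
        exact one_mem _
      exact mul_left_cancel (h6.trans h7.symm))
    (fun g i hi hg => by
      refine (hker _ hg).mpr ?_
      obtain ⟨j, rfl⟩ := Nat.exists_eq_succ_of_ne_zero (Nat.pos_iff_ne_zero.mp hi)
      rw [pow_succ', pow_mul, hh2, one_pow]
      simp)
  intro hmem
  have hle : Subgroup.closure {g : G | Odd (orderOf g)} ≤ f.ker := by
    refine (closure_le _).mpr fun g hg => ?_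
    rw [SetLike.mem_coe, MonoidHom.mem_ker, ← orderOf_eq_one_iff]
    obtain ⟨n, hn'⟩ := IsPGroup.iff_card.mp hQp
    have h3 : orderOf (f g) ∣ 2 ^ n := hn' ▸ orderOf_dvd_natCard (f g)
    have h4 : orderOf (f g) ∣ orderOf g := orderOf_map_dvd f g
    have hcop : Nat.Coprime (2 ^ n) (orderOf g) :=
      ((Nat.coprime_two_left (n := orderOf g)).mpr hg).pow_left n
    exact Nat.eq_one_of_dvd_coprimes hcop h3 h4
  exact hf (MonoidHom.mem_ker.mp (hle hmem))

end EdgeTwo

section Lower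

variable {M T L K : Subgroup G} (h : Sit M T L K) (hG : ZN G) {S : Sylow 2 G}
  (hTS : T ≤ (S : Subgroup G)) {g : G} (hgS : g ∈ (S : Subgroup G))
  (hgT : g ∈ normalizer (T : Set G)) (hgL : g ∉ L)
include h hG hTS hgS hgT hgL

/-- For `|H| = 2` the Sylow subgroup is `T⟨g⟩` of order 32 and fuses `H` inside `T` only. -/
theorem Sit.lower_sylow (h2 : Nat.card ↥(hOf T K) = 2) :
    (S : Subgroup G) ≤ normalizer (tZero K (K.map (MulAut.conj g).toMonoidHom) : Set G) ∧
      Nat.card ↥(S : Subgroup G) ≤ 32 ∧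
      ∀ h₁ ∈ hOf T K, h₁ ≠ 1 → ∀ c : G, c * h₁ * c⁻¹ ∈ (S : Subgroup G) →
        c * h₁ * c⁻¹ ∈ T := by
  have : Fact (Nat.Prime 2) := ⟨Nat.prime_two⟩
  have e := h.lower_edge hG hTS hgS hgT hgL
  have v := e.left
  have hgTe : T.map (MulAut.conj g).toMonoidHom = T := PGroup.map_conj_eq_of_mem_normalizer hgT
  set K' := K.map (MulAut.conj g).toMonoidHom with hK'
  obtain ⟨hLP, -, -, -, hT8⟩ := e.local_eq hG
  rw [h2] at hT8
  obtain ⟨⟨a, ha⟩, ha1, -⟩ := (Nat.card_eq_two_iff' (1 : ↥(hOf T K))).mp h2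
  have ha1' : a ≠ 1 := fun e => ha1 (Subtype.ext e)
  have haJ : a ∈ hOf (jOf T) K := ⟨v.omega ▸ ha.1, ha.2⟩
  obtain ⟨-, hfix, hbot, hZ2⟩ := h.lower_facts hG hTS hgS hgT hgL
  -- elements of `S` normalizing `T`
  have hstab : ∀ x ∈ (S : Subgroup G), x ∈ normalizer (T : Set G) → x ∈ T ∨ g⁻¹ * x ∈ T := by
    intro x hxS hxT
    rcases h.lower_points hG hTS hgS hgT hgL (x := x * a * x⁻¹)
      ((mem_normalizer_iff.mp (normalizer_le_normalizer_z T hxT) a).mp haJ.1)
      (fun h' => ha1' (conj_eq_one_iff.mp h')) with h1 | h1 | h1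
    · exfalso
      have hcl := (twoClosed_central hG S h1 fun c hc => commute_of_two hZ2 h1
        (fun h' => ha1' (conj_eq_one_iff.mp h')) hc).map_conj x⁻¹
      rw [map_centralizer_singleton, show x⁻¹ * (x * a * x⁻¹) * x⁻¹⁻¹ = a by group] at hcl
      exact e.h_not_closed ha hcl
    · have hxL : x ∈ L := h.mem_of_conj hG haJ ha1' h1
      exact Or.inl (h.mem_t hTS hxS hxL)
    · have hxL : g⁻¹ * x ∈ L := h.mem_of_conj hG haJ ha1' (by simpa [mul_assoc] using h1)
      exact Or.inr (h.mem_t hTS (mul_mem (Subgroup.inv_mem _ hgS) hxS) hxL)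
  set E := vOf (pOf T K) with hE
  set E' := vOf (pOf T K') with hE'
  have hEE' : E.map (MulAut.conj g).toMonoidHom = E' := by
    rw [hE, hE', hK', ← vOf_map_conj, ← pOf_map_conj, hgTe]
  have hinf : E ⊓ E' = omegaCenterOf T := e.v_inf hG
  have hE8 : Nat.card E = 8 := by rw [hE, v.v_card hG, v.card_z, h2]
  have hET : E ≤ T := (vOf_le _).trans (v.setting hG).pCore_le
  have hE'T : E' ≤ T := (vOf_le _).trans (e.right.setting hG).pCore_le
  have hTnE : T ≤ normalizer (E : Set G) := v.t_le_p.trans (le_normalizer_vOf _)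
  have hTnE' : T ≤ normalizer (E' : Set G) := e.right.t_le_p.trans (le_normalizer_vOf _)
  have hg2 : g * g ∈ T := by
    rcases hstab (g * g) (mul_mem hgS hgS) (mul_mem hgT hgT) with h1 | h1
    · exact h1
    · rw [inv_mul_cancel_left] at h1
      exact absurd (h.syl.1 h1) hgL
  have hgEE : E'.map (MulAut.conj g).toMonoidHom = E := by
    rw [← hEE', ← map_conj_mul, LocalStructure.map_conj_eq_self (hTnE hg2)]
  -- elementary subgroups of order eight
  have hA : ∀ A : Subgroup G, A ≤ (S : Subgroup G) → A ≤ normalizer (T : Set G) →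
      IsElementaryAbelian 2 A → Nat.card A = 8 → A ≤ T := by
    intro A hAS hAN hAe hA8
    by_contra hnot
    obtain ⟨u, huA, huT⟩ := SetLike.not_le_iff_exists.mp hnot
    have hu : g⁻¹ * u ∈ T := (hstab u (hAS huA) (hAN huA)).resolve_left huT
    have hEu : E.map (MulAut.conj u).toMonoidHom = E' := by
      rw [show u = g * (g⁻¹ * u) by group, map_conj_mul,
        LocalStructure.map_conj_eq_self (hTnE hu), hEE']
    have hE'u : E'.map (MulAut.conj u).toMonoidHom = E := by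
      rw [show u = g * (g⁻¹ * u) by group, map_conj_mul,
        LocalStructure.map_conj_eq_self (hTnE' hu), hgEE]
    have hle : A ⊓ T ≤ omegaCenterOf T := by
      intro x hx
      have hxu : u * x * u⁻¹ = x :=
        mul_inv_eq_iff_eq_mul.mpr (PGroup.mul_comm_of_elementaryAbelian hAe huA hx.1)
      rw [← hinf]
      rcases e.inv_mem hG hx.2 (hAe.2 x hx.1) with h1 | h1
      · exact ⟨h1, hxu ▸ hEu.le (conj_mem_map_conj h1)⟩
      · exact ⟨hxu ▸ hE'u.le (conj_mem_map_conj h1), h1⟩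
    have hidx : 8 ≤ 2 * Nat.card ↥(A ⊓ T) := by
      have hsub : (A : Set G) ⊆ ((A ⊓ T : Subgroup G) : Set G) ∪
          (fun c => u * c) '' ((A ⊓ T : Subgroup G) : Set G) := by
        intro c hc
        rcases hstab c (hAS hc) (hAN hc) with h1 | h1
        · exact Or.inl ⟨hc, h1⟩
        · refine Or.inr ⟨u⁻¹ * c, ⟨mul_mem (S := Subgroup G) (Subgroup.inv_mem _ huA) hc, ?_⟩,
            mul_inv_cancel_left u c⟩
          rw [show u⁻¹ * c = (g⁻¹ * u)⁻¹ * (g⁻¹ * c) by group]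
          exact mul_mem (Subgroup.inv_mem _ hu) h1
      have h3 := (Set.ncard_le_ncard hsub (Set.toFinite _)).trans (Set.ncard_union_le _ _)
      rw [Set.ncard_image_of_injective _ (mul_right_injective u)] at h3
      rw [← hA8, ← SetLike.coe_sort_coe, ← SetLike.coe_sort_coe, Nat.card_coe_set_eq,
        Nat.card_coe_set_eq]
      omega
    have heq : A ⊓ T = omegaCenterOf T := by
      refine eq_of_le_of_card_ge hle ?_
      have := v.four
      omega
    have hua : Commute u a :=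
      PGroup.mul_comm_of_elementaryAbelian hAe huA (heq.ge ha.1).1
    refine huT (h.mem_t hTS (hAS huA) (h.centralizer_le haJ ha1' ?_))
    exact mem_centralizer_singleton_iff.mpr hua.eq
  -- `T = E E'`
  have hTEE : E ⊔ E' = T := by
    refine eq_of_le_of_card_ge (sup_le hET hE'T) ?_
    have hlt : E < E ⊔ E' := lt_of_le_of_ne le_sup_left fun h' => by
      obtain ⟨b, hb, -, hbW, -⟩ := e.exists_a hG
      exact hbW fun x hx => PGroup.mul_comm_of_elementaryAbelian
        (isElementaryAbelian_omegaCenterOf _) (v.w_le_v hG hx) (h'.ge (mem_sup_right hb))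
    obtain ⟨c, hc⟩ := card_dvd_of_le hlt.le
    have hlt' : Nat.card E < Nat.card ↥(E ⊔ E') :=
      (Set.toFinite ((E ⊔ E' : Subgroup G) : Set G)).card_lt_card
        (SetLike.coe_ssubset_coe.mpr hlt)
    rw [hE8] at hc hlt'
    omega
  -- `S` normalizes `T`
  have hSN : (S : Subgroup G) ≤ normalizer (T : Set G) := by
    by_contra hnot
    obtain ⟨y, hyS, hy, hyn⟩ := exists_lt_inf_normalizer S.2
      (inf_le_left : (S : Subgroup G) ⊓ normalizer (T : Set G) ≤ S)
      fun h' => hnot (h'.ge.trans inf_le_right)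
    have hmove : ∀ X : Subgroup G, X ≤ T → IsElementaryAbelian 2 X → Nat.card X = 8 →
        X.map (MulAut.conj y).toMonoidHom ≤ T := by
      intro X hXT hXe hX8
      have hle : X.map (MulAut.conj y).toMonoidHom ≤
          (S : Subgroup G) ⊓ normalizer (T : Set G) :=
        ((map_mono (le_inf (hXT.trans hTS) (hXT.trans le_normalizer))).trans_eq
          (LocalStructure.map_conj_eq_self hyn))
      exact hA _ (hle.trans inf_le_left) (hle.trans inf_le_right)
        (PGroup.isElementaryAbelian_map hXe _)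
        (by rw [card_map_of_injective (MulAut.conj y).injective, hX8])
    refine hy ⟨hyS, mem_normalizer_of_map_conj_le ?_⟩
    conv_lhs => rw [← hTEE, Subgroup.map_sup]
    exact sup_le (hmove E hET (isElementaryAbelian_omegaCenterOf _) hE8)
      (hmove E' hE'T (isElementaryAbelian_omegaCenterOf _)
        (by rw [← hEE', card_map_of_injective (MulAut.conj g).injective, hE8]))
  refine ⟨fun s hs => ?_, ?_, fun h₁ hh hh1 c hu => ?_⟩
  · have hgD : g ∈ normalizer (tZero K K' : Set G) := by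
      refine mem_normalizer_of_map_conj ?_
      have h5 : ((wOf K).map (MulAut.conj g).toMonoidHom).map (MulAut.conj g).toMonoidHom =
          wOf K := by
        rw [← map_conj_mul, LocalStructure.map_conj_eq_self (v.t_normW hg2)]
      rw [tZero, hK', ← wOf_map_conj, Subgroup.map_sup, h5, sup_comm]
    have hTD : T ≤ normalizer (tZero K K' : Set G) :=
      le_normalizer_sup v.t_normW e.right.t_normW
    rcases hstab s hs (hSN hs) with h1 | h1
    · exact hTD h1
    · simpa using mul_mem hgD (hTD h1)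
  · have hsub : ((S : Subgroup G) : Set G) ⊆ (T : Set G) ∪ (fun c => g * c) '' (T : Set G) := by
      intro c hc
      rcases hstab c hc (hSN hc) with h1 | h1
      · exact Or.inl h1
      · exact Or.inr ⟨g⁻¹ * c, h1, mul_inv_cancel_left g c⟩
    have h3 := (Set.ncard_le_ncard hsub (Set.toFinite _)).trans (Set.ncard_union_le _ _)
    rw [Set.ncard_image_of_injective _ (mul_right_injective g)] at h3
    rw [← SetLike.coe_sort_coe, Nat.card_coe_set_eq] at hT8 ⊢
    omega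
  · -- conjugates of `h₁` in `S`
    set u := c * h₁ * c⁻¹ with hu'
    have hhJ : h₁ ∈ hOf (jOf T) K := ⟨v.omega ▸ hh.1, hh.2⟩
    obtain ⟨z, hz, hz1⟩ := exists_central_involution S fun h0 => by
      have := card_le_of_le (hTS.trans h0.le)
      rw [Subgroup.card_bot, hT8] at this
      omega
    set z' := c⁻¹ * z * c with hz'
    have hcomm : Commute z' h₁ := by
      have h5 : Commute z u := ((omegaCenterOf_le _ hz).2 u hu).symm
      have h6 := h5.map (MulAut.conj c⁻¹).toMonoidHom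
      simpa [hu', hz', mul_assoc] using h6
    have hz'L : z' ∈ L := h.centralizer_le hhJ hh1 (mem_centralizer_singleton_iff.mpr hcomm.eq)
    have hz2 : z' ^ 2 = 1 := by
      rw [hz', show c⁻¹ * z * c = c⁻¹ * z * c⁻¹⁻¹ by group, conj_pow,
        (isElementaryAbelian_omegaCenterOf _).2 z hz]
      group
    have hp : IsPGroup 2 (zpowers z') := by
      obtain ⟨i, -, hi⟩ := (Nat.dvd_prime_pow Nat.prime_two).mp
        (show orderOf z' ∣ 2 ^ 1 from orderOf_dvd_of_pow_eq_one (by simpa using hz2))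
      exact IsPGroup.of_card (n := i) (by rw [Nat.card_zpowers, hi])
    obtain ⟨l, hl, hlT⟩ := (sylowTwoIn_iff.mp h.syl).exists_conj_le hp (zpowers_le.mpr hz'L)
    set x := l * z' * l⁻¹ with hx'
    have hxT : x ∈ T := hlT ⟨z', mem_zpowers z', rfl⟩
    have hlh : l * h₁ * l⁻¹ = h₁ :=
      mul_inv_eq_iff_eq_mul.mpr ((hLP.le hl).2 h₁ hh).symm
    obtain ⟨A₀, hA₀T, hA₀e, hA₀8, hxA, hhA⟩ : ∃ A₀ : Subgroup G, A₀ ≤ T ∧
        IsElementaryAbelian 2 A₀ ∧ Nat.card A₀ = 8 ∧ x ∈ A₀ ∧ h₁ ∈ A₀ := by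
      rcases e.inv_mem hG hxT (by rw [hx', conj_pow, hz2]; group) with h1 | h1
      · exact ⟨E, hET, isElementaryAbelian_omegaCenterOf _, hE8, h1, v.z_le_v hG hh.1⟩
      · exact ⟨E', hE'T, isElementaryAbelian_omegaCenterOf _,
          by rw [← hEE', card_map_of_injective (MulAut.conj g).injective, hE8], h1,
          e.right.z_le_v hG hh.1⟩
    set A := A₀.map (MulAut.conj (c * l⁻¹)).toMonoidHom with hAdef
    have huA : u ∈ A := ⟨h₁, hhA, by
      show c * l⁻¹ * h₁ * (c * l⁻¹)⁻¹ = u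
      rw [hu']
      conv_rhs => rw [show h₁ = l⁻¹ * (l * h₁ * l⁻¹) * l by group, hlh]
      group⟩
    have hzA : z ∈ A := ⟨x, hxA, by
      show c * l⁻¹ * x * (c * l⁻¹)⁻¹ = z
      rw [hx', hz']
      group⟩
    have hAe : IsElementaryAbelian 2 A := PGroup.isElementaryAbelian_map hA₀e _
    have hAC : A ≤ centralizer ({z} : Set G) := fun b hb =>
      mem_centralizer_singleton_iff.mpr (PGroup.mul_comm_of_elementaryAbelian hAe hb hzA)
    have hcl := twoClosed_central hG S hz fun d hd => commute_of_two hZ2 hz hz1 hd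
    have hSC : (S : Subgroup G) ≤ centralizer ({z} : Set G) := fun s hs =>
      mem_centralizer_singleton_iff.mpr ((omegaCenterOf_le _ hz).2 s hs)
    have hAS : A ≤ (S : Subgroup G) := fun b hb =>
      (isSylowIn_of_sylow S hSC).pCoreOf_le (hcl b (hAC hb) 1 (by simpa using hAe.2 b hb))
    exact hA A hAS (hAS.trans hSN) hAe
      (by rw [hAdef, card_map_of_injective (MulAut.conj _).injective, hA₀8]) huA

end Lower

section Inside

/-- The subgroup generated by the elements of odd order. -/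
def oddCl (G : Type u) [Group G] : Subgroup G := Subgroup.closure {g : G | Odd (orderOf g)}

omit [Finite G] in
theorem oddCl_conj (g : G) {x : G} (hx : x ∈ oddCl G) : g * x * g⁻¹ ∈ oddCl G := by
  have hle : oddCl G ≤ (oddCl G).comap (MulAut.conj g).toMonoidHom := by
    refine (closure_le _).mpr fun y hy => subset_closure ?_
    show Odd (orderOf (g * y * g⁻¹))
    rw [← MulAut.conj_apply, MulEquiv.orderOf_eq]
    exact hy
  exact hle hx

theorem comp_le_oddCl {T K : Subgroup G} (hK : IsJComponent T K) : K ≤ oddCl G := by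
  conv_lhs => rw [← (IsJComponent.pre hK).gen]
  exact closure_mono fun g hg => hg.2

variable {T L₁ K₁ L₂ K₂ : Subgroup G} (e : Edge T L₁ K₁ L₂ K₂) (hG : ZN G)
include e hG

theorem Edge.tZero_le_oddCl : tZero K₁ K₂ ≤ oddCl G := by
  have h : ∀ {A B : Subgroup G}, IsJComponent A B → wOf B ≤ oddCl G := fun hB =>
    (((IsJComponent.pre hB).wOf_le.trans ((omegaCenterOf_le _).trans inf_le_left)).trans
      (pCoreOf_le 2 _)).trans (comp_le_oddCl hB)
  exact sup_le (h e.left.comp) (h e.right.comp)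

variable (hout : Nat.card ↥(hOf T K₁) = 2 → ∀ h ∈ hOf T K₁, h ≠ 1 → h ∉ oddCl G)
include hout

theorem Edge.m_card : Nat.card ↥(L₁ ⊓ oddCl G) = 24 := by
  have : Fact (Nat.Prime 2) := ⟨Nat.prime_two⟩
  obtain ⟨hLP, hKT, -, hcard, hT8⟩ := e.local_eq hG
  obtain ⟨y, hy, hy3, -, -⟩ := e.left.exists_y
  have hD := (e.tZero_facts hG).2
  have hDM : tZero K₁ K₂ ≤ L₁ ⊓ oddCl G :=
    le_inf ((e.tZero_le hG).trans e.left.syl.1) (e.tZero_le_oddCl hG)
  have h3 : 3 ∣ Nat.card ↥(L₁ ⊓ oddCl G) := hy3 ▸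
    (Nat.card_zpowers y ▸ card_dvd_of_le (zpowers_le.mpr
      (⟨(le_sup_left.trans hKT.ge) hy, comp_le_oddCl e.left.comp hy⟩ : y ∈ L₁ ⊓ oddCl G)))
  have h8 : 8 ∣ Nat.card ↥(L₁ ⊓ oddCl G) := hD ▸ card_dvd_of_le hDM
  have h24 : 24 ∣ Nat.card ↥(L₁ ⊓ oddCl G) :=
    (by norm_num : Nat.Coprime 3 8).mul_dvd_of_dvd_of_dvd h3 h8
  have hdvd : Nat.card ↥(L₁ ⊓ oddCl G) ∣ Nat.card ↥L₁ := card_dvd_of_le inf_le_left
  have hpos : 0 < Nat.card ↥(L₁ ⊓ oddCl G) := Nat.card_pos
  have hH := e.left.h_card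
  have hHpos : 0 < Nat.card ↥(hOf T K₁) := Nat.card_pos
  rcases (by omega : Nat.card ↥(hOf T K₁) = 1 ∨ Nat.card ↥(hOf T K₁) = 2) with h1 | h1
  · rw [hcard, h1] at hdvd
    exact Nat.dvd_antisymm hdvd h24
  · rw [hcard, h1] at hdvd
    have hne : Nat.card ↥(L₁ ⊓ oddCl G) ≠ 48 := by
      intro h'
      have heq := eq_of_le_of_card_ge (inf_le_left : L₁ ⊓ oddCl G ≤ L₁) (by omega)
      obtain ⟨⟨h, hh⟩, hh1, -⟩ := (Nat.card_eq_two_iff' (1 : ↥(hOf T K₁))).mp h1
      exact hout h1 h hh (fun h' => hh1 (Subtype.ext h'))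
        (heq.ge (e.left.syl.1 (omegaCenterOf_le _ hh.1).1)).2
    obtain ⟨c, hc⟩ := h24
    have := Nat.le_of_dvd (by norm_num) hdvd
    omega

theorem Edge.m_iso : Nonempty (↥(L₁.subgroupOf (oddCl G)) ≃* Equiv.Perm (Fin 4)) := by
  obtain ⟨hLP, -, -, hcard, -⟩ := e.local_eq hG
  have hM := e.m_card hG hout
  have hH := e.left.h_card
  have hHpos : 0 < Nat.card ↥(hOf T K₁) := Nat.card_pos
  let eM : ↥(L₁.subgroupOf (oddCl G)) ≃* ↥(L₁ ⊓ oddCl G) :=
    (MulEquiv.subgroupCongr (inf_subgroupOf_right L₁ (oddCl G)).symm).trans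
      (subgroupOfEquivOfLe inf_le_right)
  suffices h : Nonempty (↥(L₁ ⊓ oddCl G) ≃* Equiv.Perm (Fin 4)) from ⟨eM.trans h.some⟩
  rcases (by omega : Nat.card ↥(hOf T K₁) = 1 ∨ Nat.card ↥(hOf T K₁) = 2) with h1 | h1
  · have heq : L₁ ⊓ oddCl G = L₁ :=
      eq_of_le_of_card_ge inf_le_left (by rw [hM, hcard, h1])
    exact ⟨(MulEquiv.subgroupCongr heq).trans ((e.iso hG).1 h1).some⟩
  obtain ⟨ψ⟩ := (e.iso hG).2 h1
  obtain ⟨⟨h, hh⟩, hh1, -⟩ := (Nat.card_eq_two_iff' (1 : ↥(hOf T K₁))).mp h1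
  have hh1' : h ≠ 1 := fun h' => hh1 (Subtype.ext h')
  have hhL : h ∈ L₁ := e.left.syl.1 (omegaCenterOf_le _ hh.1).1
  have key : ∀ σ : Equiv.Perm (Fin 4), (∀ τ, σ * τ = τ * σ) → σ = 1 := by decide +kernel
  have hψh : (ψ ⟨h, hhL⟩).1 = 1 := key _ fun τ => by
    obtain ⟨k, hk⟩ := ψ.surjective (τ, 1)
    have hc : (⟨h, hhL⟩ : ↥L₁) * k = k * ⟨h, hhL⟩ := Subtype.ext ((hLP.le k.2).2 h hh)
    have := congrArg (fun m => (ψ m).1) hc
    simpa [hk] using this
  have hψh2 : (ψ ⟨h, hhL⟩).2 ≠ 1 := fun h' => hh1' (congrArg Subtype.val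
    (ψ.injective ((Prod.ext hψh h').trans (map_one ψ).symm) : (⟨h, hhL⟩ : ↥L₁) = 1))
  let χ : ↥(L₁ ⊓ oddCl G) →* Equiv.Perm (Fin 4) :=
    (MonoidHom.fst _ _).comp (ψ.toMonoidHom.comp (inclusion inf_le_left))
  have hinj : Function.Injective χ := by
    rw [injective_iff_map_eq_one]
    intro k hk
    by_contra hk1
    have hk' : (ψ ⟨k, k.2.1⟩).1 = 1 := hk
    have hk2 : (ψ ⟨k, k.2.1⟩).2 ≠ 1 := fun h' => by
      have h'' : (⟨k, k.2.1⟩ : ↥L₁) = 1 :=
        ψ.injective ((Prod.ext hk' h').trans (map_one ψ).symm)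
      exact hk1 (Subtype.ext (show (k : G) = 1 from congrArg Subtype.val h''))
    have h2 : ∀ a b : Multiplicative (ZMod 2), a ≠ 1 → b ≠ 1 → a = b := by decide
    have : (⟨k, k.2.1⟩ : ↥L₁) = ⟨h, hhL⟩ :=
      ψ.injective (Prod.ext (hk'.trans hψh.symm) (h2 _ _ hk2 hψh2))
    exact hout h1 h hh hh1' ((show (k : G) = h from congrArg Subtype.val this) ▸ k.2.2)
  refine ⟨MulEquiv.ofBijective χ (hinj.bijective_of_nat_card_le ?_)⟩
  rw [hM, Nat.card_perm, Nat.card_fin]
  rfl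

theorem Edge.m_maximal : IsMaximalTwoLocal (L₁.subgroupOf (oddCl G)) := by
  have : Fact (Nat.Prime 2) := ⟨Nat.prime_two⟩
  obtain ⟨hLP, hKT, hQ, -, -⟩ := e.local_eq hG
  have v := e.left
  set H := oddCl G with hHdef
  set W := wOf K₁
  have hWH : W ≤ H := le_sup_left.trans (e.tZero_le_oddCl hG)
  have hWL : W ≤ L₁ := (le_sup_left.trans (e.tZero_le hG)).trans v.syl.1
  have hNW : normalizer (W : Set G) = L₁ :=
    le_antisymm v.normW_le (hLP.le.trans inf_le_left)
  have hW2 : IsPGroup 2 W := IsPGroup.of_card (n := 2) (by rw [v.w4]; rfl)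
  have hnorm : ∀ {X : Subgroup G}, X ≤ H →
      normalizer ((X.subgroupOf H : Subgroup ↥H) : Set ↥H) = (normalizer (X : Set G)).subgroupOf H := by
    intro X hX
    ext n
    rw [mem_subgroupOf, mem_normalizer_iff, mem_normalizer_iff]
    refine ⟨fun h a => ⟨fun ha => (h ⟨a, hX ha⟩).mp ha, fun ha => ?_⟩, fun h a => h a⟩
    have haH : a ∈ H := by
      simpa [mul_assoc] using mul_mem (mul_mem (Subgroup.inv_mem _ n.2) (hX ha)) n.2
    exact (h ⟨a, haH⟩).mpr ha
  refine ⟨⟨W.subgroupOf H, hW2.of_equiv (subgroupOfEquivOfLe hWH).symm, fun h0 => ?_,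
    by rw [hnorm hWH, hNW]⟩, ?_⟩
  · have := Coprime.card_subgroupOf hWH
    rw [h0, Subgroup.card_bot, v.w4] at this
    omega
  rintro N ⟨R', hR', hR'1, rfl⟩ hle
  set R := R'.map H.subtype with hRdef
  have hRH : R ≤ H := map_subtype_le _
  have hR2 : IsPGroup 2 R := hR'.map _
  have hR'eq : R' = R.subgroupOf H :=
    (comap_map_eq_self_of_injective H.subtype_injective R').symm
  have hMR : L₁ ⊓ H ≤ normalizer (R : Set G) := by
    intro m hm
    have h1 : (⟨m, hm.2⟩ : ↥H) ∈ normalizer (R' : Set ↥H) := hle (mem_subgroupOf.mpr hm.1)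
    rw [hR'eq, hnorm hRH] at h1
    exact h1
  set D := tZero K₁ K₂
  have hDM : D ≤ L₁ ⊓ H := le_inf ((e.tZero_le hG).trans v.syl.1) (e.tZero_le_oddCl hG)
  obtain ⟨y, hy, -, -, hfy⟩ := v.exists_y
  have hyM : y ∈ L₁ ⊓ H := ⟨(le_sup_left.trans hKT.ge) hy, comp_le_oddCl v.comp hy⟩
  have hD8 := (e.tZero_facts hG).2
  -- `R ∩ M ≤ W`
  have hRM : R ⊓ (L₁ ⊓ H) ≤ W := by
    set X := R ⊓ (L₁ ⊓ H)
    have hXn : D ≤ normalizer (X : Set G) :=
      le_normalizer_inf (hDM.trans hMR) (hDM.trans le_normalizer)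
    have hD2 : IsPGroup 2 D := v.syl.2.1.to_le (e.tZero_le hG)
    have hp : IsPGroup 2 (D ⊔ X : Subgroup G) :=
      hD2.to_sup_of_normal_right' (hR2.to_le inf_le_left) hXn
    obtain ⟨n, hn⟩ := IsPGroup.iff_card.mp hp
    have hdvd : 2 ^ n ∣ 24 := hn ▸ e.m_card hG hout ▸ card_dvd_of_le (sup_le hDM inf_le_right)
    have hn3 : n ≤ 3 := by
      by_contra hcon
      have : 2 ^ 4 ∣ 24 := (pow_dvd_pow 2 (by omega)).trans hdvd
      norm_num at this
    have heq : D = D ⊔ X := eq_of_le_of_card_ge le_sup_left (by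
      rw [hn, hD8]
      exact (Nat.pow_le_pow_right (by omega) hn3).trans (by norm_num))
    intro r hr
    have hrD : r ∈ D := heq.ge (mem_sup_right hr)
    have hrT : r ∈ T := e.tZero_le hG hrD
    refine (e.tZero_facts hG).1 r hrD ?_
    rw [← e.core_eq hG]
    refine (v.mem_core_iff hG hrT).mpr (by_contra fun hrW => ?_)
    have hmem : y * r * y⁻¹ * r⁻¹ ∈ R :=
      mul_mem ((mem_normalizer_iff.mp (hMR hyM) r).mp hr.1) (Subgroup.inv_mem _ hr.1)
    obtain ⟨k, hk⟩ := hR2 ⟨_, hmem⟩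
    exact not_rotation v.w4 (v.t_normW hrT) hrW (v.sq_mem hrT) hfy rfl
      (k := k) (by simpa using congrArg Subtype.val hk)
  have hRW : R ≤ W := by
    by_contra hnot
    have hWn : W ≤ normalizer (R : Set G) := (le_inf hWL hWH).trans hMR
    obtain ⟨x, hx, hxW, hxn⟩ := exists_lt_inf_normalizer (hW2.to_sup_of_normal_right' hR2 hWn)
      (le_sup_left : W ≤ W ⊔ R) fun h' => hnot (le_sup_right.trans h'.ge)
    obtain ⟨w, hw, r, hr, rfl⟩ := exists_mul_of_mem_sup hWn hx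
    have hxL : w * r ∈ L₁ := hNW.le hxn
    refine hxW (mul_mem hw (hRM ⟨hr, ?_, hRH hr⟩))
    simpa using mul_mem (Subgroup.inv_mem _ (hWL hw)) hxL
  have hReq : R = W := by
    refine eq_of_le_four v.w4 hRW (fun h0 => hR'1 ?_) hfy fun r hr =>
      (mem_normalizer_iff.mp (hMR hyM) r).mp hr
    exact (map_eq_bot_iff_of_injective _ H.subtype_injective).mp h0
  rw [hR'eq, hReq, hnorm hWH, hNW]

/-- The two maximal 2-local subgroups of `O²(G)`. -/
theorem Edge.residual_locals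
    (hout' : Nat.card ↥(hOf T K₂) = 2 → ∀ h ∈ hOf T K₂, h ≠ 1 → h ∉ oddCl G) :
    ∃ M₁ M₂ : Subgroup ↥(oddCl G), M₁ ≠ M₂ ∧ IsMaximalTwoLocal M₁ ∧ IsMaximalTwoLocal M₂ ∧
      Nonempty (↥M₁ ≃* Equiv.Perm (Fin 4)) ∧ Nonempty (↥M₂ ≃* Equiv.Perm (Fin 4)) ∧
      Nat.card ↥(M₁ ⊓ M₂) = 8 := by
  obtain ⟨hLP, hKT, -, hcard, hT8⟩ := e.local_eq hG
  set H := oddCl G
  have hM : Nat.card ↥(L₁ ⊓ H) = 24 := e.m_card hG hout
  have hinter : L₁ ⊓ L₂ = T := by
    refine (eq_of_le_of_card_ge (le_inf e.left.syl.1 e.right.syl.1) ?_).symm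
    set X := L₁ ⊓ L₂
    have hne : Nat.card X ≠ Nat.card ↥L₁ := fun h' => by
      have h5 := eq_of_le_of_card_ge (inf_le_left : X ≤ L₁) h'.ge
      exact e.ne (e.left.max.2 L₂ e.right.max.1 (h5.ge.trans inf_le_right)).symm
    obtain ⟨c, hc⟩ := card_dvd_of_le (le_inf e.left.syl.1 e.right.syl.1 : T ≤ X)
    have hd : Nat.card X ∣ Nat.card ↥L₁ := card_dvd_of_le inf_le_left
    rw [hc, hcard, show 24 * Nat.card ↥(hOf T K₁) = Nat.card T * 3 by omega] at hd hne
    have hc3 : c ∣ 3 := Nat.dvd_of_mul_dvd_mul_left Nat.card_pos hd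
    rcases (Nat.dvd_prime Nat.prime_three).mp hc3 with rfl | rfl
    · rw [hc, mul_one]
    · exact absurd rfl hne
  have h8 : Nat.card ↥(T ⊓ H) = 8 := by
    have hD := (e.tZero_facts hG).2
    have h1 : 8 ∣ Nat.card ↥(T ⊓ H) :=
      hD ▸ card_dvd_of_le (le_inf (e.tZero_le hG) (e.tZero_le_oddCl hG))
    have h2 : Nat.card ↥(T ⊓ H) ∣ Nat.card ↥(L₁ ⊓ H) :=
      card_dvd_of_le (inf_le_inf_right H e.left.syl.1)
    have h3 : Nat.card ↥(T ⊓ H) ∣ Nat.card T := card_dvd_of_le inf_le_left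
    rw [hM] at h2
    rw [hT8] at h3
    have hH := e.left.h_card
    have : 0 < Nat.card ↥(hOf T K₁) := Nat.card_pos
    have h4 := Nat.le_of_dvd (by norm_num) h2
    obtain ⟨c, hc⟩ := h1
    have h5 : Nat.card ↥(T ⊓ H) ∣ 8 := by
      have h6 : Nat.card ↥(T ⊓ H) ∣ Nat.gcd 24 16 := Nat.dvd_gcd h2 (h3.trans (by
        interval_cases Nat.card ↥(hOf T K₁) <;> norm_num))
      exact h6
    exact Nat.dvd_antisymm h5 ⟨c, hc⟩
  refine ⟨L₁.subgroupOf H, L₂.subgroupOf H, fun h' => ?_, e.m_maximal hG hout,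
    e.symm.m_maximal hG hout', e.m_iso hG hout, e.symm.m_iso hG hout', ?_⟩
  · have h1 := congrArg (Subgroup.map H.subtype) h'
    rw [subgroupOf_map_subtype, subgroupOf_map_subtype] at h1
    have h2 : L₁ ⊓ H ≤ T ⊓ H :=
      le_inf ((le_inf inf_le_left (h1.le.trans inf_le_left)).trans hinter.le) inf_le_right
    have h7 : Nat.card ↥(L₁ ⊓ H) ≤ Nat.card ↥(T ⊓ H) := card_le_of_le h2
    omega
  · rw [← h8, ← hinter, ← card_map_of_injective H.subtype_injective,
      map_inf _ _ _ H.subtype_injective, subgroupOf_map_subtype, subgroupOf_map_subtype]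
    congr 2
    ext a
    simp only [mem_inf]
    tauto

end Inside

end Cfsg.Agent.JComponent
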