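import Cfsg.Agent.Lib.JComponent.Pair
import Cfsg.Agent.Lib.Transpos.S4

/-!
# The shape of a pair of vertices

`O₂(Pᵢ) = Vᵢ = Wᵢ × Hᵢ`, `Lᵢ = Kᵢ T = Pᵢ` of order `24 |Hᵢ|`, isomorphic to `Sym 4` or
`Sym 4 × 2`.
-/

set_option autoImplicit false
set_option synthInstance.maxSize 512

namespace Cfsg.Agent.JComponent

open Subgroup LocalStructure
open scoped commutatorElement

universe u

variable {G : Type u} [Group G] [Finite G]

section ShapeSec

variable {T L₁ K₁ L₂ K₂ : Subgroup G} (e : Edge T L₁ K₁ L₂ K₂) (hG : ZN G)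
include e hG

/-- An involution of `V₂` moving `W₁`. -/
theorem Edge.exists_a : ∃ a ∈ vOf (pOf T K₂), a ∈ T ∧ a ∉ centralizer (wOf K₁ : Set G) ∧
    a ^ 2 = 1 := by
  by_contra hcon
  push Not at hcon
  refine e.pair hG fun x hx z hz => ?_
  have hzT : z ∈ T := (e.right.setting hG).pCore_le (vOf_le _ hz)
  by_cases hc : z ∈ centralizer (wOf K₁ : Set G)
  · exact (e.left.core_comm ((e.left.mem_core_iff hG hzT).mpr hc) hx).symm
  · exact absurd ((isElementaryAbelian_omegaCenterOf _).2 z hz) (hcon z hz hzT hc)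

/-- The squares in `O₂P₁` are squares in `O₂P₂`. -/
theorem Edge.sq_mem {r : G} (hr : r ∈ pCoreOf 2 (pOf T K₁)) :
    ∃ s ∈ pCoreOf 2 (pOf T K₂), s ^ 2 = r ^ 2 := by
  have : Fact (Nat.Prime 2) := ⟨Nat.prime_two⟩
  have v₁ := e.left
  have v₂ := e.right
  set P := pOf T K₁ with hP
  set R := pCoreOf 2 P with hR
  obtain ⟨a, haV, haT, haW, -⟩ := e.exists_a hG
  obtain ⟨y, hy, -, -, hfy⟩ := v₁.exists_y
  have hyP : y ∈ P := v₁.k_le_p hy
  set a' := y * a * y⁻¹ with ha'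
  have hca : (centralizer ({a} : Set G)).relIndex R ≤ 2 := by
    have hsub : pCoreOf 2 (pOf T K₂) ≤ centralizer ({a} : Set G) := fun s hs =>
      mem_centralizer_singleton_iff.mpr (v₂.core_comm hs haV).eq
    have h2 : (pCoreOf 2 (pOf T K₂)).relIndex T = 2 := by
      have h3 := relIndex_mul_relIndex ⊥ (pCoreOf 2 (pOf T K₂)) T bot_le (v₂.setting hG).pCore_le
      rw [relIndex_bot_left, relIndex_bot_left, v₂.card_t hG, mul_comm 2] at h3
      exact Nat.eq_of_mul_eq_mul_left Nat.card_pos h3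
    refine (relIndex_le_of_le_left hsub index_ne_zero_of_finite).trans ?_
    exact (relIndex_le_of_le_right (v₁.setting hG).pCore_le
      (index_ne_zero_of_finite (H := (pCoreOf 2 (pOf T K₂)).subgroupOf T))).trans h2.le
  have hca' : (centralizer ({a'} : Set G)).relIndex R ≤ 2 := by
    have hyR : y ∈ normalizer (R : Set G) := le_normalizer_pCoreOf 2 P hyP
    rw [ha', ← map_centralizer_singleton]
    conv_lhs => rw [← PGroup.map_conj_eq_of_mem_normalizer hyR]
    rw [relIndex_map_map_of_injective _ _ (MulAut.conj y).injective]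
    exact hca
  set B := R ⊓ (centralizer ({a} : Set G) ⊓ centralizer ({a'} : Set G)) with hB
  have hBidx : Nat.card R ≤ 4 * Nat.card B := by
    have h3 := relIndex_mul_relIndex ⊥ B R bot_le inf_le_left
    rw [relIndex_bot_left, relIndex_bot_left] at h3
    rw [← h3, mul_comm 4]
    refine Nat.mul_le_mul_left _ ?_
    rw [hB, inf_relIndex_left]
    exact (relIndex_inf_le).trans (Nat.mul_le_mul hca hca')
  have hWR : wOf K₁ ≤ R := (v₁.w_le_v hG).trans (vOf_le _)
  have hWB : wOf K₁ ⊓ B = ⊥ := by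
    refine (eq_bot_iff_forall _).mpr fun w hw => by_contra fun hw1 => ?_
    have hsub : lineOf T K₁ ≤ wOf K₁ ⊓ centralizer ({a} : Set G) := fun z hz =>
      ⟨hz.2, mem_centralizer_singleton_iff.mpr (v₁.t_comm_z haT hz.1).symm.eq⟩
    have heq := eq_of_le_of_card_ge hsub (by rw [v₁.line_card]; exact card_fix_le v₁.w4 haW)
    have hwl : w ∈ lineOf T K₁ := heq.ge ⟨hw.1, hw.2.2.1⟩
    have hwl' : y⁻¹ * w * y ∈ lineOf T K₁ := by
      refine heq.ge ⟨(mem_normalizer_iff''.mp hfy.1 w).mp hw.1, ?_⟩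
      have h1 : Commute w a' := (mem_centralizer_singleton_iff.mp hw.2.2.2 :)
      have h2 := h1.map (MulAut.conj y⁻¹).toMonoidHom
      refine mem_centralizer_singleton_iff.mpr ?_
      have h4 : (MulAut.conj y⁻¹).toMonoidHom a' = a := by
        simp [ha', mul_assoc]
      have h5 : (MulAut.conj y⁻¹).toMonoidHom w = y⁻¹ * w * y := by simp
      rw [h4, h5] at h2
      exact h2.eq
    obtain ⟨c, -, huniq⟩ := (Nat.card_eq_two_iff' (1 : ↥(lineOf T K₁))).mp v₁.line_card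
    have h6 : (⟨_, hwl'⟩ : ↥(lineOf T K₁)) = ⟨w, hwl⟩ :=
      (huniq _ fun h => hw1 (by
        have h' : y⁻¹ * w * y = 1 := congrArg Subtype.val h
        calc w = y * (y⁻¹ * w * y) * y⁻¹ := by group
          _ = 1 := by rw [h']; group)).trans
        (huniq _ fun h => hw1 (congrArg Subtype.val h)).symm
    refine hw1 (hfy.2 w hw.1 ?_)
    have h7 : y⁻¹ * w * y = w := congrArg Subtype.val h6
    calc w * y = y * (y⁻¹ * w * y) := by group
      _ = y * w := by rw [h7]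
  have hn : wOf K₁ ≤ normalizer (B : Set G) := fun w hw =>
    Subgroup.centralizer_le_normalizer _ fun b hb => (v₁.core_comm hb.1 (v₁.w_le_v hG hw)).eq
  have hsup : wOf K₁ ⊔ B = R := by
    refine eq_of_le_of_card_ge (sup_le hWR inf_le_left) ?_
    have h1 := Offender.card_sup_mul_card_inf hn
    rw [hWB, Subgroup.card_bot, mul_one, v₁.w4] at h1
    omega
  obtain ⟨w, hw, b, hb, rfl⟩ := (Coprime.mem_sup_iff_of_le_normalizer hn).mp (hsup.ge hr)
  refine ⟨b, ?_, ?_⟩
  · have hbT : b ∈ T := (v₁.setting hG).pCore_le hb.1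
    refine (v₂.setting hG).inf_cOf_le ⟨hbT, v₂.t_le_p hbT, ?_⟩
    have haZ : a ∉ omegaCenterOf T := fun h =>
      haW fun w hw => PGroup.mul_comm_of_elementaryAbelian (isElementaryAbelian_omegaCenterOf _)
        (v₁.w_le_v hG hw) (v₁.z_le_v hG h)
    · intro x hx
      have hidx : ((omegaCenterOf T).subgroupOf (vOf (pOf T K₂))).index = 2 := by
        have h5 := relIndex_mul_relIndex ⊥ (omegaCenterOf T) (vOf (pOf T K₂)) bot_le
          (v₂.z_le_v hG)
        rw [relIndex_bot_left, relIndex_bot_left, v₂.v_card hG, mul_comm 2] at h5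
        exact Nat.eq_of_mul_eq_mul_left Nat.card_pos h5
      have hab : Commute a b := (mem_centralizer_singleton_iff.mp hb.2.1 :).symm
      by_cases hxZ : x ∈ omegaCenterOf T
      · exact (v₂.t_comm_z hbT hxZ).symm.eq
      · have hmem : a⁻¹ * x ∈ omegaCenterOf T := mem_subgroupOf.mp
          ((Subgroup.mul_mem_iff_of_index_two hidx (a := ⟨a⁻¹, inv_mem haV⟩) (b := ⟨x, hx⟩)).mpr
            (iff_of_false (fun h => haZ (inv_mem_iff.mp (mem_subgroupOf.mp h)))
              fun h => hxZ (mem_subgroupOf.mp h)))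
        have := hab.mul_left (v₂.t_comm_z hbT hmem).symm
        rw [mul_inv_cancel_left] at this
        exact this.eq
  · have hbw : Commute w b := (v₁.core_comm hb.1 (v₁.w_le_v hG hw)).symm
    have hw2 : w ^ 2 = 1 :=
      (isElementaryAbelian_omegaCenterOf _).2 w (v₁.w_le_v hG hw)
    rw [hbw.mul_pow, hw2, one_mul]

/-- `O₂P₁` has exponent two. -/
theorem Edge.sq_eq_one {r : G} (hr : r ∈ pCoreOf 2 (pOf T K₁)) : r ^ 2 = 1 := by
  have : Fact (Nat.Prime 2) := ⟨Nat.prime_two⟩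
  set R := pCoreOf 2 (pOf T K₁) with hR
  set R' := pCoreOf 2 (pOf T K₂) with hR'
  set Q : Subgroup G := closure ((fun r => r ^ 2) '' (R : Set G)) with hQ
  have heq : (fun r => r ^ 2) '' (R : Set G) = (fun r => r ^ 2) '' (R' : Set G) := by
    refine Set.Subset.antisymm ?_ ?_
    · rintro _ ⟨r, hr, rfl⟩
      exact e.sq_mem hG hr
    · rintro _ ⟨r, hr, rfl⟩
      exact e.symm.sq_mem hG hr
  by_contra hne
  have hnorm : ∀ {P X : Subgroup G}, P ≤ normalizer (X : Set G) →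
      (fun r => r ^ 2) '' (X : Set G) = (fun r => r ^ 2) '' (R : Set G) →
      P ≤ normalizer (Q : Set G) := fun {P X} hPX hX g hg => by
    refine Subnormal.mem_normalizer_of_cj_le ?_
    rw [Subnormal.cj, map_le_iff_le_comap, hQ, closure_le]
    intro x hx
    rw [← hX] at hx
    obtain ⟨s, hs, rfl⟩ := hx
    refine subset_closure ?_
    show g * s ^ 2 * g⁻¹ ∈ _
    rw [← hX]
    exact ⟨g * s * g⁻¹, (mem_normalizer_iff.mp (hPX hg) s).mp hs, conj_pow⟩
  have hQR : Q ≤ R := (closure_le _).mpr (by rintro _ ⟨r, hr, rfl⟩; exact pow_mem hr 2)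
  refine e.no_local (X := normalizer (Q : Set G))
    ⟨Q, (isPGroup_pCoreOf 2 _).to_le hQR,
      fun h0 => hne (mem_bot.mp (h0 ▸ subset_closure ⟨r, hr, rfl⟩)), rfl⟩
    (e.left.k_le_p.trans (hnorm (le_normalizer_pCoreOf 2 _) rfl))
    (e.right.k_le_p.trans (hnorm (le_normalizer_pCoreOf 2 _) heq.symm))
    ((PGroup.thompsonSubgroupOf_le T).trans
      (e.left.t_le_p.trans (hnorm (le_normalizer_pCoreOf 2 _) rfl)))

theorem Edge.core_eq : pCoreOf 2 (pOf T K₁) = vOf (pOf T K₁) := by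
  refine le_antisymm (fun r hr => mem_omegaCenterOf hr (fun s hs => ?_) (e.sq_eq_one hG hr))
    (vOf_le _)
  have hrs := e.sq_eq_one hG (mul_mem hs hr)
  have hr2 := e.sq_eq_one hG hr
  have hs2 := e.sq_eq_one hG hs
  rw [sq] at hrs hr2 hs2
  calc s * r = (s * r)⁻¹ := eq_inv_of_mul_eq_one_left hrs
    _ = r⁻¹ * s⁻¹ := mul_inv_rev _ _
    _ = r * s := by rw [inv_eq_of_mul_eq_one_left hr2, inv_eq_of_mul_eq_one_left hs2]

/-- `L₁ = K₁ T = P₁` of order `24 |H₁|`. -/
theorem Edge.local_eq : L₁ = pOf T K₁ ∧ L₁ = K₁ ⊔ T ∧ pCoreOf 2 L₁ = vOf (pOf T K₁) ∧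
    Nat.card ↥L₁ = 24 * Nat.card ↥(hOf T K₁) ∧ Nat.card T = 8 * Nat.card ↥(hOf T K₁) := by
  have : Fact (Nat.Prime 2) := ⟨Nat.prime_two⟩
  have v := e.left
  set P := pOf T K₁ with hP
  set V := vOf P with hV
  have hVeq : pCoreOf 2 P = V := e.core_eq hG
  have hcard : Nat.card V = 4 * Nat.card ↥(hOf T K₁) := by
    have : Nat.card V = 2 * Nat.card ↥(omegaCenterOf T) := v.v_card hG
    have := v.card_z
    omega
  have hT8 : Nat.card T = 8 * Nat.card ↥(hOf T K₁) := by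
    rw [v.card_t hG, hVeq, hcard]; ring
  have hKL : K₁ ≤ L₁ := le_sup_left.trans v.le
  have hTL : T ≤ L₁ := v.syl.1
  have hs := v.setting_of hG v.max.1 le_rfl le_rfl hKL hTL
  have hVe : IsElementaryAbelian 2 V := isElementaryAbelian_omegaCenterOf _
  have hQle : pCoreOf 2 L₁ ≤ V := by
    rw [← hVeq]
    exact le_pCoreOf (hs.pCore_le.trans v.t_le_p) (v.p_le.trans (le_normalizer_pCoreOf 2 L₁))
      (isPGroup_pCoreOf 2 L₁)
  have hQV : pCoreOf 2 L₁ = V := le_antisymm hQle fun x hx => hs.cen fun q hq =>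
    PGroup.mul_comm_of_elementaryAbelian hVe (hQle hq) hx
  have hVL : vOf L₁ = V := le_antisymm ((vOf_le L₁).trans hQV.le) fun x hx =>
    mem_omegaCenterOf (hQV.ge hx) (fun q hq => PGroup.mul_comm_of_elementaryAbelian hVe
      (hQV.le hq) hx) (hVe.2 x hx)
  obtain ⟨y, hy, hy3, hyO, hfy⟩ := v.exists_y
  obtain ⟨h1, -, -, h4⟩ := hs.comp_facts v.comp hKL
  have hpy := (h4 y hy hyO).2
  -- the only plane
  have huniq : ∀ {x : G} {W' : Subgroup G}, PlaneIn L₁ x W' → W' = wOf K₁ := by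
    intro x W' hp
    have hyW' : y ∈ normalizer (W' : Set G) := hs.jOf_le_normalizer_plane hp (h1 hy)
    have hne : W' ⊓ wOf K₁ ≠ ⊥ := by
      intro h0
      have hn : W' ≤ normalizer (wOf K₁ : Set G) := fun a ha =>
        Subgroup.centralizer_le_normalizer _ fun b hb =>
          PGroup.mul_comm_of_elementaryAbelian hVe (v.w_le_v hG hb) (hVL ▸ hp.le ha)
      have h2 := Offender.card_sup_mul_card_inf hn
      rw [h0, Subgroup.card_bot, hp.card, v.w4] at h2
      have h3 := card_le_of_le (sup_le (hVL ▸ hp.le) (v.w_le_v hG) : W' ⊔ wOf K₁ ≤ V)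
      have := v.h_card
      omega
    have e1 : W' ⊓ wOf K₁ = wOf K₁ := eq_of_le_four v.w4 inf_le_right hne hfy fun w hw =>
      ⟨(mem_normalizer_iff.mp hyW' w).mp hw.1, (mem_normalizer_iff.mp hfy.1 w).mp hw.2⟩
    exact (eq_of_le_of_card_ge (inf_eq_right.mp e1) (by rw [hp.card, v.w4])).symm
  have hLN : L₁ ≤ normalizer (wOf K₁ : Set G) := fun g hg =>
    PGroup.mem_normalizer_of_map_conj_eq (huniq (hpy.map_conj hg))
  -- `C_L(W)` is a 2-group
  set C := L₁ ⊓ centralizer (wOf K₁ : Set G) with hC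
  have hC2 : ∀ g ∈ C, g ^ 4 = 1 := by
    intro g hg
    have hgV : g ∈ normalizer (V : Set G) := by
      rw [← hVL]; exact le_normalizer_vOf L₁ hg.1
    suffices hg2 : g ^ 2 ∈ V by
      rw [show g ^ 4 = (g ^ 2) ^ 2 by rw [← pow_mul]]
      exact hVe.2 _ hg2
    rw [← hQV]
    refine hs.cen fun x hx => ?_
    rw [hQV] at hx
    have hidx : ((wOf K₁).subgroupOf V).index ≤ 2 := by
      have h5 := relIndex_mul_relIndex ⊥ (wOf K₁) V bot_le (v.w_le_v hG)
      rw [relIndex_bot_left, relIndex_bot_left, v.w4, hcard] at h5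
      have := v.h_card
      show (wOf K₁).relIndex V ≤ 2
      omega
    have hfix : ∀ w ∈ wOf K₁, g * w * g⁻¹ = w := fun w hw =>
      mul_inv_eq_iff_eq_mul.mpr (hg.2 w hw).symm
    set d := x⁻¹ * (g * x * g⁻¹) with hd
    have hdW : d ∈ wOf K₁ := by
      by_cases hxW : x ∈ wOf K₁
      · rw [hd, hfix x hxW, inv_mul_cancel]; exact one_mem _
      have hgx : g * x * g⁻¹ ∈ V := (mem_normalizer_iff.mp hgV x).mp hx
      have hne : ((wOf K₁).subgroupOf V).index = 2 := by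
        refine le_antisymm hidx (Nat.succ_le_of_lt (lt_of_le_of_ne
          (Nat.pos_of_ne_zero index_ne_zero_of_finite) fun h => hxW ?_))
        exact mem_subgroupOf.mp ((index_eq_one.mp h.symm).ge (mem_top ⟨x, hx⟩))
      exact mem_subgroupOf.mp ((Subgroup.mul_mem_iff_of_index_two hne
        (a := ⟨x⁻¹, inv_mem hx⟩) (b := ⟨_, hgx⟩)).mpr
        (iff_of_false (fun h => hxW (inv_mem_iff.mp (mem_subgroupOf.mp h)))
          fun h => hxW ((mem_normalizer_iff.mp (hLN hg.1) x).mpr (mem_subgroupOf.mp h))))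
    have h6 : g * x * g⁻¹ = x * d := by rw [hd, mul_inv_cancel_left]
    have h7 : g ^ 2 * x * (g ^ 2)⁻¹ = x := by
      rw [show g ^ 2 * x * (g ^ 2)⁻¹ = g * (g * x * g⁻¹) * g⁻¹ by rw [sq]; group, h6,
        show g * (x * d) * g⁻¹ = (g * x * g⁻¹) * (g * d * g⁻¹) by group, h6, hfix d hdW,
        mul_assoc, ← sq, hVe.2 d (v.w_le_v hG hdW), mul_one]
    exact (mul_inv_eq_iff_eq_mul.mp h7).symm
  have hCV : C ≤ V := by
    rw [← hQV]
    refine le_pCoreOf inf_le_left (fun g hg => ?_) fun c => ⟨2, Subtype.ext (by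
      simpa using hC2 c c.2)⟩
    refine Subnormal.mem_normalizer_of_cj_le ?_
    rw [Subnormal.cj, map_le_iff_le_comap]
    exact fun x hx => ⟨L₁.mul_mem (L₁.mul_mem hg hx.1) (L₁.inv_mem hg),
      (mem_normalizer_iff.mp (le_normalizer_centralizer le_rfl (hLN hg)) x).mp hx.2⟩
  have hCeq : C = V := le_antisymm hCV fun x hx =>
    ⟨hQV.ge hx |> fun h => pCoreOf_le 2 L₁ h, fun w hw =>
      PGroup.mul_comm_of_elementaryAbelian hVe (v.w_le_v hG hw) hx⟩
  -- `K T` has full order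
  have hidx6 : C.relIndex L₁ ≤ 6 := by
    obtain ⟨ρ, hρ, -⟩ := exists_perm v.w4
    let ψ : ↥L₁ →* Equiv.Perm (Fin 3) := ρ.comp (Subgroup.inclusion hLN)
    have hker : ψ.ker = C.subgroupOf L₁ := by
      ext g
      rw [MonoidHom.mem_ker, mem_subgroupOf, hC]
      exact (hρ _).trans ⟨fun h => ⟨g.2, h⟩, fun h => h.2⟩
    have h5 := Subgroup.index_ker ψ
    rw [hker] at h5
    show (C.subgroupOf L₁).index ≤ 6
    rw [h5]
    exact (Nat.card_le_card_of_injective _ ψ.range.subtype_injective).trans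
      (by rw [Nat.card_perm, Nat.card_fin]; rfl)
  have hLle : Nat.card ↥L₁ ≤ 24 * Nat.card ↥(hOf T K₁) := by
    have h5 := relIndex_mul_relIndex ⊥ C L₁ bot_le inf_le_left
    rw [relIndex_bot_left, relIndex_bot_left, hCeq, hcard] at h5
    rw [← h5, hCeq] at *
    exact (Nat.mul_le_mul_left _ hidx6).trans (by omega)
  have hXge : 24 * Nat.card ↥(hOf T K₁) ≤ Nat.card ↥(K₁ ⊔ T) := by
    have h3 : 3 ∣ Nat.card ↥(K₁ ⊔ T) := hy3 ▸
      (Nat.card_zpowers y ▸ card_dvd_of_le (zpowers_le.mpr (mem_sup_left hy)))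
    have h8 : 8 * Nat.card ↥(hOf T K₁) ∣ Nat.card ↥(K₁ ⊔ T) :=
      hT8 ▸ card_dvd_of_le le_sup_right
    have hcop : Nat.Coprime 3 (8 * Nat.card ↥(hOf T K₁)) := by
      have := v.h_card
      have : 0 < Nat.card ↥(hOf T K₁) := Nat.card_pos
      interval_cases Nat.card ↥(hOf T K₁) <;> norm_num
    have h9 := Nat.le_of_dvd Nat.card_pos (hcop.mul_dvd_of_dvd_of_dvd h3 h8)
    omega
  have hKT : K₁ ⊔ T = L₁ := eq_of_le_of_card_ge (sup_le hKL hTL) (hLle.trans hXge)
  refine ⟨le_antisymm (hKT ▸ sup_le v.k_le_p v.t_le_p) v.p_le, hKT.symm, hQV, ?_, hT8⟩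
  refine le_antisymm hLle ?_
  rw [← hKT]
  exact hXge

/-- The braid relations in `P₁`. -/
theorem Edge.exists_s4 : ∃ φ : Equiv.Perm (Fin 4) →* G, Function.Injective φ ∧
    ∀ σ, φ σ ∈ pOf T K₁ := by
  have : Fact (Nat.Prime 2) := ⟨Nat.prime_two⟩
  have v := e.left
  set P := pOf T K₁ with hP
  obtain ⟨a, haV, haT, haW, ha2⟩ := e.exists_a hG
  have haP : a ∈ P := v.t_le_p haT
  obtain ⟨y, hy, -, -, hfy⟩ := v.exists_y
  have hyP : y ∈ P := v.k_le_p hy
  set u := a * (y * a * y⁻¹) with hu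
  have hfu : Fpf (wOf K₁) u := v.fpf_of_moving haT haW hyP (v.moves hfy)
  have huP : u ∈ P := mul_mem haP (mul_mem (mul_mem hyP haP) (inv_mem hyP))
  have haa : a * a = 1 := by rw [← sq]; exact ha2
  have hai : a⁻¹ = a := inv_eq_of_mul_eq_one_left haa
  have hinv : a * u * a = u⁻¹ := by
    rw [hu, mul_inv_rev, mul_inv_rev, mul_inv_rev, inv_inv, hai]
    simp only [← mul_assoc, haa, one_mul]
  -- `u ^ 4` has order three
  have hu3 : u ^ 3 ∈ vOf P := by
    rw [← e.core_eq hG]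
    obtain ⟨ρ, hρ, hfix⟩ := exists_perm v.w4
    have hW : u ^ 3 ∈ centralizer (wOf K₁ : Set G) := by
      set u' : ↥(normalizer (wOf K₁ : Set G)) := ⟨u, hfu.1⟩
      refine (hρ (u' ^ 3)).mp ?_
      have hno : ∀ i, ρ u' i ≠ i := fun i hi => by
        obtain ⟨w, hw, hw1, hc⟩ := (hfix u').mp ⟨i, hi⟩
        exact hw1 (hfu.2 w hw hc.symm)
      rw [map_pow]
      generalize ρ u' = σ at hno
      revert σ; decide +kernel
    obtain ⟨hLP, hKT, hQ, hcL, -⟩ := e.local_eq hG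
    have hcV := v.mem_cOf hG (pow_mem huP 3) hW
    have := (v.setting hG).cen
    refine this fun r hr => ?_
    rw [e.core_eq hG] at hr
    exact hcV.2 r hr
  have h6 : u ^ 6 = 1 := by
    rw [show u ^ 6 = (u ^ 3) ^ 2 by rw [← pow_mul]]
    exact (isElementaryAbelian_omegaCenterOf _).2 _ hu3
  set q := u ^ 4 with hq
  have hq3 : q * q * q = 1 := by
    rw [hq, ← pow_add, ← pow_add, show 4 + 4 + 4 = 6 * 2 from rfl, pow_mul, h6, one_pow]
  have hfq : Fpf (wOf K₁) q := fpf_two_pow v.w4 hfu 2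
  have hqinv : a * q * a = q⁻¹ := by
    rw [hq, ← inv_pow, ← hinv]
    conv_rhs => rw [show a * u * a = a * u * a⁻¹ by rw [hai]]
    rw [conj_pow, hai]
  obtain ⟨⟨w, hw⟩, hwne, -⟩ := (Nat.card_eq_two_iff' (1 : ↥(lineOf T K₁))).mp v.line_card
  have hw1 : w ≠ 1 := fun h => hwne (Subtype.ext h)
  have hww : w * w = 1 := by rw [← sq]; exact (isElementaryAbelian_omegaCenterOf T).2 w hw.1
  have haw : Commute a w := v.t_comm_z haT hw.1
  set b := a * q with hb
  set c := a * w with hc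
  have hbb : b * b = 1 := by
    rw [hb, show a * q * (a * q) = a * q * a * q by group, hqinv, inv_mul_cancel]
  have hcc : c * c = 1 := by
    rw [hc, show a * w * (a * w) = a * (w * a) * w by group, ← haw.eq, ← mul_assoc, haa, one_mul,
      hww]
  have hab : a * b = q := by rw [hb, ← mul_assoc, haa, one_mul]
  have hab3 : (a * b) ^ 3 = 1 := by rw [hab, pow_succ, pow_two]; exact hq3
  have hbc3 : (b * c) ^ 3 = 1 := by
    have h1 : b * c = q⁻¹ * w := by
      rw [hb, hc, show a * q * (a * w) = a * q * a * w by group, hqinv]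
    rw [h1]
    set p := (q⁻¹ * w) ^ 3 with hp
    have hp' : p = (q⁻¹ * w * q) * (q⁻¹ * (q⁻¹ * w * q) * q) * ((q * q * q)⁻¹ * w) := by
      rw [hp, pow_succ, pow_two]; group
    rw [hq3, inv_one, one_mul] at hp'
    set w₁ := q⁻¹ * w * q with hw₁
    have hw₁W : w₁ ∈ wOf K₁ := (mem_normalizer_iff''.mp hfq.1 w).mp hw.2
    set w₂ := q⁻¹ * w₁ * q with hw₂
    have hw₂W : w₂ ∈ wOf K₁ := (mem_normalizer_iff''.mp hfq.1 w₁).mp hw₁W
    have hpW : p ∈ wOf K₁ := hp' ▸ mul_mem (mul_mem hw₁W hw₂W) hw.2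
    have hWc : ∀ x ∈ wOf K₁, ∀ z ∈ wOf K₁, x * z = z * x := fun x hx z hz =>
      PGroup.mul_comm_of_elementaryAbelian (isElementaryAbelian_omegaCenterOf _)
        (v.w_le_v hG hx) (v.w_le_v hG hz)
    refine hfq.2 p hpW ?_
    have h3 : q⁻¹ * w₂ * q = w := by
      rw [hw₂, hw₁, show q⁻¹ * (q⁻¹ * (q⁻¹ * w * q) * q) * q = (q * q * q)⁻¹ * w * (q * q * q) by
        group, hq3]
      group
    have h4 : q⁻¹ * p * q = p := by
      rw [hp', show q⁻¹ * (w₁ * w₂ * w) * q = (q⁻¹ * w₁ * q) * (q⁻¹ * w₂ * q) * (q⁻¹ * w * q) by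
        group, ← hw₂, h3, ← hw₁, hWc _ (mul_mem hw₂W hw.2) _ hw₁W, ← mul_assoc]
    show p * q = q * p
    conv_rhs => rw [← h4]
    group
  have hrel : Transpos.S4Rel a b c := ⟨haa, hbb, hcc, Transpos.braid_of_pow_three haa hbb hab3,
    Transpos.braid_of_pow_three hbb hcc hbc3, by
      rw [hc, mul_assoc, ← haw.eq]⟩
  refine ⟨Transpos.s4Hom hrel, Transpos.s4Hom_injective hrel fun h => hw1 ?_, fun σ => ?_⟩
  · exact (mul_eq_left.mp h.symm)
  · have hgen : Subgroup.closure (Set.range Transpos.s4gen) = ⊤ := by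
      refine (Subgroup.eq_top_iff' _).mpr fun σ => ?_
      obtain ⟨i, rfl⟩ := Transpos.wordS4_bijective.2 σ
      rw [Transpos.wordS4_eq_prod]
      refine list_prod_mem ?_
      intro x hx
      obtain ⟨k, -, rfl⟩ := List.mem_map.mp hx
      exact subset_closure ⟨k, rfl⟩
    have hcl : (Subgroup.closure (Set.range Transpos.s4gen)).map (Transpos.s4Hom hrel) ≤ P := by
      rw [MonoidHom.map_closure, closure_le]
      rintro _ ⟨_, ⟨k, rfl⟩, rfl⟩
      rw [Transpos.s4Hom_gen]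
      have hqP : q ∈ P := pow_mem huP 4
      have hwP : w ∈ P := v.t_le_p (omegaCenterOf_le _ hw.1).1
      fin_cases k
      exacts [haP, mul_mem haP hqP, mul_mem haP hwP]
    exact hcl ⟨σ, by rw [hgen]; exact mem_top σ, rfl⟩

/-- The isomorphism types. -/
theorem Edge.iso : (Nat.card ↥(hOf T K₁) = 1 → Nonempty (↥L₁ ≃* Equiv.Perm (Fin 4))) ∧
    (Nat.card ↥(hOf T K₁) = 2 →
      Nonempty (↥L₁ ≃* Equiv.Perm (Fin 4) × Multiplicative (ZMod 2))) := by
  have v := e.left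
  obtain ⟨hLP, -, -, hcard, -⟩ := e.local_eq hG
  obtain ⟨φ, hinj, hφ⟩ := e.exists_s4 hG
  let φ' : Equiv.Perm (Fin 4) →* ↥L₁ := φ.codRestrict L₁ fun σ => hLP ▸ hφ σ
  have hinj' : Function.Injective φ' := fun _ _ h => hinj (congrArg Subtype.val h)
  refine ⟨fun h1 => ⟨(MulEquiv.ofBijective φ' ?_).symm⟩, fun h2 => ?_⟩
  · refine hinj'.bijective_of_nat_card_le ?_
    rw [hcard, h1, Nat.card_perm, Nat.card_fin]
    rfl
  · obtain ⟨⟨h, hh⟩, hne, -⟩ := (Nat.card_eq_two_iff' (1 : ↥(hOf T K₁))).mp h2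
    have hh1 : h ≠ 1 := fun he => hne (Subtype.ext he)
    have hord : orderOf h = 2 :=
      orderOf_eq_prime ((isElementaryAbelian_omegaCenterOf T).2 h hh.1) hh1
    have hhL : h ∈ L₁ := v.syl.1 ((omegaCenterOf_le _ hh.1).1)
    set h' : ↥L₁ := ⟨h, hhL⟩
    have hcomm : ∀ g : ↥L₁, Commute h' g := fun g => Subtype.ext ((hLP ▸ g.2 : _ ∈ pOf T K₁).2 h hh)
    have hcy : Nat.card (Multiplicative (ZMod 2)) = Nat.card ↥(zpowers h') := by
      rw [Nat.card_zpowers, Subgroup.orderOf_mk, hord]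
      simp
    let ψ : Multiplicative (ZMod 2) →* ↥L₁ :=
      (zpowers h').subtype.comp (mulEquivOfCyclicCardEq hcy).toMonoidHom
    have hψ : ∀ n, ψ n ∈ zpowers h' := fun n => SetLike.coe_mem _
    have hc' : ∀ σ n, Commute (φ' σ) (ψ n) := fun σ n => by
      obtain ⟨i, hi⟩ := mem_zpowers_iff.mp (hψ n)
      rw [← hi]
      exact ((hcomm (φ' σ)).zpow_left i).symm
    let Φ := φ'.noncommCoprod ψ hc'
    have key : ∀ σ : Equiv.Perm (Fin 4), (∀ τ, σ * τ = τ * σ) → σ = 1 := by decide +kernel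
    have hinjΦ : Function.Injective Φ := by
      rw [injective_iff_map_eq_one]
      rintro ⟨σ, n⟩ h0
      have h0' : φ' σ * ψ n = 1 := h0
      have hσ : σ = 1 := by
        have hcen : ∀ τ, σ * τ = τ * σ := fun τ => hinj' (by
          rw [map_mul, map_mul, eq_inv_of_mul_eq_one_left h0']
          exact ((hc' τ n).inv_right).eq.symm)
        exact key σ hcen
      subst hσ
      rw [map_one, one_mul] at h0'
      refine Prod.ext rfl ?_
      exact (mulEquivOfCyclicCardEq hcy).injective (by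
        refine Subtype.ext (h0'.trans ?_)
        simp)
    refine ⟨(MulEquiv.ofBijective Φ (hinjΦ.bijective_of_nat_card_le ?_)).symm⟩
    rw [hcard, h2, Nat.card_prod, Nat.card_perm, Nat.card_fin]
    simp
    rfl

end ShapeSec

end Cfsg.Agent.JComponent
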