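import Cfsg.Agent.Lib.JComponent.Component

/-!
# The normalizer of the plane normalizes the component

* `conj_mem_zpowers`: the abstract step
* `Setting.comp_normalizer_wOf`
-/

set_option autoImplicit false

namespace Cfsg.Agent.JComponent

open Subgroup LocalStructure
open scoped commutatorElement

universe u

section Abstract

variable {Γ : Type*} [Group Γ] {C : Subgroup Γ}
  (hodd : ∀ c ∈ C, ∀ k : ℕ, c ^ 2 ^ k = 1 → c = 1)
  (hcomm : ∀ c ∈ C, ∀ (t : Γ) (k : ℕ), t ^ 2 ^ k = 1 → Commute c t)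
include hodd hcomm

theorem eq_of_two_elt {a b : Γ} {k l : ℕ} (ha : a ^ 2 ^ k = 1) (hb : b ^ 2 ^ l = 1)
    (h : a⁻¹ * b ∈ C) : a = b := by
  have hc := hcomm _ h a k ha
  refine inv_mul_eq_one.mp (hodd _ h (k + l) ?_)
  have e := hc.mul_pow (2 ^ (k + l))
  have hb' : a⁻¹ * b * a = b := by
    rw [hc.eq, mul_inv_cancel_left]
  rw [hb', pow_add 2 k l, pow_mul a, ha, one_pow, mul_one, mul_comm (2 ^ k), pow_mul b, hb,
    one_pow] at e
  rw [pow_add 2 k l, mul_comm (2 ^ k)]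
  exact e.symm

theorem conj_mem_zpowers {a u y g : Γ} {k l : ℕ} (ha : a ^ 2 ^ k = 1) (hu : u ^ 2 ^ l = 1)
    (hy3 : y ^ 3 = 1) (hyC : ∀ c ∈ C, Commute c y)
    (hay : a * y * a⁻¹ = y⁻¹) (hau : u⁻¹ * (a * u * a⁻¹) ∈ C) (huy : u * y * u⁻¹ * y ∈ C)
    (hgy : g * y * g⁻¹ * y⁻¹ ∈ C ∨ g * y * g⁻¹ * y ∈ C)
    (hgu : ∃ i : ℕ, u⁻¹ * (g * u * g⁻¹) * y ^ i ∈ C) : g * y * g⁻¹ ∈ zpowers y := by
  have hau' : a * u * a⁻¹ = u := by
    refine (eq_of_two_elt hodd hcomm hu (b := a * u * a⁻¹) (l := l) ?_ hau).symm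
    rw [conj_pow, hu, mul_one, mul_inv_cancel]
  set c := u * y * u⁻¹ * y with hc
  have hcy := hyC c huy
  have hca := hcomm c huy a k ha
  -- `c = 1`
  have h1 : u * y * u⁻¹ = c * y⁻¹ := by rw [hc]; group
  have h2 : u * y⁻¹ * u⁻¹ = c * y := by
    have h3 : a * (u * y * u⁻¹) * a⁻¹ = u * y⁻¹ * u⁻¹ := by
      calc a * (u * y * u⁻¹) * a⁻¹ = a * u * a⁻¹ * (a * y * a⁻¹) * (a * u * a⁻¹)⁻¹ := by group
        _ = _ := by rw [hau', hay]
    rw [← h3, h1]
    calc a * (c * y⁻¹) * a⁻¹ = a * c * a⁻¹ * (a * y * a⁻¹)⁻¹ := by group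
      _ = c * y := by rw [hay, inv_inv, show a * c * a⁻¹ = c from
          mul_inv_eq_iff_eq_mul.mpr hca.symm.eq]
  have hc1 : c = 1 := by
    refine hodd c huy 1 ?_
    have h4 : c * y⁻¹ * (c * y) = 1 := by
      rw [← h1, ← h2]; group
    rw [show c * y⁻¹ * (c * y) = c * (y⁻¹ * c * y) by group,
      show y⁻¹ * c * y = c by rw [mul_assoc, hcy.eq, inv_mul_cancel_left]] at h4
    rw [pow_one, sq]
    exact h4
  rw [hc1, one_mul] at h1
  -- the conjugate of `u`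
  obtain ⟨i, hi⟩ := hgu
  have huyi : ∀ i : ℕ, (u * y ^ i) * (u * y ^ i) = u * u := by
    intro i
    have e : u * y ^ i * u⁻¹ = (y ^ i)⁻¹ := by rw [← conj_pow, h1, inv_pow]
    calc u * y ^ i * (u * y ^ i) = (u * y ^ i * u⁻¹) * (u * u) * y ^ i := by group
      _ = (y ^ i)⁻¹ * ((u * u) * y ^ i * (u * u)⁻¹) * (u * u) := by rw [e]; group
      _ = (y ^ i)⁻¹ * (y ^ i) * (u * u) := by
          rw [show u * u * y ^ i * (u * u)⁻¹ = u * (u * y ^ i * u⁻¹) * u⁻¹ by group, e,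
            show u * (y ^ i)⁻¹ * u⁻¹ = (u * y ^ i * u⁻¹)⁻¹ by group, e, inv_inv]
      _ = u * u := by group
  have hgu' : g * u * g⁻¹ = u * (y ^ (2 * i)) := by
    refine (eq_of_two_elt hodd hcomm (a := u * y ^ (2 * i)) (k := l + 1) (l := l)
      ?_ ?_ ?_).symm
    · rw [pow_succ' 2, pow_mul, sq, huyi, ← sq, ← pow_mul, mul_comm, pow_mul, hu, one_pow]
    · rw [conj_pow, hu, mul_one, mul_inv_cancel]
    · have h5 := hyC _ hi
      have e : (u * y ^ (2 * i))⁻¹ * (g * u * g⁻¹) =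
          (y ^ (2 * i))⁻¹ * (u⁻¹ * (g * u * g⁻¹) * y ^ i) * (y ^ i)⁻¹ := by group
      rw [e, ((h5.pow_right (2 * i)).inv_right).symm.eq, mul_assoc, ← mul_inv_rev, ← pow_add,
        show i + 2 * i = 3 * i by ring, pow_mul, hy3, one_pow, inv_one, mul_one]
      exact hi
  -- `y⁻¹ = [y, u]`
  have hyu : ∀ j : ℕ, ⁅y, u * y ^ j⁆ = y⁻¹ ∧ ⁅y⁻¹, u * y ^ j⁆ = y := by
    intro j
    have e1 : u * y ^ j * y⁻¹ * (u * y ^ j)⁻¹ = y := by
      calc u * y ^ j * y⁻¹ * (u * y ^ j)⁻¹ = (u * y * u⁻¹)⁻¹ := by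
            rw [mul_inv_rev, show u * y ^ j * y⁻¹ * ((y ^ j)⁻¹ * u⁻¹) =
              u * (y ^ j * y⁻¹ * (y ^ j)⁻¹) * u⁻¹ by group,
              ((Commute.refl y).inv_left.pow_right j).symm.eq, mul_inv_cancel_right]
            group
        _ = y := by rw [h1, inv_inv]
    have e2 : y * y = y⁻¹ := by
      rw [eq_inv_iff_mul_eq_one, ← sq, ← pow_succ, hy3]
    constructor
    · rw [commutatorElement_def, show y * (u * y ^ j) * y⁻¹ * (u * y ^ j)⁻¹ =
        y * (u * y ^ j * y⁻¹ * (u * y ^ j)⁻¹) by group, e1, e2]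
    · rw [commutatorElement_def, show y⁻¹ * (u * y ^ j) * y⁻¹⁻¹ * (u * y ^ j)⁻¹ =
        y⁻¹ * (u * y ^ j * y⁻¹ * (u * y ^ j)⁻¹)⁻¹ by group, e1, ← mul_inv_rev, e2, inv_inv]
  have hkey : ∀ (d z : Γ), d ∈ C → ⁅d * z, u * y ^ (2 * i)⁆ = ⁅z, u * y ^ (2 * i)⁆ →
      g * y * g⁻¹ = d * z → g * y * g⁻¹ = (⁅z, u * y ^ (2 * i)⁆)⁻¹ := by
    intro d z _ e1 e2
    have e3 := congrArg (fun x => g * x * g⁻¹) ((hyu 0).1)
    simp only [pow_zero, mul_one] at e3
    rw [show g * ⁅y, u⁆ * g⁻¹ = ⁅g * y * g⁻¹, g * u * g⁻¹⁆ by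
      simp only [commutatorElement_def]; group, hgu', e2, e1] at e3
    rw [e3]
    group
  have hdrop : ∀ d ∈ C, ∀ z, Commute d z → ⁅d * z, u * y ^ (2 * i)⁆ = ⁅z, u * y ^ (2 * i)⁆ := by
    intro d hd z hdz
    have h6 : Commute d (u * y ^ (2 * i)) :=
      (hcomm d hd u l hu).mul_right ((hyC d hd).pow_right _)
    rw [commutatorElement_def, commutatorElement_def]
    have h7 := ((hdz.mul_right h6).mul_right hdz.inv_right).eq
    calc d * z * (u * y ^ (2 * i)) * (d * z)⁻¹ * (u * y ^ (2 * i))⁻¹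
        = d * (z * (u * y ^ (2 * i)) * z⁻¹) * d⁻¹ * (u * y ^ (2 * i))⁻¹ := by group
      _ = _ := by rw [h7, mul_inv_cancel_right]
  rcases hgy with hd | hd
  · have e : g * y * g⁻¹ = (g * y * g⁻¹ * y⁻¹) * y := by group
    rw [hkey _ _ hd (hdrop _ hd _ (hyC _ hd)) e, (hyu _).1, inv_inv]
    exact mem_zpowers y
  · have e : g * y * g⁻¹ = (g * y * g⁻¹ * y) * y⁻¹ := by group
    rw [hkey _ _ hd (hdrop _ hd _ (hyC _ hd).inv_right) e, (hyu _).2]
    exact inv_mem (mem_zpowers y)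

end Abstract

variable {G : Type u} [Group G] [Finite G]

theorem Setting.comp_normalizer_wOf {T L : Subgroup G} (h : Setting T L) {K : Subgroup G}
    (hK : IsJComponent T K) (hKL : K ≤ L) :
    L ⊓ normalizer (wOf K : Set G) ≤ normalizer (K : Set G) := by
  have : Fact (Nat.Prime 2) := ⟨Nat.prime_two⟩
  have hp := IsJComponent.pre hK
  have hW4 := hK.2.2.2.2.1
  obtain ⟨h1, h2, h3, h4⟩ := h.comp_facts hK hKL
  obtain ⟨y, hy, hy3, hyO⟩ := hp.exists_three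
  obtain ⟨hyC, hP⟩ := h4 y hy hyO
  obtain ⟨j, hj, hjy⟩ := exists_inverting hK hy hyO
  obtain ⟨kj, hkj'⟩ := isPGroup_j h.syl.2.1 ⟨j, hj⟩
  have hkj : j ^ 2 ^ kj = 1 := by simpa using congrArg Subtype.val hkj'
  have hjL : j ∈ L := h.j_le hj
  have hjW : j ∈ normalizer (wOf K : Set G) :=
    PGroup.mem_normalizer_of_map_conj_eq (by
      rw [wOf_map_conj, PGroup.map_conj_eq_of_mem_normalizer (comp_le_normalizer hK hj)])
  have hyW := (hp.fpf hy hyO).1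
  have hfW := hp.fpf hy hyO
  have hOC : pCoreOf 2 K ≤ centralizer (wOf K : Set G) := fun o ho w hw =>
    ((omegaCenterOf_le _ (hp.wOf_le hw)).2 o ho).symm
  have hjinv : j * y * j⁻¹ * y ∈ centralizer (wOf K : Set G) := hOC hjy
  obtain ⟨u₀, k₀, hu₀L, hk₀, -, hu₀W, hu₀U, hu₀y⟩ := h.plane_exists_tv hP
  have hwV : wOf K ≤ vOf L := hP.le
  have hCW : cOf L ≤ centralizer (wOf K : Set G) :=
    inf_le_right.trans (centralizer_le (SetLike.coe_subset_coe.mpr hwV))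
  have hu₀N : u₀ ∈ normalizer (wOf K : Set G) := by
    refine Subnormal.mem_normalizer_of_cj_le ?_
    rintro _ ⟨w, hw, rfl⟩
    show u₀ * w * u₀⁻¹ ∈ wOf K
    rw [show u₀ * w * u₀⁻¹ = ⁅w, u₀⁆⁻¹ * w by rw [commutatorElement_def]; group]
    exact mul_mem (inv_mem (hu₀W w (hwV hw))) hw
  -- choose `u` acting on `W` as `j`
  obtain ⟨i, hi⟩ := invert_unique hW4 hjW hu₀N hfW hjinv (hCW hu₀y)
  obtain ⟨m, ku, hm, hku, -⟩ := exists_two_part (u₀ * y ^ i)
  set u := (u₀ * y ^ i) ^ m with hu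
  have hbL : u₀ * y ^ i ∈ L := mul_mem hu₀L (pow_mem (hKL hy) i)
  have huL : u ∈ L := pow_mem hbL m
  have hbU : ∀ v ∈ vOf L, Commute v y → Commute v (u₀ * y ^ i) := fun v hv hc =>
    (hu₀U v hv hc).mul_right (hc.pow_right i)
  have huU : ∀ v ∈ vOf L, Commute v y → Commute v u := fun v hv hc => (hbU v hv hc).pow_right m
  have hbN : u₀ * y ^ i ∈ normalizer (wOf K : Set G) := mul_mem hu₀N (pow_mem hyW i)
  have huN : u ∈ normalizer (wOf K : Set G) := pow_mem hbN m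
  have hjc : (j : G) ^ 2 ∈ centralizer (wOf K : Set G) := by
    obtain ⟨e, he⟩ := exists_pow_eq_self_of_coprime
      (x := j ^ 2) (n := 3) (by
        obtain ⟨q, -, hq⟩ := (Nat.dvd_prime_pow Nat.prime_two).mp
          (orderOf_dvd_of_pow_eq_one (show (j ^ 2) ^ 2 ^ kj = 1 by
            rw [← pow_mul, mul_comm, pow_mul, hkj, one_pow]))
        rw [hq]
        exact (by norm_num : Nat.Coprime 3 2).pow_right q)
    rw [← he, ← pow_mul j 2 3]
    exact pow_mem (pow_six_mem hW4 hjW) e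
  -- the quotient of `N_L(W)` by `O₂(L)`
  set N := L ⊓ normalizer (wOf K : Set G) with hN
  have hQN : pCoreOf 2 L ≤ N := le_inf (pCoreOf_le 2 L) ((pCoreOf_le_cOf L).trans
    (hCW.trans (Subgroup.centralizer_le_normalizer _)))
  have : ((pCoreOf 2 L).subgroupOf N).Normal := (normal_subgroupOf_iff_le_normalizer hQN).mpr
    (inf_le_left.trans (le_normalizer_pCoreOf 2 L))
  set π := QuotientGroup.mk' ((pCoreOf 2 L).subgroupOf N) with hπ
  have hπeq : ∀ a b : ↥N, π a = π b ↔ (a : G)⁻¹ * b ∈ pCoreOf 2 L := fun a b =>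
    QuotientGroup.eq.trans (by rw [mem_subgroupOf]; rfl)
  have hπ1 : ∀ a : ↥N, π a = 1 ↔ (a : G) ∈ pCoreOf 2 L := fun a =>
    (QuotientGroup.eq_one_iff a).trans mem_subgroupOf
  set CC := ((cOf L).subgroupOf N).map π with hCC
  have hodd : ∀ c ∈ CC, ∀ k : ℕ, c ^ 2 ^ k = 1 → c = 1 := by
    rintro _ ⟨c, hc, rfl⟩ k hk
    rw [← map_pow, hπ1] at hk
    rw [hπ1]
    obtain ⟨n, hn⟩ := isPGroup_pCoreOf 2 L ⟨_, hk⟩
    refine h.two_mem hc (k := k + n) ?_
    rw [pow_add, pow_mul]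
    simpa using congrArg Subtype.val hn
  have htwo : ∀ t : ↥N, ∀ k, π t ^ 2 ^ k = 1 → ∃ k', (t : G) ^ 2 ^ k' = 1 := by
    intro t k hk
    rw [← map_pow, hπ1] at hk
    obtain ⟨n, hn⟩ := isPGroup_pCoreOf 2 L ⟨_, hk⟩
    refine ⟨k + n, ?_⟩
    rw [pow_add, pow_mul]
    simpa using congrArg Subtype.val hn
  have hcommute : ∀ a b : ↥N, ⁅(a : G), (b : G)⁆ ∈ pCoreOf 2 L → Commute (π a) (π b) :=
    fun a b hab => by
      refine commutatorElement_eq_one_iff_mul_comm.mp ?_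
      rw [← map_commutatorElement, hπ1]
      exact hab
  have hcomm : ∀ c ∈ CC, ∀ (t : ↥N ⧸ (pCoreOf 2 L).subgroupOf N) (k : ℕ),
      t ^ 2 ^ k = 1 → Commute c t := by
    rintro _ ⟨c, hc, rfl⟩ t k hk
    obtain ⟨t, rfl⟩ := QuotientGroup.mk_surjective t
    obtain ⟨k', hk'⟩ := htwo t k hk
    exact hcommute c t (h.cOf_comm hc t.2.1 hk')
  set y' : ↥N := ⟨y, hKL hy, hyW⟩ with hy'
  set j' : ↥N := ⟨j, hjL, hjW⟩ with hj'
  set u' : ↥N := ⟨u, huL, huN⟩ with hu'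
  have hyC' : ∀ c ∈ CC, Commute c (π y') := by
    rintro _ ⟨c, hc, rfl⟩
    exact hcommute c y' (h.cOf_comm_jOf hc (h1 hy))
  have hmemCC : ∀ a : ↥N, (a : G) ∈ cOf L → π a ∈ CC := fun a ha => ⟨a, ha, rfl⟩
  -- `u` agrees with `u₀ y^i` modulo `C`
  have hb2 : (u₀ * y ^ i) ^ 2 ∈ cOf L := by
    refine h.mem_cOf_of_fix hP (pow_mem hbL 2) ?_ fun v hv hc => (hbU v hv hc).pow_right 2
    have e : (u₀ * y ^ i) ^ 2 = j * (j⁻¹ * u₀ * y ^ i) * j⁻¹ * j ^ 2 * (j⁻¹ * u₀ * y ^ i) := by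
      simp only [sq]; group
    rw [e]
    exact mul_mem (mul_mem ((mem_normalizer_iff.mp
      (le_normalizer_centralizer le_rfl hjW) _).mp hi) hjc) hi
  obtain ⟨m', rfl⟩ := hm
  have hmb : (u₀ * y ^ i)⁻¹ * u ∈ cOf L := by
    rw [hu, pow_succ', inv_mul_cancel_left, pow_mul]
    exact pow_mem hb2 m'
  have hju : j⁻¹ * u ∈ centralizer (wOf K : Set G) := by
    have := mul_mem hi (hCW hmb)
    rwa [show j⁻¹ * u₀ * y ^ i * ((u₀ * y ^ i)⁻¹ * u) = j⁻¹ * u by group] at this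
  have huinv : u * y * u⁻¹ * y ∈ centralizer (wOf K : Set G) := by
    have e : u * y * u⁻¹ * y =
        (j * (j⁻¹ * u) * j⁻¹) * (j * y * j⁻¹ * y) * y⁻¹ * (j * (j⁻¹ * u)⁻¹ * j⁻¹) * y := by group
    rw [e]
    have hn := le_normalizer_centralizer (K := wOf K) (le_refl (normalizer (wOf K : Set G)))
    refine by
      have h5 := (mem_normalizer_iff.mp (hn hjW) _).mp hju
      have h6 := (mem_normalizer_iff.mp (hn hjW) _).mp (inv_mem hju)
      have h7 := (mem_normalizer_iff''.mp (hn hyW) _).mp h6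
      have := mul_mem (mul_mem h5 hjinv) h7
      simpa [mul_assoc] using this
  intro g hg
  refine hp.mem_normalizer (isPGroup_pCoreOf 2 L) (h.pCore_le_normalizer hK hKL) fun k hk => ?_
  set g' : ↥N := ⟨g, hg⟩ with hg'
  suffices hkey : π g' * π y' * (π g')⁻¹ ∈ zpowers (π y') by
    obtain ⟨z, hz⟩ := mem_zpowers_iff.mp hkey
    rw [← map_inv, ← map_mul, ← map_mul, ← map_zpow, hπeq] at hz
    have hz' : (y : G) ^ z ∈ K := zpow_mem hy z
    have hgy : g * y * g⁻¹ ∈ K ⊔ pCoreOf 2 L := by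
      have e : g * y * g⁻¹ = y ^ z * ((y ^ z)⁻¹ * (g * y * g⁻¹)) := by group
      rw [e]
      exact mul_mem (mem_sup_left hz') (mem_sup_right (by simpa using hz))
    have hgO : ∀ o ∈ pCoreOf 2 K, g * o * g⁻¹ ∈ K ⊔ pCoreOf 2 L := fun o ho => mem_sup_right
      ((mem_normalizer_iff.mp (le_normalizer_pCoreOf 2 L hg.1) o).mp (h3 ho))
    rcases hp.cases hy hyO hk with e | e | e
    · exact hgO k e
    · rw [show g * k * g⁻¹ = g * (k * y⁻¹) * g⁻¹ * (g * y * g⁻¹) by group]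
      exact mul_mem (hgO _ e) hgy
    · rw [show g * k * g⁻¹ = g * (k * y) * g⁻¹ * (g * y * g⁻¹)⁻¹ by group]
      exact mul_mem (hgO _ e) (inv_mem hgy)
  have hgn : ∀ {x : G}, x ∈ centralizer (wOf K : Set G) → g * x * g⁻¹ ∈ centralizer (wOf K : Set G) :=
    fun {x} hx => (mem_normalizer_iff.mp (le_normalizer_centralizer le_rfl hg.2) x).mp hx
  refine conj_mem_zpowers hodd hcomm (a := π j') (u := π u') (k := kj) (l := ku) ?_ ?_ ?_ hyC'
    ?_ ?_ ?_ ?_ ?_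
  · rw [← map_pow, hπ1]; simp [hj', hkj]
  · rw [← map_pow, hπ1]; simp only [hu', SubmonoidClass.coe_pow]; rw [hku]; exact one_mem _
  · rw [← map_pow, hπ1]; exact h3 (hp.pow_three_mem hy)
  · rw [← map_inv, ← map_mul, ← map_mul, eq_inv_iff_mul_eq_one, ← map_mul, hπ1]
    exact h3 hjy
  · simp only [← map_inv, ← map_mul]
    refine hmemCC _ ?_
    show u⁻¹ * (j * u * j⁻¹) ∈ cOf L
    refine h.mem_cOf_of_fix hP (mul_mem (inv_mem huL) (mul_mem (mul_mem hjL huL) (inv_mem hjL)))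
      ?_ fun v hv hc => (huU v hv hc).inv_right.mul_right ?_
    · rw [show u⁻¹ * (j * u * j⁻¹) = (j⁻¹ * u)⁻¹ * (j * (j⁻¹ * u) * j⁻¹) by group]
      exact mul_mem (inv_mem hju)
        ((mem_normalizer_iff.mp (le_normalizer_centralizer le_rfl hjW) _).mp hju)
    · have hv' : j⁻¹ * v * j ∈ vOf L := (mem_normalizer_iff''.mp (le_normalizer_vOf L hjL) v).mp hv
      have hc2 := (h.commute_conj hP (inv_mem hjL) (inv_mem hjW) hv hc).1
      rw [inv_inv] at hc2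
      have h5 := huU _ hv' hc2
      show v * (j * u * j⁻¹) = j * u * j⁻¹ * v
      calc v * (j * u * j⁻¹) = j * (j⁻¹ * v * j * u) * j⁻¹ := by group
        _ = j * (u * (j⁻¹ * v * j)) * j⁻¹ := by rw [h5.eq]
        _ = _ := by group
  · rw [← map_inv, ← map_mul, ← map_mul, ← map_mul]
    refine hmemCC _ (h.mem_cOf_of_fix hP
      (mul_mem (mul_mem (mul_mem huL (hKL hy)) (inv_mem huL)) (hKL hy)) huinv ?_)
    intro v hv hc
    exact (((huU v hv hc).mul_right hc).mul_right (huU v hv hc).inv_right).mul_right hc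
  · simp only [← map_inv, ← map_mul]
    have hUg : ∀ v ∈ vOf L, Commute v y → Commute v (g * y * g⁻¹) := fun v hv hc =>
      (h.commute_conj hP hg.1 hg.2 hv hc).2
    refine (conj_fpf hW4 hg.2 hfW).imp (fun hc0 => ?_) fun hc0 => ?_
    · exact hmemCC _ (h.mem_cOf_of_fix hP (mul_mem (mul_mem (mul_mem hg.1 (hKL hy)) (inv_mem hg.1))
        (inv_mem (hKL hy))) hc0 fun v hv hc => (hUg v hv hc).mul_right hc.inv_right)
    · exact hmemCC _ (h.mem_cOf_of_fix hP (mul_mem (mul_mem (mul_mem hg.1 (hKL hy)) (inv_mem hg.1))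
        (hKL hy)) hc0 fun v hv hc => (hUg v hv hc).mul_right hc)
  · -- `g u g⁻¹` inverts `y` on `W`
    have hginv : g * u * g⁻¹ * y * (g * u * g⁻¹)⁻¹ * y ∈ centralizer (wOf K : Set G) := by
      have hn := le_normalizer_centralizer (K := wOf K) (le_refl (normalizer (wOf K : Set G)))
      have hgy := conj_fpf hW4 (inv_mem hg.2) hfW
      rw [inv_inv] at hgy
      rcases hgy with hc0 | hc0
      · -- `g⁻¹ y g = c y`
        set c := g⁻¹ * y * g * y⁻¹ with hcdef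
        have e : g * u * g⁻¹ * y * (g * u * g⁻¹)⁻¹ * y =
            g * ((u * c * u⁻¹) * (u * y * u⁻¹ * y) * (y⁻¹ * c * y)) * g⁻¹ := by
          rw [hcdef]; group
        rw [e]
        exact hgn (mul_mem (mul_mem ((mem_normalizer_iff.mp (hn huN) c).mp hc0) huinv)
          ((mem_normalizer_iff''.mp (hn hyW) c).mp hc0))
      · -- `g⁻¹ y g = c y⁻¹`
        set c := g⁻¹ * y * g * y with hcdef
        have e : g * u * g⁻¹ * y * (g * u * g⁻¹)⁻¹ * y =
            g * ((u * c * u⁻¹) * (y * ((u * y * u⁻¹ * y)⁻¹ * c) * y⁻¹)) * g⁻¹ := by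
          rw [hcdef]; group
        rw [e]
        refine hgn (mul_mem ((mem_normalizer_iff.mp (hn huN) c).mp hc0) ?_)
        exact (mem_normalizer_iff.mp (hn hyW) _).mp (mul_mem (inv_mem huinv) hc0)
    have hgN : g * u * g⁻¹ ∈ normalizer (wOf K : Set G) :=
      mul_mem (mul_mem hg.2 huN) (inv_mem hg.2)
    obtain ⟨i', hi'⟩ := invert_unique hW4 huN hgN hfW huinv hginv
    refine ⟨i', ?_⟩
    simp only [← map_inv, ← map_mul, ← map_pow]
    refine hmemCC _ (h.mem_cOf_of_fix hP ?_ hi' fun v hv hc =>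
      (((huU v hv hc).inv_right.mul_right ?_)).mul_right (hc.pow_right i'))
    · exact mul_mem (mul_mem (inv_mem huL) (mul_mem (mul_mem hg.1 huL) (inv_mem hg.1)))
        (pow_mem (hKL hy) i')
    · have hv' : g⁻¹ * v * g ∈ vOf L :=
        (mem_normalizer_iff''.mp (le_normalizer_vOf L hg.1) v).mp hv
      have hc2 := (h.commute_conj hP (inv_mem hg.1) (inv_mem hg.2) hv hc).1
      rw [inv_inv] at hc2
      have h5 := huU _ hv' hc2
      show v * (g * u * g⁻¹) = g * u * g⁻¹ * v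
      calc v * (g * u * g⁻¹) = g * (g⁻¹ * v * g * u) * g⁻¹ := by group
        _ = g * (u * (g⁻¹ * v * g)) * g⁻¹ := by rw [h5.eq]
        _ = _ := by group

end Cfsg.Agent.JComponent
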