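import Cfsg.Agent.Lib.JComponent.Shape
import Cfsg.Agent.S2943

/-!
# A component with its maximal 2-local subgroup

`Sit M T L K` and the case that `T` is not a Sylow subgroup of `G` (`Sit.lower_edge`).
-/

set_option autoImplicit false
set_option synthInstance.maxSize 512

namespace Cfsg.Agent.JComponent

open Subgroup LocalStructure
open scoped commutatorElement

universe u

variable {G : Type u} [Group G] [Finite G]

/-- A component outside `M` with its maximal 2-local subgroup, `T` Sylow in it. -/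
structure Sit (M T L K : Subgroup G) : Prop where
  ref : Ref M T
  comp : IsJComponent T K
  out : ¬ K ≤ M
  syl : IsSylowTwoIn T L
  max : IsMaximalTwoLocal L
  le : K ⊔ jOf T ≤ L
  uniq : ∀ X : Subgroup G, IsTwoLocal X → K ⊔ jOf T ≤ X → X ≤ L

theorem exists_maximal_twoLocal {X : Subgroup G} (hX : IsTwoLocal X) :
    ∃ L, IsMaximalTwoLocal L ∧ X ≤ L := by
  obtain ⟨L, hle, hmax⟩ := Finite.exists_le_maximal (p := IsTwoLocal (G := G)) hX
  exact ⟨L, ⟨hmax.prop, fun N hN hLN => le_antisymm (hmax.le_of_ge hN hLN) hLN⟩, hle⟩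

/-- A maximal 2-local subgroup is its own normalizer. -/
theorem maximal_normalizer (hG : ZN G) {L : Subgroup G} (hL : IsMaximalTwoLocal L) :
    normalizer (L : Set G) = L :=
  hL.2 _ ⟨pCoreOf 2 L, isPGroup_pCoreOf 2 L, (cen_of_twoLocal hG.char2 hL.1).2,
    le_antisymm (normalizer_le_normalizer_pCoreOf L) (by
      rw [hL.2 (normalizer (pCoreOf 2 L : Set G))
        ⟨_, isPGroup_pCoreOf 2 L, (cen_of_twoLocal hG.char2 hL.1).2, rfl⟩
        (le_normalizer_pCoreOf 2 L)]
      exact le_normalizer)⟩ le_normalizer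

theorem comp_not_closed {T K X : Subgroup G} (hK : IsJComponent T K) (hT : IsPGroup 2 T)
    (hKX : K ⊔ jOf T ≤ X) : ¬ TwoClosed X := by
  intro hc
  have hJ : jOf T ≤ pCoreOf 2 X := fun j hj => by
    obtain ⟨k, hk⟩ := isPGroup_j hT ⟨j, hj⟩
    exact hc j (hKX (mem_sup_right hj)) k (by simpa using congrArg Subtype.val hk)
  refine (IsJComponent.pre hK).not_isPGroup ((isPGroup_pCoreOf 2 X).to_le ?_)
  conv_lhs => rw [← show ⁅K, jOf T⁆ = K from hK.2.1]
  refine commutator_le.mpr fun k hk j hj => ?_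
  rw [commutatorElement_def]
  exact mul_mem (S := Subgroup G) ((mem_normalizer_iff.mp
    (le_normalizer_pCoreOf 2 X (hKX (mem_sup_left hk))) j).mp (hJ hj)) (inv_mem (hJ hj))

/-- A component does not normalize its `J`. -/
theorem comp_not_le {T K : Subgroup G} (hK : IsJComponent T K) (hT : IsPGroup 2 T) :
    ¬ K ≤ normalizer (jOf T : Set G) := by
  intro h
  refine (IsJComponent.pre hK).not_isPGroup ((isPGroup_j hT).to_le ?_)
  conv_lhs => rw [← show ⁅K, jOf T⁆ = K from hK.2.1]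
  refine commutator_le.mpr fun k hk j hj => ?_
  rw [commutatorElement_def]
  exact mul_mem (S := Subgroup G) ((mem_normalizer_iff.mp (h hk) j).mp hj) (inv_mem hj)

theorem twoClosed_of_sylow (S : Sylow 2 G) {X : Subgroup G} (hSX : (S : Subgroup G) ≤ X)
    (hX : X ≤ normalizer ((S : Subgroup G) : Set G)) : TwoClosed X := by
  have : Fact (Nat.Prime 2) := ⟨Nat.prime_two⟩
  intro g hg k hk
  have hS : (S : Subgroup G) ≤ pCoreOf 2 X := le_pCoreOf hSX hX S.2
  refine hS ?_
  obtain ⟨i, -, hi⟩ := (Nat.dvd_prime_pow Nat.prime_two).mp (orderOf_dvd_of_pow_eq_one hk)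
  have hp : IsPGroup 2 (zpowers g) := IsPGroup.of_card (n := i) (by rw [Nat.card_zpowers, hi])
  have h2 := hp.to_sup_of_normal_right' S.2 (zpowers_le.mpr (hX hg))
  exact (S.is_maximal' h2 le_sup_right).le (mem_sup_left (mem_zpowers g))

theorem omega_le_z {T : Subgroup G} : omegaCenterOf T ≤ omegaCenterOf (jOf T) := by
  intro x hx
  have hx2 : x ^ 2 = 1 := (isElementaryAbelian_omegaCenterOf T).2 x hx
  obtain ⟨A, hA⟩ := PGroup.exists_isMaxEA (p := 2) T
  have hxJ : x ∈ jOf T := PGroup.le_thompsonSubgroupOf hA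
    (PGroup.omegaOne_centralizer_le_of_isMaxEA hA (PGroup.mem_omegaOne_of_pow_eq_one
      ⟨(omegaCenterOf_le T hx).1, fun a ha => (omegaCenterOf_le T hx).2 a (hA.1 ha)⟩ hx2))
  exact mem_omegaCenterOf hxJ
    (fun j hj => (omegaCenterOf_le T hx).2 j (PGroup.thompsonSubgroupOf_le T hj)) hx2

theorem normalizer_le_normalizer_z (T : Subgroup G) :
    normalizer (T : Set G) ≤ normalizer (omegaCenterOf (jOf T) : Set G) :=
  (PGroup.normalizer_le_normalizer_thompsonOf T).trans (normalizer_le_normalizer_omegaCenterOf _)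

omit [Finite G] in
theorem four_cases {Z : Subgroup G} (hZ : Nat.card Z = 4) {a b c : G} (ha : a ∈ Z) (hb : b ∈ Z)
    (hc : c ∈ Z) (ha1 : a ≠ 1) (hb1 : b ≠ 1) (hc1 : c ≠ 1) (hab : a ≠ b) (hac : a ≠ c)
    (hbc : b ≠ c) {x : G} (hx : x ∈ Z) : x = 1 ∨ x = a ∨ x = b ∨ x = c := by
  have : Finite Z := Nat.finite_of_card_ne_zero (by omega)
  have hs : ({1, a, b, c} : Set G) ⊆ (Z : Set G) := by
    intro x hx
    rcases hx with rfl | rfl | rfl | rfl
    exacts [one_mem Z, ha, hb, hc]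
  have hcard : ({1, a, b, c} : Set G).ncard = 4 := by
    rw [Set.ncard_insert_of_notMem, Set.ncard_insert_of_notMem, Set.ncard_pair hbc]
    · simp only [Set.mem_insert_iff, Set.mem_singleton_iff, not_or]
      exact ⟨hab, hac⟩
    · simp only [Set.mem_insert_iff, Set.mem_singleton_iff, not_or]
      exact ⟨ha1.symm, hb1.symm, hc1.symm⟩
  have e := Set.eq_of_subset_of_ncard_le hs (by
    rw [← Nat.card_coe_set_eq, SetLike.coe_sort_coe, hZ, hcard]) (Set.toFinite _)
  exact e.ge hx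

section SitSec

variable {M T L K : Subgroup G} (h : Sit M T L K) (hG : ZN G)
include h

theorem Sit.k_le : K ≤ L := le_sup_left.trans h.le

theorem Sit.z_inf : hOf (jOf T) K ⊓ wOf K = ⊥ := by
  obtain ⟨y, hy, -, hyO⟩ := (IsJComponent.pre h.comp).exists_three
  have hf := (IsJComponent.pre h.comp).fpf hy hyO
  exact (eq_bot_iff_forall _).mpr fun w hw => hf.2 w hw.2 ((hw.1.2 y hy).symm : Commute w y)

theorem Sit.card_z :
    Nat.card ↥(omegaCenterOf (jOf T)) = 2 * Nat.card ↥(hOf (jOf T) K) := by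
  set Z := omegaCenterOf (jOf T) with hZ
  have hn : hOf (jOf T) K ≤ normalizer ((Z ⊓ wOf K : Subgroup G) : Set G) := fun a ha =>
    Subgroup.centralizer_le_normalizer _ fun b hb => PGroup.mul_comm_of_elementaryAbelian
      (isElementaryAbelian_omegaCenterOf _) hb.1 ha.1
  have e := Offender.card_sup_mul_card_inf hn
  have hbot : hOf (jOf T) K ⊓ (Z ⊓ wOf K) = ⊥ :=
    le_bot_iff.mp ((inf_le_inf_left _ inf_le_right).trans h.z_inf.le)
  have hsup : hOf (jOf T) K ⊔ (Z ⊓ wOf K) = Z := by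
    refine le_antisymm (sup_le inf_le_left inf_le_left) fun z hz => ?_
    obtain ⟨f, w, hf, hw, rfl⟩ := omega_decompose h.comp h.syl.2.1 hz
    exact mul_mem (mem_sup_left ⟨hf.1, centralizer_le (SetLike.coe_subset_coe.mpr le_sup_left) hf.2.2⟩)
      (mem_sup_right hw)
  rw [hbot, Subgroup.card_bot, mul_one, hsup, (card_omega_inf_wOf h.comp h.syl.2.1).1] at e
  rw [e, mul_comm]

omit [Finite G] in
theorem Sit.orderOf_h {x : G} (hx : x ∈ hOf (jOf T) K) (hx1 : x ≠ 1) : orderOf x = 2 :=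
  haveI : Fact (Nat.Prime 2) := ⟨Nat.prime_two⟩
  orderOf_eq_prime ((isElementaryAbelian_omegaCenterOf _).2 x hx.1) hx1

omit [Finite G] in
theorem Sit.le_centralizer {x : G} (hx : x ∈ hOf (jOf T) K) :
    K ⊔ jOf T ≤ centralizer ({x} : Set G) :=
  sup_le (fun k hk => mem_centralizer_singleton_iff.mpr (hx.2 k hk))
    fun j hj => mem_centralizer_singleton_iff.mpr ((omegaCenterOf_le _ hx.1).2 j hj)

theorem Sit.centralizer_le {x : G} (hx : x ∈ hOf (jOf T) K) (hx1 : x ≠ 1) :
    centralizer ({x} : Set G) ≤ L :=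
  h.uniq _ (isTwoLocal_centralizer (h.orderOf_h hx hx1)) (h.le_centralizer hx)

include hG in
/-- A conjugation of an element of `H` into `H` lies in `L`. -/
theorem Sit.mem_of_conj {x g : G} (hx : x ∈ hOf (jOf T) K) (hx1 : x ≠ 1)
    (hg : g * x * g⁻¹ ∈ hOf (jOf T) K) : g ∈ L := by
  rw [← maximal_normalizer hG h.max]
  refine PGroup.mem_normalizer_of_map_conj_eq ?_
  set f := (MulAut.conj g).toMonoidHom
  have h1 : (K ⊔ jOf T).map f ≤ L := by
    refine ((map_mono (h.le_centralizer hx)).trans ?_).trans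
      (h.centralizer_le hg fun e => hx1 (conj_eq_one_iff.mp e))
    rw [map_centralizer_singleton]
  have hinv : ∀ X : Subgroup G, (X.map (MulAut.conj g⁻¹).toMonoidHom).map f = X := fun X => by
    rw [Subgroup.map_map]
    convert Subgroup.map_id X using 2
    ext a
    simp [f, mul_assoc]
  have h2 := h.uniq _ (isTwoLocal_map_conj h.max.1 g⁻¹) (by
    rw [← map_le_map_iff_of_injective (show Function.Injective f from (MulAut.conj g).injective),
      hinv]
    exact h1)
  have h3 : L ≤ L.map f := by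
    conv_lhs => rw [← hinv L]
    exact map_mono h2
  exact (eq_of_le_of_card_ge h3 (card_map_of_injective (MulAut.conj g).injective).le).symm

include hG

theorem Sit.setting : Setting T L := by
  obtain ⟨-, hmem⟩ := h.ref.sylow L h.max.1 (fun hLM => h.out (h.k_le.trans hLM)) T h.syl
    (PGroup.thompsonSubgroupOf_le T)
  exact setting_of_mem hG.solv hG.zprop hmem

theorem Sit.normK (hc : omegaCenterOf (jOf T) ≤ omegaCenterOf T) :
    T ≤ normalizer (K : Set G) := by
  obtain ⟨-, hmem⟩ := h.ref.sylow L h.max.1 (fun hLM => h.out (h.k_le.trans hLM)) T h.syl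
    (PGroup.thompsonSubgroupOf_le T)
  have h2 := (card_omega_inf_wOf h.comp h.syl.2.1).1
  obtain ⟨⟨w, hw⟩, hw1, -⟩ := (Nat.card_eq_two_iff' (1 : ↥(omegaCenterOf (jOf T) ⊓ wOf K))).mp h2
  have hne : T ⊓ centralizer (T : Set G) ⊓ wOf K ≠ ⊥ := fun e => hw1 (Subtype.ext
    (mem_bot.mp (e.le ⟨omegaCenterOf_le _ (hc hw.1), hw.2⟩)))
  refine Cfsg.Agent.S2943.result hG.char2 hG.solv hG.zprop T h.syl.2.1 (fun e => ?_) L hmem K
    h.comp h.k_le hne
  rw [e, bot_inf_eq, bot_inf_eq] at hne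
  exact hne rfl

theorem Sit.vtx (hc : omegaCenterOf (jOf T) ≤ omegaCenterOf T)
    (h4 : Nat.card ↥(omegaCenterOf (jOf T)) ≤ 4) : Vtx T L K := by
  have e := le_antisymm (omega_le_z (T := T)) hc
  exact ⟨h.comp, h.normK hG hc, h.syl, h.max, h.le, h.uniq, e, e.symm ▸ h4⟩

/-- An element outside `L` normalizing `Z₀` moves `H` off itself. -/
theorem Sit.h_conj_inf {g : G} (hg : g ∉ L) :
    hOf (jOf T) K ⊓ (hOf (jOf T) K).map (MulAut.conj g).toMonoidHom = ⊥ := by
  refine (eq_bot_iff_forall _).mpr ?_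
  rintro _ ⟨hx, x, hx', rfl⟩
  by_contra h1
  exact hg (h.mem_of_conj hG hx' (fun e => h1 (by rw [e]; exact map_one _)) hx)

theorem Sit.h_le_two {g : G} (hgZ : g ∈ normalizer (omegaCenterOf (jOf T) : Set G))
    (hg : g ∉ L) : Nat.card ↥(hOf (jOf T) K) ≤ 2 := by
  set H := hOf (jOf T) K
  set H' := H.map (MulAut.conj g).toMonoidHom
  have hle : H' ≤ omegaCenterOf (jOf T) := by
    rintro _ ⟨x, hx, rfl⟩
    exact (mem_normalizer_iff.mp hgZ x).mp hx.1
  have hn : H ≤ normalizer (H' : Set G) := fun a ha =>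
    Subgroup.centralizer_le_normalizer _ fun b hb => PGroup.mul_comm_of_elementaryAbelian
      (isElementaryAbelian_omegaCenterOf _) (hle hb) ha.1
  have e := Offender.card_sup_mul_card_inf hn
  rw [h.h_conj_inf hG hg, Subgroup.card_bot, mul_one,
    card_map_of_injective (MulAut.conj g).injective] at e
  have h1 := card_le_of_le (sup_le inf_le_left hle : H ⊔ H' ≤ omegaCenterOf (jOf T))
  rw [e, h.card_z] at h1
  exact Nat.le_of_mul_le_mul_right h1 Nat.card_pos

/-! ### `T` below a Sylow subgroup -/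

variable {S : Sylow 2 G} (hTS : T ≤ (S : Subgroup G))
include hTS

omit hG in
theorem Sit.mem_t {x : G} (hx : x ∈ (S : Subgroup G)) (hxL : x ∈ L) : x ∈ T := by
  have h1 := (sylowTwoIn_iff.mp h.syl).2.2 _ (le_inf hTS h.syl.1) inf_le_right
    (S.2.to_le inf_le_left)
  exact h1.le ⟨hx, hxL⟩

omit hG in
theorem Sit.exists_g (hne : T ≠ S) :
    ∃ g ∈ (S : Subgroup G), g ∈ normalizer (T : Set G) ∧ g ∉ L := by
  obtain ⟨g, hgS, hgT, hgn⟩ := exists_lt_inf_normalizer S.2 hTS hne
  exact ⟨g, hgS, hgn, fun hgL => hgT (h.mem_t hTS hgS hgL)⟩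

variable {g : G} (hgS : g ∈ (S : Subgroup G)) (hgT : g ∈ normalizer (T : Set G)) (hgL : g ∉ L)
include hgS hgT hgL

omit hgS hgT hgL in
theorem Sit.omega_sylow_le : omegaCenterOf (S : Subgroup G) ≤ omegaCenterOf T := by
  intro y hy
  have hyc : ∀ t ∈ T, t * y = y * t := fun t ht => (omegaCenterOf_le _ hy).2 t (hTS ht)
  obtain ⟨-, -, -, -, -, -, -, hWJ, -⟩ := comp_data h.comp h.syl.2.1
  have hyW : y ∈ normalizer (wOf K : Set G) := Subgroup.centralizer_le_normalizer _
    fun w hw => hyc w (PGroup.thompsonSubgroupOf_le T (hWJ hw))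
  have hyL : y ∈ L := h.uniq _ (isTwoLocal_normalizer_wOf h.comp)
    (sup_le le_normalizer_wOf (j_le_normalizer_wOf h.comp)) hyW
  exact mem_omegaCenterOf (h.mem_t hTS (omegaCenterOf_le _ hy).1 hyL) hyc
    ((isElementaryAbelian_omegaCenterOf _).2 y hy)

theorem Sit.lower_facts : Nat.card ↥(omegaCenterOf (jOf T)) ≤ 4 ∧
    (∀ x ∈ omegaCenterOf (S : Subgroup G), g * x * g⁻¹ = x) ∧
    omegaCenterOf (S : Subgroup G) ⊓ hOf (jOf T) K = ⊥ ∧
    Nat.card ↥(omegaCenterOf (S : Subgroup G)) = 2 := by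
  have : Fact (Nat.Prime 2) := ⟨Nat.prime_two⟩
  have h2 := h.h_le_two hG (normalizer_le_normalizer_z T hgT) hgL
  have hZc := h.card_z
  set Z := omegaCenterOf (S : Subgroup G) with hZ
  have hfix : ∀ x ∈ Z, g * x * g⁻¹ = x := fun x hx =>
    mul_inv_eq_iff_eq_mul.mpr ((omegaCenterOf_le _ hx).2 g hgS)
  have hbot : Z ⊓ hOf (jOf T) K = ⊥ := by
    refine (eq_bot_iff_forall _).mpr fun x hx => by_contra fun hx1 => ?_
    exact hgL (h.mem_of_conj hG hx.2 hx1 (by rw [hfix x hx.1]; exact hx.2))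
  refine ⟨by omega, hfix, hbot, ?_⟩
  have hZle : Z ≤ omegaCenterOf (jOf T) := (h.omega_sylow_le hG hTS).trans omega_le_z
  have hn : Z ≤ normalizer (hOf (jOf T) K : Set G) := fun a ha =>
    Subgroup.centralizer_le_normalizer _ fun b hb => PGroup.mul_comm_of_elementaryAbelian
      (isElementaryAbelian_omegaCenterOf _) hb.1 (hZle ha)
  have e := Offender.card_sup_mul_card_inf hn
  rw [hbot, Subgroup.card_bot, mul_one] at e
  have h1 := card_le_of_le (sup_le hZle inf_le_left : Z ⊔ hOf (jOf T) K ≤ omegaCenterOf (jOf T))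
  rw [e, hZc] at h1
  have hle : Nat.card Z ≤ 2 := Nat.le_of_mul_le_mul_right h1 Nat.card_pos
  have hS : (S : Subgroup G) ≠ ⊥ := fun h0 => by
    have := card_omega_inf_wOf h.comp h.syl.2.1
    have hT : omegaCenterOf (jOf T) ⊓ wOf K = ⊥ := le_bot_iff.mp ((inf_le_left.trans
      ((omegaCenterOf_le _).trans inf_le_left)).trans
      ((PGroup.thompsonSubgroupOf_le T).trans (hTS.trans h0.le)))
    rw [hT, Subgroup.card_bot] at this
    omega
  obtain ⟨⟨z, hzS⟩, -, hzc, hz⟩ := PGroup.exists_orderOf_eq_mem_center S.2 ⊤ fun h0 => hS (by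
    refine (eq_bot_iff_forall _).mpr fun x hx => ?_
    have := h0.le (mem_top (⟨x, hx⟩ : ↥(S : Subgroup G)))
    exact congrArg Subtype.val (mem_bot.mp this))
  rw [orderOf_mk] at hz
  have hzZ : z ∈ Z := mem_omegaCenterOf hzS
    (fun t ht => congrArg Subtype.val (mem_center_iff.mp hzc ⟨t, ht⟩))
    (by rw [← hz]; exact pow_orderOf_eq_one z)
  have hge : 1 < Nat.card Z := by
    have : Nontrivial Z := ⟨⟨⟨z, hzZ⟩, 1, fun he => by
      rw [show z = 1 from congrArg Subtype.val he, orderOf_one] at hz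
      omega⟩⟩
    exact Finite.one_lt_card
  omega

theorem Sit.lower_points {x : G} (hx : x ∈ omegaCenterOf (jOf T)) (hx1 : x ≠ 1) :
    x ∈ omegaCenterOf (S : Subgroup G) ∨ x ∈ hOf (jOf T) K ∨
      g⁻¹ * x * g ∈ hOf (jOf T) K := by
  obtain ⟨hc4, hfix, hbot, hZ2⟩ := h.lower_facts hG hTS hgS hgT hgL
  have hZle : omegaCenterOf (S : Subgroup G) ≤ omegaCenterOf (jOf T) :=
    (h.omega_sylow_le hG hTS).trans omega_le_z
  have hcz := h.card_z
  have hpos : 0 < Nat.card ↥(hOf (jOf T) K) := Nat.card_pos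
  rcases (by omega : Nat.card ↥(hOf (jOf T) K) = 1 ∨ Nat.card ↥(hOf (jOf T) K) = 2) with h1 | h1
  · left
    exact (eq_of_le_of_card_ge hZle (by omega)).ge hx
  obtain ⟨⟨z, hz⟩, hz1, -⟩ :=
    (Nat.card_eq_two_iff' (1 : ↥(omegaCenterOf (S : Subgroup G)))).mp hZ2
  obtain ⟨⟨a, ha⟩, ha1, -⟩ := (Nat.card_eq_two_iff' (1 : ↥(hOf (jOf T) K))).mp h1
  have hz1' : z ≠ 1 := fun e => hz1 (Subtype.ext e)
  have ha1' : a ≠ 1 := fun e => ha1 (Subtype.ext e)
  have hb : g * a * g⁻¹ ∈ omegaCenterOf (jOf T) :=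
    (mem_normalizer_iff.mp (normalizer_le_normalizer_z T hgT) a).mp ha.1
  rcases four_cases (by omega : Nat.card ↥(omegaCenterOf (jOf T)) = 4) (hZle hz) ha.1 hb hz1' ha1'
    (fun e => ha1' (conj_eq_one_iff.mp e))
    (fun e => hz1' (mem_bot.mp (hbot.le ⟨hz, e ▸ ha⟩)))
    (fun e => by
      have h5 : a = z := by
        have := (hfix z hz).trans e
        exact (mul_left_cancel (mul_right_cancel this)).symm
      exact hz1' (mem_bot.mp (hbot.le ⟨hz, h5 ▸ ha⟩)))
    (fun e => hgL (h.mem_of_conj hG ha ha1' (e ▸ ha))) hx with rfl | rfl | rfl | rfl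
  · exact absurd rfl hx1
  · exact Or.inl hz
  · exact Or.inr (Or.inl ha)
  · exact Or.inr (Or.inr (by simpa [mul_assoc] using ha))

theorem Sit.lower_central : omegaCenterOf (jOf T) ≤ omegaCenterOf T := by
  have hfix : ∀ x ∈ omegaCenterOf (jOf T), ∀ t ∈ T, t * x = x * t := by
    intro x hx t ht
    by_cases hx1 : x = 1
    · rw [hx1, mul_one, one_mul]
    have hH : ∀ a ∈ hOf (jOf T) K, a ≠ 1 → ∀ t ∈ T, t * a * t⁻¹ = a := by
      intro a ha ha1 t ht
      have hta : t * a * t⁻¹ ∈ omegaCenterOf (jOf T) :=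
        (mem_normalizer_iff.mp (normalizer_le_normalizer_z T (le_normalizer ht)) a).mp ha.1
      have hta1 : t * a * t⁻¹ ≠ 1 := fun e => ha1 (conj_eq_one_iff.mp e)
      rcases h.lower_points hG hTS hgS hgT hgL hta hta1 with h1 | h1 | h1
      · have h2 := (omegaCenterOf_le _ h1).2 t (hTS ht)
        have h3 : a = t * a * t⁻¹ := by
          have := congrArg (fun s => t⁻¹ * s) h2
          simpa [mul_assoc] using this.symm
        obtain ⟨-, hfix', -, -⟩ := h.lower_facts hG hTS hgS hgT hgL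
        exact h3.symm
      · have h2 := h.h_le_two hG (normalizer_le_normalizer_z T hgT) hgL
        have h3 : 1 < Nat.card ↥(hOf (jOf T) K) := by
          have : Nontrivial ↥(hOf (jOf T) K) :=
            ⟨⟨⟨a, ha⟩, 1, fun e => ha1 (congrArg Subtype.val e)⟩⟩
          exact Finite.one_lt_card
        obtain ⟨c, -, huniq⟩ :=
          (Nat.card_eq_two_iff' (1 : ↥(hOf (jOf T) K))).mp (le_antisymm h2 h3)
        exact congrArg Subtype.val (((huniq ⟨_, h1⟩ fun e => hta1 (congrArg Subtype.val e)).trans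
          (huniq ⟨a, ha⟩ fun e => ha1 (congrArg Subtype.val e)).symm :
            (⟨_, h1⟩ : ↥(hOf (jOf T) K)) = ⟨a, ha⟩))
      · refine absurd ?_ hgL
        have h2 : g⁻¹ * t ∈ L := h.mem_of_conj hG ha ha1 (by simpa [mul_assoc] using h1)
        have := mul_mem (h.syl.1 ht) (inv_mem h2)
        simpa [mul_assoc] using this
    rcases h.lower_points hG hTS hgS hgT hgL hx hx1 with h1 | h1 | h1
    · exact (omegaCenterOf_le _ h1).2 t (hTS ht)
    · exact mul_inv_eq_iff_eq_mul.mp (hH x h1 hx1 t ht)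
    · have ht' : g⁻¹ * t * g ∈ T := (mem_normalizer_iff''.mp hgT t).mp ht
      have h5 := hH _ h1 (fun e => hx1 (by
        have := congrArg (fun s => g * s * g⁻¹) e
        simpa [mul_assoc] using this)) _ ht'
      refine mul_inv_eq_iff_eq_mul.mp ?_
      have := congrArg (fun s => g * s * g⁻¹) h5
      simpa [mul_assoc] using this
  intro x hx
  exact mem_omegaCenterOf (PGroup.thompsonSubgroupOf_le T (omegaCenterOf_le _ hx).1)
    (fun t ht => hfix x hx t ht) ((isElementaryAbelian_omegaCenterOf _).2 x hx)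

theorem Sit.lower_vtx : Vtx T L K :=
  h.vtx hG (h.lower_central hG hTS hgS hgT hgL) (h.lower_facts hG hTS hgS hgT hgL).1

theorem Sit.lower_edge : Edge T L K (L.map (MulAut.conj g).toMonoidHom)
    (K.map (MulAut.conj g).toMonoidHom) := by
  have hv := h.lower_vtx hG hTS hgS hgT hgL
  have hgTe : T.map (MulAut.conj g).toMonoidHom = T := PGroup.map_conj_eq_of_mem_normalizer hgT
  have hv' := hv.map_conj g
  rw [hgTe] at hv'
  refine ⟨hv, hv', fun e => hgL ?_, ?_⟩
  · rw [← maximal_normalizer hG h.max]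
    exact PGroup.mem_normalizer_of_map_conj_eq e.symm
  intro x hx hx1
  have e := hv.omega
  rcases h.lower_points hG hTS hgS hgT hgL (e ▸ hx) hx1 with h1 | h1 | h1
  · left
    refine twoClosed_of_sylow S
      (fun s hs => mem_centralizer_singleton_iff.mpr ((omegaCenterOf_le _ h1).2 s hs))
      (fun c hc => hG.zprop S ?_)
    obtain ⟨-, -, -, hZ2⟩ := h.lower_facts hG hTS hgS hgT hgL
    obtain ⟨z, -, huniq⟩ := (Nat.card_eq_two_iff' (1 : ↥(omegaCenterOf (S : Subgroup G)))).mp hZ2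
    intro y hy
    by_cases hy1 : y = 1
    · rw [hy1, one_mul, mul_one]
    · have h5 : (⟨y, hy⟩ : ↥(omegaCenterOf (S : Subgroup G))) = ⟨x, h1⟩ :=
        (huniq _ fun e => hy1 (congrArg Subtype.val e)).trans
          (huniq _ fun e => hx1 (congrArg Subtype.val e)).symm
      rw [show y = x from congrArg Subtype.val h5]
      exact (mem_centralizer_singleton_iff.mp hc).symm
  · exact Or.inr ⟨L, K, hv, hx, h1.2⟩
  · refine Or.inr ⟨_, _, hv', ?_⟩
    have : x ∈ (hOf T K).map (MulAut.conj g).toMonoidHom :=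
      mem_map_conj.mpr ⟨e.symm ▸ h1.1, h1.2⟩
    rw [← hOf_map_conj, hgTe] at this
    exact this

/-- In a Sylow subgroup, `Ω₁Z(T)` has order two or the third case of the centre theorem holds. -/
theorem Sit.lower_index (h4 : Nat.card ↥(omegaCenterOf (jOf T)) = 4) :
    (L ⊓ centralizer (omegaCenterOf (jOf T) : Set G)).relIndex
      (normalizer (omegaCenterOf (jOf T) : Set G)) = 2 := by
  set Z₀ := omegaCenterOf (jOf T) with hZ₀
  have hcz : Nat.card Z₀ = 2 * Nat.card ↥(hOf (jOf T) K) := h.card_z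
  obtain ⟨⟨a, ha⟩, ha1, huniq⟩ := (Nat.card_eq_two_iff' (1 : ↥(hOf (jOf T) K))).mp (by omega)
  have ha1' : a ≠ 1 := fun e => ha1 (Subtype.ext e)
  have hCL : centralizer (Z₀ : Set G) ≤ L :=
    (Subgroup.centralizer_le (Set.singleton_subset_iff.mpr ha.1)).trans (h.centralizer_le ha ha1')
  rw [inf_eq_right.mpr hCL]
  have honly : ∀ y ∈ hOf (jOf T) K, y ≠ 1 → y = a := fun y hy hy1 =>
    congrArg Subtype.val (huniq ⟨y, hy⟩ fun e => hy1 (congrArg Subtype.val e))
  -- the point of `Z(S)` is not conjugate to `a`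
  have hnc : ∀ n y : G, y ∈ omegaCenterOf (S : Subgroup G) → n * a * n⁻¹ ≠ y := by
    intro n y hy hna
    have hcl : TwoClosed (centralizer ({y} : Set G)) := by
      refine twoClosed_of_sylow S
        (fun s hs => mem_centralizer_singleton_iff.mpr ((omegaCenterOf_le _ hy).2 s hs))
        (fun c hc => hG.zprop S ?_)
      obtain ⟨-, -, -, hZ2⟩ := h.lower_facts hG hTS hgS hgT hgL
      obtain ⟨z, -, huniq⟩ := (Nat.card_eq_two_iff' (1 : ↥(omegaCenterOf (S : Subgroup G)))).mp hZ2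
      intro x hx
      by_cases hx1 : x = 1
      · rw [hx1, one_mul, mul_one]
      · have h5 : (⟨x, hx⟩ : ↥(omegaCenterOf (S : Subgroup G))) = ⟨y, hy⟩ :=
          (huniq _ fun e => hx1 (congrArg Subtype.val e)).trans
            (huniq _ fun e => ha1' (conj_eq_one_iff.mp (hna.trans (congrArg Subtype.val e)))).symm
        rw [show x = y from congrArg Subtype.val h5]
        exact (mem_centralizer_singleton_iff.mp hc).symm
    have h6 := hcl.map_conj n⁻¹
    rw [map_centralizer_singleton, ← hna, show n⁻¹ * (n * a * n⁻¹) * n⁻¹⁻¹ = a by group] at h6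
    exact comp_not_closed h.comp h.syl.2.1 (h.le_centralizer ha) h6
  have hga : g * a * g⁻¹ ∈ Z₀ :=
    (mem_normalizer_iff.mp (normalizer_le_normalizer_z T hgT) a).mp ha.1
  have key : ∀ n ∈ normalizer (Z₀ : Set G), n * a * n⁻¹ = a ∨ n * a * n⁻¹ = g * a * g⁻¹ := by
    intro n hn
    rcases h.lower_points hG hTS hgS hgT hgL ((mem_normalizer_iff.mp hn a).mp ha.1)
      (fun e => ha1' (conj_eq_one_iff.mp e)) with h1 | h1 | h1
    · exact absurd rfl (hnc n _ h1)
    · exact Or.inl (honly _ h1 fun e => ha1' (conj_eq_one_iff.mp e))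
    · refine Or.inr ?_
      have h7 := honly _ h1 fun e => ha1' (conj_eq_one_iff.mp (by
        have := congrArg (fun s => g * s * g⁻¹) e
        simpa [mul_assoc] using this))
      have := congrArg (fun s => g * s * g⁻¹) h7
      simpa [mul_assoc] using this
  -- fixing `a` is centralizing
  have hstab : ∀ n ∈ normalizer (Z₀ : Set G), n * a * n⁻¹ = a →
      n ∈ centralizer (Z₀ : Set G) := by
    intro n hn hna x hx
    symm
    refine mul_inv_eq_iff_eq_mul.mp ?_
    by_cases hx1 : x = 1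
    · rw [hx1, mul_one, mul_inv_cancel]
    obtain ⟨z, hz, hz1⟩ : ∃ z ∈ omegaCenterOf (S : Subgroup G), z ≠ 1 := by
      obtain ⟨-, -, -, hZ2⟩ := h.lower_facts hG hTS hgS hgT hgL
      obtain ⟨⟨z, hz⟩, hz1, -⟩ :=
        (Nat.card_eq_two_iff' (1 : ↥(omegaCenterOf (S : Subgroup G)))).mp hZ2
      exact ⟨z, hz, fun e => hz1 (Subtype.ext e)⟩
    obtain ⟨-, hfix, hbot, hZ2⟩ := h.lower_facts hG hTS hgS hgT hgL
    have hzZ₀ : z ∈ Z₀ := omega_le_z ((h.omega_sylow_le hG hTS) hz)
    -- the three involutions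
    have hne : g * a * g⁻¹ ≠ a := fun e => hgL (h.mem_of_conj hG ha ha1' (e.symm ▸ ha))
    have hgb1 : g * a * g⁻¹ ≠ 1 := fun e => ha1' (conj_eq_one_iff.mp e)
    have hcase : ∀ {m : G}, m ∈ Z₀ → m = 1 ∨ m = a ∨ m = g * a * g⁻¹ ∨ m = z := fun hm =>
      four_cases h4 ha.1 hga hzZ₀ ha1' hgb1 hz1 hne.symm
        (fun e => hnc 1 z hz (by rw [e]; group)) (fun e => hnc g z hz e) hm
    have himg : ∀ m ∈ Z₀, n * m * n⁻¹ ∈ Z₀ := fun m hm => (mem_normalizer_iff.mp hn m).mp hm
    have hzf : n * z * n⁻¹ = z := by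
      rcases hcase (himg z hzZ₀) with e | e | e | e
      · exact absurd (conj_eq_one_iff.mp e) hz1
      · have : z = a := mul_left_cancel (mul_right_cancel (e.trans hna.symm))
        exact absurd (show (1 : G) * a * 1⁻¹ = z by rw [this]; group) (hnc 1 z hz)
      · exfalso
        refine hnc (n⁻¹ * g) z hz ?_
        have := congrArg (fun s => n⁻¹ * s * n) e
        simpa [mul_assoc] using this.symm
      · exact e
    have hbf : n * (g * a * g⁻¹) * n⁻¹ = g * a * g⁻¹ := by
      rcases hcase (himg _ hga) with e | e | e | e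
      · exact absurd (conj_eq_one_iff.mp e) hgb1
      · exact absurd (mul_left_cancel (mul_right_cancel (e.trans hna.symm))) hne
      · exact e
      · exact absurd (mul_left_cancel (mul_right_cancel (e.trans hzf.symm))) (hnc g z hz)
    rcases hcase hx with e | e | e | e
    · exact absurd e hx1
    · rw [e]; exact hna
    · rw [e]; exact hbf
    · rw [e]; exact hzf
  have hfixa : ∀ n ∈ centralizer (Z₀ : Set G), n * a * n⁻¹ = a := fun n hn =>
    mul_inv_eq_iff_eq_mul.mpr (hn a ha.1).symm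
  refine Subgroup.index_eq_two_iff.mpr ⟨⟨g, normalizer_le_normalizer_z T hgT⟩, fun n => ?_⟩
  simp only [mem_subgroupOf, Subgroup.coe_mul]
  by_cases hn : (n : G) * a * (n : G)⁻¹ = a
  · refine Or.inr ⟨hstab n n.2 hn, fun h8 => ?_⟩
    have h9 := hfixa _ h8
    rw [show (n : G) * g * a * ((n : G) * g)⁻¹ = n * (g * a * g⁻¹) * (n : G)⁻¹ by group] at h9
    exact hgL (h.mem_of_conj hG ha ha1'
      ((mul_left_cancel (mul_right_cancel (h9.trans hn.symm))).symm ▸ ha))
  · refine Or.inl ⟨hstab _ (mul_mem n.2 (normalizer_le_normalizer_z T hgT)) ?_,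
      fun h8 => hn (hfixa _ h8)⟩
    rw [show (n : G) * g * a * ((n : G) * g)⁻¹ = n * (g * a * g⁻¹) * (n : G)⁻¹ by group]
    rcases key _ (mul_mem n.2 (normalizer_le_normalizer_z T hgT)) with e | e
    · rw [show (n : G) * g * a * ((n : G) * g)⁻¹ = n * (g * a * g⁻¹) * (n : G)⁻¹ by group] at e
      exact e
    · rw [show (n : G) * g * a * ((n : G) * g)⁻¹ = n * (g * a * g⁻¹) * (n : G)⁻¹ by group] at e
      rcases key n n.2 with e' | e'
      · exact absurd e' hn
      · exfalso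
        have := mul_left_cancel (mul_right_cancel (e.trans e'.symm))
        exact hgL (h.mem_of_conj hG ha ha1' (this.symm ▸ ha))

end SitSec

end Cfsg.Agent.JComponent
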