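import Cfsg.Agent.Lib.JComponent.Unique
import Cfsg.Agent.Lib.JComponent.Existence

/-!
# Components with `J(T)` characteristic in the Sylow subgroups of `N(W)`

* `zero_normalizer_eq`: `N(K) = N(W_K)`
* `zero_comp_conj`: `K` is a component for every conjugate of `T` whose `J` normalizes `W_K`
-/

set_option autoImplicit false

namespace Cfsg.Agent.JComponent

open Subgroup LocalStructure
open scoped commutatorElement

universe u

variable {G : Type u} [Group G] [Finite G]

theorem isTwoLocal_normalizer_wOf {T K : Subgroup G} (hK : IsJComponent T K) :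
    IsTwoLocal (normalizer (wOf K : Set G)) := by
  refine ⟨wOf K, IsPGroup.of_card (n := 2) hK.2.2.2.2.1, fun e => ?_, rfl⟩
  have := hK.2.2.2.2.1
  rw [e, Subgroup.card_bot] at this
  omega

theorem j_le_normalizer_wOf {T K : Subgroup G} (hK : IsJComponent T K) :
    jOf T ≤ normalizer (wOf K : Set G) := fun j hj =>
  PGroup.mem_normalizer_of_map_conj_eq (by
    rw [wOf_map_conj, PGroup.map_conj_eq_of_mem_normalizer (comp_le_normalizer hK hj)])

theorem normalizer_le_normalizer_wOf (K : Subgroup G) :
    normalizer (K : Set G) ≤ normalizer (wOf K : Set G) := fun g hg =>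
  PGroup.mem_normalizer_of_map_conj_eq
    (by rw [wOf_map_conj, PGroup.map_conj_eq_of_mem_normalizer hg])

/-- `N(K) = N(W_K)` for a component whose `J(T)` is characteristic in `N(W_K)`. -/
theorem zero_normalizer_eq (hL : IsCharacteristicTwoType G)
    (hN : ∀ N : Subgroup G, IsTwoLocal N → Group.IsSolvable ↥N)
    (hZ : ∀ S : Sylow 2 G, centralizer (omegaCenterOf (S : Subgroup G) : Set G) ≤
      normalizer ((S : Subgroup G) : Set G))
    {T K : Subgroup G} (hT : IsPGroup 2 T) (hK : K ∈ jComponentsZero T) :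
    normalizer (K : Set G) = normalizer (wOf K : Set G) := by
  refine le_antisymm (normalizer_le_normalizer_wOf K) ?_
  obtain ⟨hK, hK0⟩ := hK
  set N := normalizer (wOf K : Set G) with hNdef
  obtain ⟨S, hJS, hS⟩ := exists_sylowTwoIn (isPGroup_j hT) (j_le_normalizer_wOf hK)
  have hJ : jOf S = jOf T := hK0 S hJS hS
  have hKN : K ≤ N := le_normalizer_wOf
  have hmem : N ∈ jOvergroups S := by
    refine ⟨hS, fun hle => ?_, (cen_of_twoLocal hL (isTwoLocal_normalizer_wOf hK)).1⟩
    change jOf S ≤ _ at hle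
    rw [hJ] at hle
    refine (IsJComponent.pre hK).not_isPGroup ((isPGroup_pCoreOf 2 N).to_le ?_)
    conv_lhs => rw [← show ⁅K, jOf T⁆ = K from hK.2.1]
    refine commutator_le.mpr fun k hk j hj => ?_
    rw [commutatorElement_def]
    exact mul_mem (S := Subgroup G)
      ((mem_normalizer_iff.mp (le_normalizer_pCoreOf 2 N (hKN hk)) j).mp (hle hj))
      (inv_mem (hle hj))
  have h := (setting_of_mem hN hZ hmem).comp_normalizer_wOf (isJComponent_congr hK hJ) hKN
  rwa [inf_idem] at h

/-- A component is one for every conjugate of `T` whose `J` normalizes its four-group. -/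
theorem zero_comp_conj (hL : IsCharacteristicTwoType G)
    (hN : ∀ N : Subgroup G, IsTwoLocal N → Group.IsSolvable ↥N)
    (hZ : ∀ S : Sylow 2 G, centralizer (omegaCenterOf (S : Subgroup G) : Set G) ≤
      normalizer ((S : Subgroup G) : Set G))
    {T K : Subgroup G} (hT : IsPGroup 2 T) (hK : K ∈ jComponentsZero T) {g : G}
    (hle : jOf (T.map (MulAut.conj g).toMonoidHom) ≤ normalizer (wOf K : Set G)) :
    IsJComponent (T.map (MulAut.conj g).toMonoidHom) K := by
  have : Fact (Nat.Prime 2) := ⟨Nat.prime_two⟩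
  have hNN := zero_normalizer_eq hL hN hZ hT hK
  obtain ⟨hK, hK0⟩ := hK
  set T' := T.map (MulAut.conj g).toMonoidHom with hT'def
  obtain ⟨S, hJS, hS⟩ := exists_sylowTwoIn (isPGroup_j hT) (j_le_normalizer_wOf hK)
  have hJ : jOf S = jOf T := hK0 S hJS hS
  obtain ⟨S', hJS', hS'⟩ := exists_sylowTwoIn (isPGroup_j (isPGroup_map_conj hT g)) hle
  obtain ⟨n, hn, e⟩ := (sylowTwoIn_iff.mp hS).exists_conj_eq (sylowTwoIn_iff.mp hS')
  obtain ⟨A, hA⟩ := PGroup.exists_isMaxEA (p := 2) T
  obtain ⟨B, hB⟩ := PGroup.exists_isMaxEA (p := 2) S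
  have hAB : Nat.card A = Nat.card B := by
    refine le_antisymm (hB.2.2 A ?_ hA.2.1) (hA.2.2 B ?_ hB.2.1)
    · exact ((PGroup.le_thompsonSubgroupOf hA).trans hJS)
    · refine (PGroup.le_thompsonSubgroupOf hB).trans ?_
      change jOf S ≤ T
      rw [hJ]
      exact PGroup.thompsonSubgroupOf_le T
  have hBn : PGroup.IsMaxEA 2 S' (B.map (MulAut.conj n).toMonoidHom) := e ▸ maxEA_map_conj n hB
  have h1 := j_le_of_card_eq (maxEA_map_conj g hA) hBn
    (by rw [card_map_of_injective (MulAut.conj g).injective,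
      card_map_of_injective (MulAut.conj n).injective, hAB]) hJS'
  have h2 : jOf S' = (jOf T).map (MulAut.conj n).toMonoidHom := by
    rw [← e, ← j_map_conj, hJ]
  have h3 : jOf T' = jOf S' := by
    refine eq_of_le_of_card_ge h1 ?_
    rw [h2, hT'def, ← j_map_conj, card_map_of_injective (MulAut.conj n).injective,
      card_map_of_injective (MulAut.conj g).injective]
  have h4 := isJComponent_map_conj hK n
  rw [PGroup.map_conj_eq_of_mem_normalizer (hNN.ge hn)] at h4
  refine isJComponent_congr h4 ?_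
  rw [h3, h2, j_map_conj]

end Cfsg.Agent.JComponent
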