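import Cfsg.Agent.Lib.JComponent.Existence
import Cfsg.Agent.Lib.JComponent.Zero

/-!
# Maximal straddling 2-subgroups

* `maxElemAbelianOrder_eq`, `straddle_le`, `exists_lt_inf_normalizer`
* `max_normalizer_le`: `N(J(T)) ≤ M`
* `max_sylow`, `max_le`: Sylow subgroups of 2-locals outside `M` containing `J(T)`
* `exists_component_outside`
-/

set_option autoImplicit false

namespace Cfsg.Agent.JComponent

open Subgroup LocalStructure
open scoped commutatorElement

universe u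

variable {G : Type u} [Group G] [Finite G]

theorem maxElemAbelianOrder_eq {T A : Subgroup G} (hA : PGroup.IsMaxEA 2 T A) :
    maxElemAbelianOrder T = Nat.card A := by
  have e : (A.subgroupOf T).map T.subtype = A := map_subgroupOf_eq_of_le hA.1
  have hm : A.subgroupOf T ∈ maxElementaryAbelianSubgroups 2 ↥T :=
    (PGroup.isMaxEA_map_subtype_iff T _).mp (e.symm ▸ hA)
  have hc : Nat.card ↥(A.subgroupOf T) = Nat.card A := Coprime.card_subgroupOf hA.1
  rw [maxElemAbelianOrder, ← hc]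
  refine csSup_eq_of_forall_le_of_forall_lt_exists_gt ⟨_, _, hm, rfl⟩ ?_
    (fun w hw => ⟨_, ⟨_, hm, rfl⟩, hw⟩)
  rintro _ ⟨B, hB, rfl⟩
  exact hm.2 B hB.1

/-- A 2-subgroup properly inside a 2-group is properly inside its normalizer there. -/
theorem exists_lt_inf_normalizer {P Q : Subgroup G} (hP : IsPGroup 2 P) (hle : Q ≤ P)
    (hne : Q ≠ P) : ∃ x ∈ P, x ∉ Q ∧ x ∈ normalizer (Q : Set G) := by
  have : Fact (Nat.Prime 2) := ⟨Nat.prime_two⟩
  have h1 : Q.subgroupOf P ≠ ⊤ := fun e => hne (le_antisymm hle (subgroupOf_eq_top.mp e))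
  obtain ⟨⟨x, hxP⟩, hx1, hx2⟩ := SetLike.exists_of_lt (PGroup.lt_normalizer hP h1)
  refine ⟨x, hxP, hx2, mem_normalizer_iff.mpr fun n => ⟨fun hn => ?_, fun hn => ?_⟩⟩
  · exact (mem_normalizer_iff.mp hx1 ⟨n, hle hn⟩).mp hn
  · have hnP : n ∈ P := by
      simpa [mul_assoc] using mul_mem (mul_mem (inv_mem hxP) (hle hn)) hxP
    exact (mem_normalizer_iff.mp hx1 ⟨n, hnP⟩).mpr hn

variable {M T : Subgroup G} (hT : T ∈ maxStraddlingTwoSubgroups M)
include hT

theorem j_ne_bot : jOf T ≠ ⊥ := by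
  have : Fact (Nat.Prime 2) := ⟨Nat.prime_two⟩
  refine PGroup.thompsonSubgroupOf_ne_bot ?_
  obtain ⟨n, hn⟩ := IsPGroup.iff_card.mp hT.1.1
  rcases n with _ | n
  · exact absurd (card_eq_one.mp (by simpa using hn)) hT.1.2.1
  · exact hn ▸ dvd_pow_self 2 (Nat.succ_ne_zero n)

/-- A straddling subgroup containing `J(T)` has the same `J` and is no larger. -/
theorem straddle_le {P : Subgroup G} (hP : P ∈ straddlingTwoSubgroups M) (hJ : jOf T ≤ P) :
    jOf P = jOf T ∧ Nat.card P ≤ Nat.card T := by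
  obtain ⟨A, hA⟩ := PGroup.exists_isMaxEA (p := 2) T
  obtain ⟨B, hB⟩ := PGroup.exists_isMaxEA (p := 2) P
  obtain ⟨h1, h2⟩ := hT.2 P hP
  rw [maxElemAbelianOrder_eq hA, maxElemAbelianOrder_eq hB] at h1 h2
  have e : Nat.card B = Nat.card A :=
    le_antisymm h1 (hB.2.2 A ((PGroup.le_thompsonSubgroupOf hA).trans hJ) hA.2.1)
  obtain ⟨h3, h4⟩ := h2 e
  have h5 := eq_of_le_of_card_ge (j_le_of_card_eq hA hB e.symm hJ) h3
  exact ⟨h5.symm, h4 (by rw [show thompsonSubgroupOf 2 P = jOf T from h5.symm])⟩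

theorem max_normalizer_le (S : Sylow 2 G)
    (hMJ : normalizer (jOf (S : Subgroup G) : Set G) ≤ M) :
    normalizer (jOf T : Set G) ≤ M := by
  have : Fact (Nat.Prime 2) := ⟨Nat.prime_two⟩
  by_contra hcon
  have hTN : T ≤ normalizer (jOf T : Set G) :=
    le_normalizer.trans (PGroup.normalizer_le_normalizer_thompsonOf T)
  -- `T` is a Sylow subgroup of `M`
  obtain ⟨P, hTP, hP⟩ := exists_sylowTwoIn hT.1.1 hT.1.2.2.1
  have hTPeq : T = P := by
    by_contra hne
    obtain ⟨x, hxP, hxT, hxn⟩ := exists_lt_inf_normalizer hP.2.1 hTP hne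
    set Q := T ⊔ zpowers x with hQ
    have hQP : Q ≤ P := sup_le hTP (zpowers_le.mpr hxP)
    have hQN : Q ≤ normalizer (jOf T : Set G) :=
      sup_le hTN (zpowers_le.mpr (PGroup.normalizer_le_normalizer_thompsonOf T hxn))
    have hQs : Q ∈ straddlingTwoSubgroups M := ⟨hP.2.1.to_le hQP,
      fun e => hT.1.2.1 (le_bot_iff.mp (e ▸ (le_sup_left : T ≤ Q))), hQP.trans hP.1,
      normalizer (jOf T : Set G), ⟨jOf T, isPGroup_j hT.1.1, j_ne_bot hT, rfl⟩, hQN, hcon⟩
    have h := (straddle_le hT hQs ((PGroup.thompsonSubgroupOf_le T).trans le_sup_left)).2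
    exact hxT ((eq_of_le_of_card_ge (le_sup_left : T ≤ Q) h).ge (mem_sup_right (mem_zpowers x)))
  have hSM : (S : Subgroup G) ≤ M :=
    (le_normalizer.trans (PGroup.normalizer_le_normalizer_thompsonOf _)).trans hMJ
  have hS : IsSylowTwoIn (S : Subgroup G) M :=
    sylowTwoIn_iff.mpr (isSylowIn_of_sylow S hSM)
  obtain ⟨m, hm, e⟩ := (sylowTwoIn_iff.mp hS).exists_conj_eq (sylowTwoIn_iff.mp (hTPeq ▸ hP))
  refine hcon fun g hg => ?_
  rw [← e, ← j_map_conj] at hg
  have h1 : m⁻¹ * g * m ∈ normalizer (jOf (S : Subgroup G) : Set G) := by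
    refine PGroup.mem_normalizer_of_map_conj_eq ?_
    refine map_injective (f := (MulAut.conj m).toMonoidHom) (MulAut.conj m).injective ?_
    rw [Subgroup.map_map]
    refine Eq.trans ?_ (PGroup.map_conj_eq_of_mem_normalizer hg)
    rw [Subgroup.map_map]
    congr 1
    ext v
    simp [mul_assoc]
  have h2 := mul_mem (mul_mem hm (hMJ h1)) (inv_mem hm)
  simpa [mul_assoc] using h2

variable (hMJT : normalizer (jOf T : Set G) ≤ M)
include hMJT

/-- Sylow subgroups of 2-locals outside `M` which contain `J(T)`. -/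
theorem max_sylow (hL : IsCharacteristicTwoType G) {L : Subgroup G} (hL2 : IsTwoLocal L)
    (hLM : ¬ L ≤ M) {T₀ : Subgroup G} (hT₀ : IsSylowTwoIn T₀ L) (hJ : jOf T ≤ T₀) :
    jOf T₀ = jOf T ∧ T₀ ∈ straddlingTwoSubgroups M ∧ L ∈ jOvergroups T₀ := by
  have hJM : jOf T ≤ M := (PGroup.thompsonSubgroupOf_le T).trans hT.1.2.2.1
  have hst : M ⊓ T₀ ∈ straddlingTwoSubgroups M := ⟨hT₀.2.1.to_le inf_le_right,
    fun e => j_ne_bot hT (le_bot_iff.mp (e ▸ le_inf hJM hJ)), inf_le_left,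
    L, hL2, inf_le_right.trans hT₀.1, hLM⟩
  have hJ₁ := (straddle_le hT hst (le_inf hJM hJ)).1
  have hT₀M : M ⊓ T₀ = T₀ := by
    by_contra hne
    obtain ⟨x, hx, hxn, hxN⟩ := exists_lt_inf_normalizer hT₀.2.1 inf_le_right hne
    refine hxn ⟨hMJT ?_, hx⟩
    rw [← hJ₁]
    exact PGroup.normalizer_le_normalizer_thompsonOf _ hxN
  rw [hT₀M] at hst hJ₁
  refine ⟨hJ₁, hst, hT₀, fun hle => hLM ?_, (cen_of_twoLocal hL hL2).1⟩
  change jOf T₀ ≤ _ at hle
  have e : jOf (pCoreOf 2 L) = jOf T₀ :=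
    PGroup.thompsonSubgroupOf_eq_of_le hle (sylowTwoIn_iff.mp hT₀).pCoreOf_le
  rw [hJ₁] at e
  calc L ≤ normalizer (pCoreOf 2 L : Set G) := le_normalizer_pCoreOf 2 L
    _ ≤ normalizer (jOf (pCoreOf 2 L) : Set G) := PGroup.normalizer_le_normalizer_thompsonOf _
    _ ≤ M := by rw [e]; exact hMJT

theorem max_mem_jOvergroups (hL : IsCharacteristicTwoType G) {L : Subgroup G}
    (hL2 : IsTwoLocal L) (hLM : ¬ L ≤ M) (hTL : T ≤ L) : L ∈ jOvergroups T := by
  obtain ⟨T', hTT', hT'⟩ := exists_sylowTwoIn hT.1.1 hTL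
  have hJ := (PGroup.thompsonSubgroupOf_le (p := 2) T).trans hTT'
  obtain ⟨-, hs, hj⟩ := max_sylow hT hMJT hL hL2 hLM hT' hJ
  rwa [← eq_of_le_of_card_ge hTT' (straddle_le hT hs hJ).2] at hj

theorem exists_component_outside (hL : IsCharacteristicTwoType G)
    (hN : ∀ N : Subgroup G, IsTwoLocal N → Group.IsSolvable ↥N)
    (hZ : ∀ S : Sylow 2 G, centralizer (omegaCenterOf (S : Subgroup G) : Set G) ≤
      normalizer ((S : Subgroup G) : Set G)) :
    (jComponentsOutside M T).Nonempty := by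
  have : Fact (Nat.Prime 2) := ⟨Nat.prime_two⟩
  obtain ⟨L, hL2, hTL, hLM⟩ := hT.1.2.2.2
  have h := setting_of_mem hN hZ (max_mem_jOvergroups hT hMJT hL hL2 hLM hTL)
  obtain ⟨K, hK, hKL, hKM⟩ : ∃ K, IsJComponent T K ∧ K ≤ L ∧ ¬ K ≤ M := by
    by_contra hcon
    push Not at hcon
    have hJM : jOf T ≤ M := (PGroup.thompsonSubgroupOf_le T).trans hT.1.2.2.1
    have hCM : cOf L ≤ M :=
      (h.centr.trans (PGroup.normalizer_le_normalizer_thompsonOf T)).trans hMJT
    have hR : rOf L ≤ M := by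
      refine h.rOf_le_closure.trans (sup_le ((closure_le _).mpr ?_) hCM)
      rintro x ⟨W, hW⟩
      obtain ⟨K, hK, hKL, hx⟩ := h.exists_component hW
      exact sup_le (hcon K hK hKL) hCM hx
    have hjL : jOf L ≤ M := h.jOf_le.trans (sup_le hR hJM)
    refine hLM ?_
    obtain ⟨Q, hQ⟩ := h.exists_sylow
    have hsol := h.sol
    have hn : ((jOf L).subgroupOf L).Normal :=
      (normal_subgroupOf_iff_le_normalizer (PGroup.thompsonSubgroupOf_le L)).mpr h.le_normalizer_jOf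
    have hle : thompsonSubgroupOf 2 (Q : Subgroup ↥L) ≤ (jOf L).subgroupOf L := fun q hq =>
      h.j_le_jOf ((h.jOf_subgroupOf hQ).le ⟨q, hq, rfl⟩)
    have htop := congrArg (Subgroup.map L.subtype)
      (Offender.sup_normalizer_thompson_eq_top Q ((jOf L).subgroupOf L) hle)
    rw [Subgroup.map_sup, ← MonoidHom.range_eq_map, range_subtype] at htop
    refine htop.ge.trans (sup_le ((map_le_iff_le_comap.mpr fun _ hx => hjL hx)) ?_)
    refine (le_normalizer_map L.subtype).trans ?_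
    rw [h.jOf_subgroupOf hQ]
    exact hMJT
  refine ⟨K, ⟨hK, fun S' hJS' hS' => ?_⟩, hKM, fun hbot => ?_⟩
  · have hNM : ¬ normalizer (wOf K : Set G) ≤ M := fun hle => hKM (le_normalizer_wOf.trans hle)
    exact (max_sylow hT hMJT hL (isTwoLocal_normalizer_wOf hK) hNM hS' hJS').1
  · refine (cen_of_twoLocal hL hL2).2 (le_bot_iff.mp (hbot ▸ ?_))
    exact le_pCoreOf (h.pCore_le.trans le_sup_right)
      ((sup_le hKL h.syl.1).trans (le_normalizer_pCoreOf 2 L)) (isPGroup_pCoreOf 2 L)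

end Cfsg.Agent.JComponent
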