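import Cfsg.Agent.Lib.JComponent.Clique
import Cfsg.Agent.Lib.JComponent.Center

/-!
# Vertices: a component with `|Z₀| ≤ 4` normalized by `T`

`Vtx T L K`: `K` is a `J(T)`-component normalized by `T`, `L` the maximal 2-local subgroup of
`K J(T)`, with `T` Sylow, `Ω₁Z(T) = Ω₁Z(J(T))` of order at most four. For `P := N(W) ∩ C(H)`,
`H := C_{Z₀}(K)`: `W` is the only plane of `P`, `vOf P = W Z₀`, `|T : O₂P| = 2`, and
`C(h) = P` for `1 ≠ h ∈ H`.
-/

set_option autoImplicit false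
set_option synthInstance.maxSize 512

namespace Cfsg.Agent.JComponent

open Subgroup LocalStructure
open scoped commutatorElement

universe u

variable {G : Type u} [Group G] [Finite G]

/-- The standing hypotheses. -/
structure ZN (G : Type u) [Group G] : Prop where
  char2 : IsCharacteristicTwoType G
  solv : ∀ N : Subgroup G, IsTwoLocal N → Group.IsSolvable ↥N
  zprop : ∀ S : Sylow 2 G, centralizer (omegaCenterOf (S : Subgroup G) : Set G) ≤
    normalizer ((S : Subgroup G) : Set G)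

/-- `C_{Z₀}(K)`. -/
def hOf (T K : Subgroup G) : Subgroup G := omegaCenterOf T ⊓ centralizer (K : Set G)

/-- `Z₀ ∩ W`. -/
def lineOf (T K : Subgroup G) : Subgroup G := omegaCenterOf T ⊓ wOf K

/-- `N(W) ∩ C(H)`. -/
def pOf (T K : Subgroup G) : Subgroup G :=
  normalizer (wOf K : Set G) ⊓ centralizer (hOf T K : Set G)

/-- A component normalized by `T` with small `Ω₁Z(T) = Ω₁Z(J(T))`. -/
structure Vtx (T L K : Subgroup G) : Prop where
  comp : IsJComponent T K
  norm : T ≤ normalizer (K : Set G)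
  syl : IsSylowTwoIn T L
  max : IsMaximalTwoLocal L
  le : K ⊔ jOf T ≤ L
  uniq : ∀ X : Subgroup G, IsTwoLocal X → K ⊔ jOf T ≤ X → X ≤ L
  omega : omegaCenterOf T = omegaCenterOf (jOf T)
  four : Nat.card ↥(omegaCenterOf T) ≤ 4

/-! ### Generalities -/

theorem mem_centralizer_zpowers {x g : G} (hx : orderOf x = 2)
    (hg : g ∈ normalizer (zpowers x : Set G)) : g ∈ centralizer ({x} : Set G) := by
  obtain ⟨i, hi⟩ := mem_zpowers_iff.mp ((mem_normalizer_iff.mp hg x).mp (mem_zpowers x))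
  have hx2 : x ^ (2 : ℤ) = 1 := by
    rw [show (2 : ℤ) = ((2 : ℕ) : ℤ) from rfl, zpow_natCast, ← hx, pow_orderOf_eq_one]
  rcases Int.even_or_odd i with ⟨j, rfl⟩ | ⟨j, rfl⟩
  · rw [← two_mul, zpow_mul, hx2, one_zpow] at hi
    rw [conj_eq_one_iff.mp hi.symm, orderOf_one] at hx
    omega
  · rw [zpow_add, zpow_mul, hx2, one_zpow, one_mul, zpow_one] at hi
    exact mem_centralizer_singleton_iff.mpr (mul_inv_eq_iff_eq_mul.mp hi.symm)

/-- The centralizer of an involution is 2-local. -/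
theorem isTwoLocal_centralizer {x : G} (hx : orderOf x = 2) :
    IsTwoLocal (centralizer ({x} : Set G)) := by
  refine ⟨zpowers x, IsPGroup.of_card (n := 1) (by rw [Nat.card_zpowers, hx, pow_one]),
    fun e => ?_, le_antisymm (fun g hg => ?_) fun g hg => mem_centralizer_zpowers hx hg⟩
  · rw [zpowers_eq_bot.mp e, orderOf_one] at hx
    omega
  · refine Subgroup.centralizer_le_normalizer _ ?_
    rintro _ ⟨i, rfl⟩
    exact ((show Commute g x from mem_centralizer_singleton_iff.mp hg).zpow_right i).symm.eq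

omit [Finite G] in
theorem fpf_two_pow {W : Subgroup G} (hW4 : Nat.card W = 4) {g : G} (hg : Fpf W g) (k : ℕ) :
    Fpf W (g ^ 2 ^ k) := by
  obtain ⟨ρ, hk, hfix⟩ := exists_perm hW4
  set g' : ↥(normalizer (W : Set G)) := ⟨g, hg.1⟩
  refine ⟨pow_mem hg.1 _, fun w hw hc => hg.2 w hw ?_⟩
  have h3 : g ^ 3 ∈ centralizer (W : Set G) := by
    refine (hk (g' ^ 3)).mp ?_
    have hno : ∀ i, ρ g' i ≠ i := fun i hi => by
      obtain ⟨w, hw, hw1, hc⟩ := (hfix g').mp ⟨i, hi⟩
      exact hw1 (hg.2 w hw hc.symm)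
    rw [map_pow]
    generalize ρ g' = σ at hno
    revert σ; decide +kernel
  obtain ⟨a, b, e⟩ : ∃ a b : ℤ, (2 ^ k : ℕ) * a + (3 : ℤ) * b = 1 :=
    ⟨_, _, ((Nat.gcd_eq_gcd_ab (2 ^ k) 3).symm.trans (by
      rw [((by norm_num : Nat.Coprime 2 3).pow_left k)]; rfl))⟩
  rw [← zpow_one g, ← e, zpow_add, zpow_mul, zpow_mul, zpow_natCast]
  refine (hc.zpow_right a).mul_right (Commute.zpow_right ?_ b)
  rw [show (3 : ℤ) = ((3 : ℕ) : ℤ) from rfl, zpow_natCast]
  exact h3 w hw

omit [Finite G] in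
/-- The product of two different transvections is fixed-point-free. -/
theorem fpf_mul {W : Subgroup G} (hW4 : Nat.card W = 4) {a b : G}
    (ha : a ∈ normalizer (W : Set G)) (hb : b ∈ normalizer (W : Set G))
    (hac : a ∉ centralizer (W : Set G)) (hbc : b ∉ centralizer (W : Set G))
    (ha2 : a ^ 2 ∈ centralizer (W : Set G)) (hb2 : b ^ 2 ∈ centralizer (W : Set G))
    (hab : a⁻¹ * b ∉ centralizer (W : Set G)) : Fpf W (a * b) := by
  obtain ⟨ρ, hk, hfix⟩ := exists_perm hW4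
  set a' : ↥(normalizer (W : Set G)) := ⟨a, ha⟩
  set b' : ↥(normalizer (W : Set G)) := ⟨b, hb⟩
  refine ⟨mul_mem ha hb, fun w hw hc => by_contra fun hw1 => ?_⟩
  obtain ⟨i, hi⟩ := (hfix (a' * b')).mpr ⟨w, hw, hw1, hc.symm⟩
  have h1 : ρ a' ≠ 1 := fun h => hac ((hk a').mp h)
  have h2 : ρ b' ≠ 1 := fun h => hbc ((hk b').mp h)
  have h3 : ρ (a' ^ 2) = 1 := (hk _).mpr ha2
  have h4 : ρ (b' ^ 2) = 1 := (hk _).mpr hb2
  have h5 : ρ (a'⁻¹ * b') ≠ 1 := fun h => hab ((hk (a'⁻¹ * b')).mp h)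
  simp only [map_pow, map_mul, map_inv] at hi h3 h4 h5
  generalize ρ a' = σ at h1 h3 h5 hi
  generalize ρ b' = τ at h2 h4 h5 hi
  revert σ τ i; decide +kernel

/-- An element of `vOf L` centralizing `J(T)` lies in `Ω₁Z(J(T))`. -/
theorem Setting.mem_omega {T L : Subgroup G} (h : Setting T L) {v : G} (hv : v ∈ vOf L)
    (hc : v ∈ centralizer (jOf T : Set G)) : v ∈ omegaCenterOf (jOf T) := by
  obtain ⟨A, hA⟩ := PGroup.exists_isMaxEA (p := 2) T
  have hv2 : v ^ 2 = 1 := (isElementaryAbelian_omegaCenterOf _).2 v hv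
  refine mem_omegaCenterOf (PGroup.le_thompsonSubgroupOf hA
    (PGroup.omegaOne_centralizer_le_of_isMaxEA hA ?_)) hc hv2
  exact PGroup.mem_omegaOne_of_pow_eq_one
    ⟨h.pCore_le (vOf_le L hv), fun a ha => hc a (PGroup.le_thompsonSubgroupOf hA ha)⟩ hv2

theorem PlaneIn.map_conj {L : Subgroup G} {x g : G} {W : Subgroup G} (hp : PlaneIn L x W)
    (hg : g ∈ L) : PlaneIn L (g * x * g⁻¹) (W.map (MulAut.conj g).toMonoidHom) where
  mem := (mem_normalizer_iff.mp (le_normalizer_rOf L hg) x).mp hp.mem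
  le := by
    rintro _ ⟨w, hw, rfl⟩
    exact (mem_normalizer_iff.mp (le_normalizer_vOf L hg) w).mp (hp.le hw)
  card := by rw [card_map_of_injective (MulAut.conj g).injective, hp.card]
  comm := fun v hv => by
    refine ⟨_, hp.comm _ ((mem_normalizer_iff''.mp (le_normalizer_vOf L hg) v).mp hv), ?_⟩
    simp only [MulEquiv.toMonoidHom_eq_coe, MonoidHom.coe_coe, MulAut.conj_apply,
      commutatorElement_def]
    group
  fpf := by
    refine ⟨le_normalizer_map _ ⟨x, hp.fpf.1, rfl⟩, ?_⟩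
    rintro _ ⟨w, hw, rfl⟩ hc
    have hc' : Commute w x := by
      have := hc.map (MulAut.conj g⁻¹).toMonoidHom
      simpa [mul_assoc] using this
    rw [hp.fpf.2 w hw hc']
    exact map_one _

/-- `vOf L` is the planes times the centralizer of `J(L)`. -/
theorem Setting.vOf_le_of_planes {T L Y : Subgroup G} (h : Setting T L)
    (hY : ∀ x W, PlaneIn L x W → W ≤ Y) :
    vOf L ≤ Y ⊔ (vOf L ⊓ centralizer (jOf L : Set G)) := by
  intro v hv
  set V' := (vOf L).subgroupOf L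
  have hsep := h.hsep
  have hg := whole_gen V' hsep (vOf_subgroupOf_isElementaryAbelian L) h.hO
  set Q := (((Y ⊔ (vOf L ⊓ centralizer (jOf L : Set G))).subgroupOf L).subgroupOf V').map
    (Offender.ofV V')
  suffices hle : Offender.modelV V' ≤ Q from
    (mem_model_iff V' (v := ⟨⟨v, vOf_le_self L hv⟩, hv⟩)).mp (hle ⟨_, rfl⟩)
  rw [← hg.plane_sup_eq]
  refine sup_le ?_ (iSup₂_le fun E hE => ?_)
  · rintro _ ⟨⟨w, rfl⟩, hw⟩
    refine (mem_model_iff V').mpr (mem_sup_right ⟨w.2, fun j hj => ?_⟩)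
    obtain ⟨j', hj', rfl⟩ := hj
    have h1 := (commute_toModel_iff V' j' w).mp (hw _ ⟨j', hj', rfl⟩).symm
    exact congrArg Subtype.val h1.symm.eq
  · obtain ⟨x, hx, -⟩ := gen_exists_plane_elt hg hE
    obtain ⟨g, -, rfl⟩ := Offender.qcore_le hx.mem
    have hp := PlaneIn.of_plane (Plane.of_isPlane V' hx)
    intro e he
    obtain ⟨w, rfl⟩ := hx.le he
    refine (mem_model_iff V').mpr (mem_sup_left (hY _ _ hp ?_))
    exact ⟨(w : ↥L), ⟨w, he, rfl⟩, rfl⟩

/-! ### Vertices -/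

section VtxSec

variable {T L K : Subgroup G} (v : Vtx T L K)
include v

theorem Vtx.w4 : Nat.card (wOf K) = 4 := v.comp.2.2.2.2.1

theorem Vtx.t_normW : T ≤ normalizer (wOf K : Set G) := v.norm.trans le_normalizer_wOf'

theorem Vtx.t_comm_z {t z : G} (ht : t ∈ T) (hz : z ∈ omegaCenterOf T) : Commute t z :=
  (omegaCenterOf_le _ hz).2 t ht

theorem Vtx.k_le_p : K ≤ pOf T K :=
  le_inf le_normalizer_wOf fun _ hk _ hh => (hh.2 _ hk).symm

theorem Vtx.t_le_p : T ≤ pOf T K :=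
  le_inf v.t_normW fun _ ht _ hh => (v.t_comm_z ht hh.1).symm.eq

theorem Vtx.normW_le : normalizer (wOf K : Set G) ≤ L :=
  v.uniq _ (isTwoLocal_normalizer_wOf v.comp)
    (sup_le le_normalizer_wOf (j_le_normalizer_wOf v.comp))

theorem Vtx.p_le : pOf T K ≤ L := inf_le_left.trans v.normW_le

theorem Vtx.syl_of_le {X : Subgroup G} (hTX : T ≤ X) (hXL : X ≤ L) : IsSylowTwoIn T X :=
  ⟨hTX, v.syl.2.1, v.syl.2.2.of_dvd_nat (Dvd.intro _ (relIndex_mul_relIndex T X L hTX hXL))⟩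

/-- A subgroup between `K T` and a 2-local subgroup of `L` has a setting. -/
theorem Vtx.setting_of (hG : ZN G) {X N : Subgroup G} (hN : IsTwoLocal N) (hXN : X ≤ N)
    (hNL : N ≤ L) (hKX : K ≤ X) (hTX : T ≤ X) : Setting T X := by
  have : Fact (Nat.Prime 2) := ⟨Nat.prime_two⟩
  refine setting_of_mem hG.solv hG.zprop ⟨v.syl_of_le hTX (hXN.trans hNL), fun hle => ?_, ?_⟩
  · refine (IsJComponent.pre v.comp).not_isPGroup ((isPGroup_pCoreOf 2 X).to_le ?_)
    conv_lhs => rw [← show ⁅K, jOf T⁆ = K from v.comp.2.1]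
    refine commutator_le.mpr fun k hk j hj => ?_
    rw [commutatorElement_def]
    exact mul_mem (S := Subgroup G)
      ((mem_normalizer_iff.mp (le_normalizer_pCoreOf 2 X (hKX hk)) j).mp (hle hj))
      (inv_mem (hle hj))
  · have hQ : pCoreOf 2 N ≤ pCoreOf 2 X :=
      le_pCoreOf ((sylowTwoIn_iff.mp (v.syl_of_le (hTX.trans hXN) hNL)).pCoreOf_le.trans hTX)
        (hXN.trans (le_normalizer_pCoreOf 2 N)) (isPGroup_pCoreOf 2 N)
    exact (centralizer_le (SetLike.coe_subset_coe.mpr hQ)).trans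
      ((cen_of_twoLocal hG.char2 hN).1.trans hQ)

theorem Vtx.setting (hG : ZN G) : Setting T (pOf T K) :=
  v.setting_of hG (isTwoLocal_normalizer_wOf v.comp) inf_le_left v.normW_le v.k_le_p v.t_le_p

theorem Vtx.line_card : Nat.card ↥(lineOf T K) = 2 := by
  rw [lineOf, v.omega]
  exact (card_omega_inf_wOf v.comp v.syl.2.1).1

theorem Vtx.exists_y : ∃ y ∈ K, orderOf y = 3 ∧ y ∉ pCoreOf 2 K ∧ Fpf (wOf K) y := by
  obtain ⟨y, hy, h3, hO⟩ := (IsJComponent.pre v.comp).exists_three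
  exact ⟨y, hy, h3, hO, (IsJComponent.pre v.comp).fpf hy hO⟩

theorem Vtx.h_inf : hOf T K ⊓ wOf K = ⊥ := by
  obtain ⟨y, hy, -, -, hf⟩ := v.exists_y
  exact (eq_bot_iff_forall _).mpr fun w hw => hf.2 w hw.2 ((hw.1.2 y hy).symm : Commute w y)

theorem Vtx.z_eq : hOf T K ⊔ lineOf T K = omegaCenterOf T := by
  refine le_antisymm (sup_le inf_le_left inf_le_left) fun z hz => ?_
  obtain ⟨f, w, hf, hw, rfl⟩ := omega_decompose v.comp v.syl.2.1 (z := z) (v.omega ▸ hz)
  refine mul_mem (mem_sup_left ⟨v.omega ▸ hf.1, ?_⟩) (mem_sup_right ⟨v.omega ▸ hw.1, hw.2⟩)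
  exact centralizer_le (SetLike.coe_subset_coe.mpr le_sup_left) hf.2.2

theorem Vtx.card_z : Nat.card ↥(omegaCenterOf T) = 2 * Nat.card ↥(hOf T K) := by
  have hn : hOf T K ≤ normalizer (lineOf T K : Set G) := fun a ha =>
    Subgroup.centralizer_le_normalizer _ fun b hb => PGroup.mul_comm_of_elementaryAbelian
      (isElementaryAbelian_omegaCenterOf T) hb.1 ha.1
  have e := Offender.card_sup_mul_card_inf hn
  have hbot : hOf T K ⊓ lineOf T K = ⊥ :=
    le_bot_iff.mp ((inf_le_inf_left _ inf_le_right).trans v.h_inf.le)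
  rw [hbot, Subgroup.card_bot, mul_one, v.z_eq, v.line_card] at e
  rw [e, mul_comm]

theorem Vtx.h_card : Nat.card ↥(hOf T K) ≤ 2 := by
  have := v.card_z
  have := v.four
  omega

/-- An element of `Z₀` commuting with a fixed-point-free element of `N(W) ∩ C(H)` lies in `H`. -/
theorem Vtx.mem_h {z g : G} (hz : z ∈ omegaCenterOf T) (hg : g ∈ pOf T K)
    (hf : Fpf (wOf K) g) (hc : Commute z g) : z ∈ hOf T K := by
  have hn : hOf T K ≤ normalizer (lineOf T K : Set G) := fun a ha =>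
    Subgroup.centralizer_le_normalizer _ fun b hb => PGroup.mul_comm_of_elementaryAbelian
      (isElementaryAbelian_omegaCenterOf T) hb.1 ha.1
  rw [← v.z_eq] at hz
  obtain ⟨f, hfm, w, hw, rfl⟩ := (Coprime.mem_sup_iff_of_le_normalizer hn).mp hz
  have h1 : Commute w g := by
    have := (show Commute f g from hg.2 f hfm).inv_left.mul_left hc
    rwa [inv_mul_cancel_left] at this
  rw [hf.2 w hw.2 h1, mul_one]
  exact hfm

/-- `W` is the only plane of a subgroup centralizing `H`. -/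
theorem Vtx.plane_unique {X : Subgroup G} (hs : Setting T X) (hKX : K ≤ X)
    (hX : X ≤ centralizer (hOf T K : Set G)) {x : G} {W' : Subgroup G}
    (hp : PlaneIn X x W') : W' = wOf K := by
  obtain ⟨y, hy, -, hyO, hfy⟩ := v.exists_y
  obtain ⟨h1, -, -, h4⟩ := hs.comp_facts v.comp hKX
  have hpy := (h4 y hy hyO).2
  have hyW' : y ∈ normalizer (W' : Set G) := hs.jOf_le_normalizer_plane hp (h1 hy)
  by_cases hne : W' ⊓ wOf K = ⊥
  swap
  · have e : W' ⊓ wOf K = wOf K := eq_of_le_four v.w4 inf_le_right hne hfy fun w hw =>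
      ⟨(mem_normalizer_iff.mp hyW' w).mp hw.1, (mem_normalizer_iff.mp hfy.1 w).mp hw.2⟩
    exact (eq_of_le_of_card_ge (inf_eq_right.mp e) (by rw [hp.card, v.w4])).symm
  exfalso
  have hcy : ∀ w ∈ W', Commute w y := fun w hw => by
    refine commutatorElement_eq_one_iff_mul_comm.mp (mem_bot.mp (hne.le ⟨?_, hpy.comm w (hp.le hw)⟩))
    rw [commutatorElement_def, show w * y * w⁻¹ * y⁻¹ = w * (y * w⁻¹ * y⁻¹) by group]
    exact mul_mem hw ((mem_normalizer_iff.mp hyW' _).mp (inv_mem hw))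
  have hJW' : jOf T ≤ normalizer (W' : Set G) :=
    hs.j_le_jOf.trans (hs.jOf_le_normalizer_plane hp)
  obtain ⟨a, ha, ha1⟩ : ∃ a ∈ W' ⊓ centralizer (jOf T : Set G), a ≠ 1 := by
    refine ((Subgroup.bot_or_exists_ne_one _).resolve_left fun e => ?_)
    have h2 : Nat.card ↥(W' ⊓ centralizer (jOf T : Set G)) ≠ 1 := by
      by_cases hc : jOf T ≤ centralizer (W' : Set G)
      · rw [inf_eq_left.mpr (le_centralizer_iff.mp hc), hp.card]
        omega
      · obtain ⟨j, hj, hjc⟩ := SetLike.not_le_iff_exists.mp hc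
        rw [card_fix_eq_two hp.card (isPGroup_j v.syl.2.1) hJW' hj hjc]
        omega
    exact h2 (by rw [e, Subgroup.card_bot])
  have haZ : a ∈ omegaCenterOf T := v.omega ▸ hs.mem_omega (hp.le ha.1) ha.2
  have haH := v.mem_h haZ (v.k_le_p hy) hfy (hcy a ha.1)
  exact ha1 (hp.fpf.2 a ha.1 (hX (rOf_le X hp.mem) a haH))

theorem Vtx.w_le_v (hG : ZN G) : wOf K ≤ vOf (pOf T K) := by
  obtain ⟨y, hy, -, hyO, -⟩ := v.exists_y
  exact (((v.setting hG).comp_facts v.comp v.k_le_p).2.2.2 y hy hyO).2.le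

theorem Vtx.z_le_v (hG : ZN G) : omegaCenterOf T ≤ vOf (pOf T K) := by
  intro z hz
  have hc : z ∈ centralizer (pCoreOf 2 (pOf T K) : Set G) := fun r hr =>
    v.t_comm_z ((v.setting hG).pCore_le hr) hz
  exact mem_omegaCenterOf ((v.setting hG).cen hc) hc
    ((isElementaryAbelian_omegaCenterOf T).2 z hz)

theorem Vtx.vOf_eq_z (hG : ZN G) : vOf (pOf T K) = wOf K ⊔ omegaCenterOf T := by
  refine le_antisymm ?_ (sup_le (v.w_le_v hG) (v.z_le_v hG))
  refine ((v.setting hG).vOf_le_of_planes (Y := wOf K)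
    fun x W' hp => (v.plane_unique (v.setting hG) v.k_le_p inf_le_right hp).le).trans ?_
  refine sup_le_sup_left (fun a ha => ?_) _
  exact v.omega ▸ (v.setting hG).mem_omega ha.1
    (centralizer_le (SetLike.coe_subset_coe.mpr (v.setting hG).j_le_jOf) ha.2)

theorem Vtx.vOf_eq (hG : ZN G) : vOf (pOf T K) = wOf K ⊔ hOf T K := by
  rw [v.vOf_eq_z hG, ← v.z_eq]
  refine le_antisymm (sup_le le_sup_left (sup_le le_sup_right (inf_le_right.trans le_sup_left)))
    (sup_le le_sup_left (le_sup_left.trans le_sup_right))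

theorem Vtx.mem_v (hG : ZN G) {x : G} :
    x ∈ vOf (pOf T K) ↔ ∃ w ∈ wOf K, ∃ f ∈ hOf T K, x = w * f := by
  have hn : wOf K ≤ normalizer (hOf T K : Set G) := fun a ha =>
    Subgroup.centralizer_le_normalizer _ fun b hb => PGroup.mul_comm_of_elementaryAbelian
      (isElementaryAbelian_omegaCenterOf _) (v.z_le_v hG hb.1) (v.w_le_v hG ha)
  rw [v.vOf_eq hG, Coprime.mem_sup_iff_of_le_normalizer hn]
  constructor
  · rintro ⟨w, hw, f, hf, rfl⟩
    exact ⟨w, hw, f, hf, rfl⟩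
  · rintro ⟨w, hw, f, hf, rfl⟩
    exact ⟨w, hw, f, hf, rfl⟩

theorem Vtx.v_card (hG : ZN G) :
    Nat.card ↥(vOf (pOf T K)) = 2 * Nat.card ↥(omegaCenterOf T) := by
  have hn : wOf K ≤ normalizer (omegaCenterOf T : Set G) := fun a ha =>
    Subgroup.centralizer_le_normalizer _ fun b hb => PGroup.mul_comm_of_elementaryAbelian
      (isElementaryAbelian_omegaCenterOf _) (v.z_le_v hG hb) (v.w_le_v hG ha)
  have e := Offender.card_sup_mul_card_inf hn
  rw [v.w4, show wOf K ⊓ omegaCenterOf T = lineOf T K from inf_comm _ _, v.line_card,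
    ← v.vOf_eq_z hG] at e
  omega

theorem Vtx.comm_mem (hG : ZN G) {g x : G} (hg : g ∈ pOf T K) (hx : x ∈ vOf (pOf T K)) :
    ⁅x, g⁆ ∈ wOf K := by
  obtain ⟨w, hw, f, hf, rfl⟩ := (v.mem_v hG).mp hx
  have hfg : Commute f g := hg.2 f hf
  rw [show ⁅w * f, g⁆ = w * (f * g * f⁻¹) * w⁻¹ * g⁻¹ by rw [commutatorElement_def]; group,
    show f * g * f⁻¹ = g from mul_inv_eq_iff_eq_mul.mpr hfg.eq,
    show w * g * w⁻¹ * g⁻¹ = w * (g * w⁻¹ * g⁻¹) by group]
  exact mul_mem hw ((mem_normalizer_iff.mp hg.1 _).mp (inv_mem hw))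

/-- `T` moves `V` into the line. -/
theorem Vtx.comm_line (hG : ZN G) {t x : G} (ht : t ∈ T) (hx : x ∈ vOf (pOf T K)) :
    ⁅x, t⁆ ∈ lineOf T K := by
  obtain ⟨w, hw, f, hf, rfl⟩ := (v.mem_v hG).mp hx
  have hft : Commute f t := (v.t_comm_z ht hf.1).symm
  rw [show ⁅w * f, t⁆ = w * (f * t * f⁻¹) * w⁻¹ * t⁻¹ by rw [commutatorElement_def]; group,
    show f * t * f⁻¹ = t from mul_inv_eq_iff_eq_mul.mpr hft.eq,
    show w * t * w⁻¹ * t⁻¹ = w * (t * w⁻¹ * t⁻¹) by group]
  by_cases hwl : w ∈ lineOf T K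
  · rw [show t * w⁻¹ * t⁻¹ = w⁻¹ from
      mul_inv_eq_iff_eq_mul.mpr (v.t_comm_z ht (inv_mem hwl.1)).eq, mul_inv_cancel]
    exact one_mem _
  have hidx : ((lineOf T K).subgroupOf (wOf K)).index = 2 := by
    have h1 := relIndex_mul_relIndex ⊥ (lineOf T K) (wOf K) bot_le inf_le_right
    rw [relIndex_bot_left, relIndex_bot_left, v.line_card, v.w4] at h1
    show (lineOf T K).relIndex (wOf K) = 2
    omega
  have htw : t * w⁻¹ * t⁻¹ ∈ wOf K := (mem_normalizer_iff.mp (v.t_normW ht) _).mp (inv_mem hw)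
  have h1 := Subgroup.mul_mem_iff_of_index_two hidx (a := ⟨w, hw⟩) (b := ⟨_, htw⟩)
  refine mem_subgroupOf.mp (h1.mpr ⟨fun h => absurd (mem_subgroupOf.mp h) hwl, fun h => ?_⟩)
  refine absurd ?_ hwl
  have h2 : t * w⁻¹ * t⁻¹ ∈ lineOf T K := h
  have h3 := v.t_comm_z (inv_mem ht) h2.1
  have h4 : t * w⁻¹ * t⁻¹ = w⁻¹ := by
    have := h3.eq
    rw [show t⁻¹ * (t * w⁻¹ * t⁻¹) = w⁻¹ * t⁻¹ by group] at this
    exact (mul_right_cancel this).symm
  exact inv_mem_iff.mp (h4 ▸ h2)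

theorem Vtx.core_comm {r x : G} (hr : r ∈ pCoreOf 2 (pOf T K)) (hx : x ∈ vOf (pOf T K)) :
    Commute r x := (omegaCenterOf_le _ hx).2 r hr

theorem Vtx.mem_core_iff (hG : ZN G) {t : G} (ht : t ∈ T) :
    t ∈ pCoreOf 2 (pOf T K) ↔ t ∈ centralizer (wOf K : Set G) := by
  refine ⟨fun h w hw => ((v.core_comm h (v.w_le_v hG hw)).symm.eq), fun h => ?_⟩
  refine (v.setting hG).inf_cOf_le ⟨ht, v.t_le_p ht, fun x hx => ?_⟩
  obtain ⟨w, hw, f, hf, rfl⟩ := (v.mem_v hG).mp hx
  exact ((show Commute w t from h w hw).mul_left (v.t_comm_z ht hf.1).symm).eq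

theorem Vtx.exists_moving : ∃ a ∈ T, a ∉ centralizer (wOf K : Set G) := by
  obtain ⟨S, A, -, -, -, -, hAJ, -, hAW, -⟩ := comp_data v.comp v.syl.2.1
  obtain ⟨a, ha, hac⟩ := SetLike.not_le_iff_exists.mp hAW
  exact ⟨a, PGroup.thompsonSubgroupOf_le T (hAJ ha), hac⟩

theorem Vtx.sq_mem {t : G} (ht : t ∈ T) : t ^ 2 ∈ centralizer (wOf K : Set G) := by
  obtain ⟨k, hk⟩ := v.syl.2.1 ⟨t, ht⟩
  refine sq_mem_of_two_pow v.w4 (v.t_normW ht) (k := k) ?_
  rw [show t ^ 2 ^ k = 1 by simpa using congrArg Subtype.val hk]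
  exact one_mem _

theorem Vtx.card_t (hG : ZN G) : Nat.card T = 2 * Nat.card ↥(pCoreOf 2 (pOf T K)) := by
  have hle := (v.setting hG).pCore_le
  obtain ⟨a, ha, hac⟩ := v.exists_moving
  have h2 := card_le_two_mul v.w4 v.syl.2.1 v.t_normW ha hac
  have h3 : Nat.card ↥(T ⊓ centralizer (wOf K : Set G)) ≤ Nat.card ↥(pCoreOf 2 (pOf T K)) :=
    card_le_of_le fun t ht => (v.mem_core_iff hG ht.1).mpr ht.2
  have hd := card_dvd_of_le hle
  have hne : Nat.card ↥(pCoreOf 2 (pOf T K)) ≠ Nat.card T := fun e => by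
    have := eq_of_le_of_card_ge hle e.ge
    exact hac ((v.mem_core_iff hG ha).mp (this.ge ha))
  have hpos : 0 < Nat.card T := Nat.card_pos
  obtain ⟨c, hc⟩ := hd
  have hc2 : c ≤ 2 := by
    refine Nat.le_of_mul_le_mul_left ?_ (Nat.card_pos (α := ↥(pCoreOf 2 (pOf T K))))
    rw [← hc]
    omega
  interval_cases c <;> simp_all <;> omega

/-- The centralizer of a nontrivial element of `H` is `N(W) ∩ C(H)`. -/
theorem Vtx.centralizer_eq (hG : ZN G) {x : G} (hx : x ∈ hOf T K) (hx1 : x ≠ 1) :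
    centralizer ({x} : Set G) = pOf T K := by
  have hHx : hOf T K = zpowers x := by
    refine (eq_of_le_of_card_ge (zpowers_le.mpr hx) ?_).symm
    rw [Nat.card_zpowers, orderOf_eq_prime ((isElementaryAbelian_omegaCenterOf T).2 x hx.1) hx1]
    exact v.h_card
  refine le_antisymm ?_ fun g hg => mem_centralizer_singleton_iff.mpr (hg.2 x hx).symm
  have ho : orderOf x = 2 :=
    orderOf_eq_prime ((isElementaryAbelian_omegaCenterOf T).2 x hx.1) hx1
  set X := centralizer ({x} : Set G)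
  have hKX : K ≤ X := fun k hk => mem_centralizer_singleton_iff.mpr (hx.2 k hk)
  have hTX : T ≤ X := fun t ht => mem_centralizer_singleton_iff.mpr (v.t_comm_z ht hx.1).eq
  have hX := isTwoLocal_centralizer ho
  have hXL : X ≤ L :=
    v.uniq X hX (sup_le hKX ((PGroup.thompsonSubgroupOf_le T).trans hTX))
  have hs := v.setting_of hG hX le_rfl hXL hKX hTX
  have hXH : X ≤ centralizer (hOf T K : Set G) := by
    rw [hHx]
    intro g hg z hz
    obtain ⟨i, rfl⟩ := mem_zpowers_iff.mp hz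
    exact ((show Commute g x from mem_centralizer_singleton_iff.mp hg).zpow_right i).symm.eq
  refine le_inf (fun g hg => ?_) hXH
  obtain ⟨y, hy, -, hyO, -⟩ := v.exists_y
  have hp := ((hs.comp_facts v.comp hKX).2.2.2 y hy hyO).2
  exact PGroup.mem_normalizer_of_map_conj_eq (v.plane_unique hs hKX hXH (hp.map_conj hg))

omit [Finite G] v in
theorem map_centralizer_conj (g : G) (X : Subgroup G) :
    (centralizer (X : Set G)).map (MulAut.conj g).toMonoidHom =
      centralizer ((X.map (MulAut.conj g).toMonoidHom : Subgroup G) : Set G) := by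
  ext a
  rw [mem_map_equiv, mem_centralizer_iff, mem_centralizer_iff]
  constructor
  · rintro h _ ⟨x, hx, rfl⟩
    have := congrArg (MulAut.conj g) (h x hx)
    simpa [mul_assoc] using this
  · intro h x hx
    have := congrArg (MulAut.conj g).symm (h _ ⟨x, hx, rfl⟩)
    simpa [mul_assoc] using this

omit [Finite G] v in
theorem map_normalizer_conj (g : G) (X : Subgroup G) :
    (normalizer (X : Set G)).map (MulAut.conj g).toMonoidHom =
      normalizer ((X.map (MulAut.conj g).toMonoidHom : Subgroup G) : Set G) :=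
  map_equiv_normalizer_eq X (MulAut.conj g)

omit v in
theorem hOf_map_conj (g : G) : hOf (T.map (MulAut.conj g).toMonoidHom)
    (K.map (MulAut.conj g).toMonoidHom) = (hOf T K).map (MulAut.conj g).toMonoidHom := by
  rw [hOf, hOf, map_inf _ _ _ (MulAut.conj g).injective, omegaCenterOf_map_conj,
    map_centralizer_conj]

omit v in
theorem lineOf_map_conj (g : G) : lineOf (T.map (MulAut.conj g).toMonoidHom)
    (K.map (MulAut.conj g).toMonoidHom) = (lineOf T K).map (MulAut.conj g).toMonoidHom := by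
  rw [lineOf, lineOf, map_inf _ _ _ (MulAut.conj g).injective, omegaCenterOf_map_conj,
    wOf_map_conj]

omit v in
theorem pOf_map_conj (g : G) : pOf (T.map (MulAut.conj g).toMonoidHom)
    (K.map (MulAut.conj g).toMonoidHom) = (pOf T K).map (MulAut.conj g).toMonoidHom := by
  rw [pOf, pOf, map_inf _ _ _ (MulAut.conj g).injective, map_centralizer_conj,
    map_normalizer_conj, wOf_map_conj, hOf_map_conj]

omit v in
theorem vOf_map_conj (g : G) (X : Subgroup G) :
    vOf (X.map (MulAut.conj g).toMonoidHom) = (vOf X).map (MulAut.conj g).toMonoidHom := by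
  have : Fact (Nat.Prime 2) := ⟨Nat.prime_two⟩
  rw [vOf, vOf, omegaCenterOf_map_conj, pCoreOf_map_conj]

omit [Finite G] v in
theorem isTwoLocal_map_conj {X : Subgroup G} (h : IsTwoLocal X) (g : G) :
    IsTwoLocal (X.map (MulAut.conj g).toMonoidHom) := by
  obtain ⟨R, h1, h2, rfl⟩ := h
  exact ⟨_, isPGroup_map_conj h1 g,
    fun e => h2 ((map_eq_bot_iff_of_injective _ (MulAut.conj g).injective).mp e),
    map_normalizer_conj g R⟩

theorem Vtx.map_conj (g : G) :
    Vtx (T.map (MulAut.conj g).toMonoidHom) (L.map (MulAut.conj g).toMonoidHom)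
      (K.map (MulAut.conj g).toMonoidHom) := by
  set f := (MulAut.conj g).toMonoidHom
  have hfi : Function.Injective f := (MulAut.conj g).injective
  have hinv : ∀ X : Subgroup G, (X.map (MulAut.conj g⁻¹).toMonoidHom).map f = X := fun X => by
    rw [Subgroup.map_map]
    convert Subgroup.map_id X using 2
    ext a
    simp [f, mul_assoc]
  refine ⟨isJComponent_map_conj v.comp g, ?_, ⟨map_mono v.syl.1, isPGroup_map_conj v.syl.2.1 g,
    ?_⟩, ⟨isTwoLocal_map_conj v.max.1 g, fun N hN hle => ?_⟩, ?_, fun X hX hle => ?_, ?_, ?_⟩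
  · rw [← map_normalizer_conj]
    exact map_mono v.norm
  · rw [relIndex_map_map_of_injective _ _ hfi]
    exact v.syl.2.2
  · have h1 := v.max.2 _ (isTwoLocal_map_conj hN g⁻¹) (by
      rw [← map_le_map_iff_of_injective hfi, hinv]; exact hle)
    rw [← hinv N, h1]
  · rw [jOf, ← PGroup.thompsonSubgroupOf_map_equiv, ← Subgroup.map_sup]
    exact map_mono v.le
  · rw [jOf, ← PGroup.thompsonSubgroupOf_map_equiv, ← Subgroup.map_sup] at hle
    rw [← hinv X]
    refine map_mono (v.uniq _ (isTwoLocal_map_conj hX g⁻¹) ?_)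
    rw [← map_le_map_iff_of_injective hfi, hinv]
    exact hle
  · rw [← omegaCenterOf_map_conj, v.omega, omegaCenterOf_map_conj, j_map_conj]
  · rw [← omegaCenterOf_map_conj, card_map_of_injective hfi]
    exact v.four

end VtxSec

end Cfsg.Agent.JComponent
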